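import Cfsg.Agent.Lib.SL.Col

/-!
Bases of size three and two for solvable completely reducible linear groups.
-/

set_option autoImplicit false
set_option linter.style.haveILetI false

namespace Cfsg.Lib.SL

open Subgroup MulAction Function
open scoped commutatorElement

universe u

section

variable {A V : Type*} [Group A] [AddCommGroup V] [DistribMulAction A V]

/-- elementary operation on tuples -/
def elm {ι : Type*} [DecidableEq ι] {i j : ι} (h : i ≠ j) : Equiv.Perm (ι → V) where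
  toFun t := update t i (t i + t j)
  invFun t := update t i (t i - t j)
  left_inv t := by simp [h.symm]
  right_inv t := by simp [h.symm]

theorem elm_apply {ι : Type*} [DecidableEq ι] {i j : ι} (h : i ≠ j) (t : ι → V) :
    elm h t = update t i (t i + t j) := rfl

theorem elm_smul {ι : Type*} [DecidableEq ι] {i j : ι} (h : i ≠ j) (a : A) (t : ι → V) :
    elm h (a • t) = a • elm h t := by
  ext l
  by_cases e : l = i <;> simp [elm_apply, e]

theorem elm_comm {ι : Type*} [DecidableEq ι] {i j k : ι} (h : i ≠ j) (h1 : i ≠ k) (h2 : k ≠ j) :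
    (elm h : Equiv.Perm (ι → V)) = ⁅(elm h1 : Equiv.Perm (ι → V)), elm h2⁆ := by
  rw [commutatorElement_def, eq_mul_inv_iff_mul_eq, eq_mul_inv_iff_mul_eq]
  ext t l
  by_cases e : l = i
  · simp [elm_apply, e, h.symm, h1, h1.symm, h2.symm]; abel
  · by_cases e' : l = k <;> simp [elm_apply, e, e', h.symm, h1.symm]

theorem isBase_iff {ι : Type*} {t : ι → V} : IsBase A t ↔ ∀ a : A, a • t = t → ∀ v : V, a • v = v :=
  forall_congr' fun _ => imp_congr_left funext_iff.symm

theorem IsBase.perm {ι : Type*} {t : ι → V} (h : IsBase A t) {π : Equiv.Perm (ι → V)}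
    (hπ : ∀ (a : A) s, π (a • s) = a • π s) : IsBase A (π t) :=
  isBase_iff.2 fun a e => isBase_iff.1 h a (π.injective (by rw [hπ, e]))

theorem IsBase.exists_good [Nontrivial V] {t : Fin 2 → V} (h : IsBase A t) :
    ∃ s : Fin 2 → V, IsBase A s ∧ s 0 ≠ 0 ∧ s 0 ≠ s 1 := by
  by_cases h1 : t 0 ≠ 0 ∧ t 0 ≠ t 1
  · exact ⟨t, h, h1⟩
  have h2 : ∀ a : A, a • t 1 = t 1 → ∀ v : V, a • v = v := fun a e => h a fun i => by
    fin_cases i
    · by_cases h0 : t 0 = 0
      · simp [h0]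
      · simpa [not_not.1 fun h => h1 ⟨h0, h⟩] using e
    · exact e
  by_cases h3 : t 1 = 0
  · obtain ⟨v, hv⟩ := exists_ne (0 : V)
    exact ⟨![v, 0], fun a _ => h2 a (by simp [h3]), hv, hv⟩
  · exact ⟨![t 1, 0], fun a e => h2 a (e 0), h3, h3⟩

theorem mult_of {ι : Type*} {p n : ℕ} (hp : p.Prime) (hn : n ≤ p) (hA : ¬ p ∣ Nat.card A)
    (π : Equiv.Perm (ι → V)) (h1 : π ^ p = 1) (hπ : ∀ (a : A) s, π (a • s) = a • π s) {t : ι → V}
    (h : IsBase A t) (hne : π t ≠ t) : ∃ g : Fin n → ι → V, (∀ c, IsBase A (g c)) ∧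
      ∀ c c' (a : A), (∀ i, a • g c i = g c' i) → c = c' := by
  refine ⟨fun c => (π ^ (c : ℕ)) t, fun c => h.perm fun a => ?_, fun c c' a e => Fin.ext
    (mult_prime hp hA π h1 hπ (fun a e s => funext fun i => isBase_iff.1 h a e _) hne (by omega) (by omega)
      a (funext e))⟩
  induction (c : ℕ) with
  | zero => simp
  | succ k ih => intro e; rw [pow_succ, Equiv.Perm.mul_apply, hπ, ih, Equiv.Perm.mul_apply]

theorem Irr.nsmul [Finite V] (h : Irr A V) {p : ℕ} (hp : p.Prime) (hd : p ∣ Nat.card V) (v : V) :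
    p • v = 0 := by
  haveI := Fact.mk hp
  obtain ⟨x, hx⟩ := exists_prime_addOrderOf_dvd_card' p hd
  have := (h (nsmulAddMonoidHom p).ker fun a v hv => by
    change p • a • v = 0
    rw [smul_comm, show p • v = 0 from hv, smul_zero]).resolve_left fun e => by
      have h1 : x ∈ (nsmulAddMonoidHom p : V →+ V).ker := hx ▸ addOrderOf_nsmul_eq_zero x
      rw [e, AddSubgroup.mem_bot] at h1
      rw [h1, addOrderOf_zero] at hx
      exact hp.one_lt.ne hx
  exact (this ▸ AddSubgroup.mem_top v : v ∈ (nsmulAddMonoidHom p : V →+ V).ker)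

end

theorem baseMult_five : BaseMult.{u} (Fin 3) (Fin 5) (fun _ => True) fun _ => True := by
  intro A V _ _ _ _ _ _ _ _ _ _ t₀ h₀
  obtain ⟨t, h, j, hj⟩ : ∃ t : Fin 3 → V, IsBase A t ∧ ∃ j, t j ≠ 0 := by
    by_cases e : ∃ j, t₀ j ≠ 0
    · exact ⟨t₀, h₀, e⟩
    · obtain ⟨v, hv⟩ := exists_ne (0 : V)
      push Not at e
      exact ⟨fun _ => v, fun a _ => h₀ a fun i => by simp [e], 0, hv⟩
  let P : Subgroup (Equiv.Perm (Fin 3 → V)) := closure {π | ∃ (i j : Fin 3) (h : i ≠ j), π = elm h}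
  have mem : ∀ {i j : Fin 3} (h : i ≠ j), elm h ∈ P := fun h => subset_closure ⟨_, _, h, rfl⟩
  have hc : ∀ π ∈ P, ∀ (a : A) s, π (a • s) = a • π s := fun π hπ a s => by
    have : π ∈ centralizer {toPerm a} := by
      refine (closure_le _).2 ?_ hπ
      rintro _ ⟨i, j, h, rfl⟩ _ rfl
      exact Equiv.ext fun s => (elm_smul h a s).symm
    exact (DFunLike.congr_fun (this _ rfl) s).symm
  obtain ⟨i, hi⟩ := exists_ne j
  obtain ⟨g, hg⟩ := mult_perfect (X := A) (P := P) (E := Fin 3 → V) (fun a π s => (hc π π.2 a s).symm)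
    (map_injective P.subtype_injective (by
      rw [map_subtype_commutator, ← MonoidHom.range_eq_map, range_subtype]
      refine le_antisymm (commutator_le_self _) ((closure_le _).2 ?_)
      rintro _ ⟨i, j, h, rfl⟩
      obtain ⟨k, h1, h2⟩ := (by decide : ∀ i j : Fin 3, ∃ k, i ≠ k ∧ k ≠ j) i j
      rw [elm_comm h h1 h2]
      exact commutator_mem_commutator (mem h1) (mem h2))) (t := t) (π := ⟨elm hi, mem hi⟩)
    fun e => hj (by simpa [Subgroup.smul_def, elm_apply] using congrFun e i)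
  exact ⟨fun c => g c • t, fun c => h.perm (hc _ (g c).2), fun c c' a e => hg c c' a (funext e)⟩

theorem baseMult_two : BaseMult.{u} (Fin 2) (Fin 2) (fun n => ¬ 2 ∣ n) fun _ => True := by
  intro A V _ _ _ _ _ _ _ hA _ _ t₀ h₀
  obtain ⟨t, h, -, h1⟩ := h₀.exists_good
  exact mult_of Nat.prime_two le_rfl hA
    (Involutive.toPerm (fun s : Fin 2 → V => ![s 1, s 0]) fun s => by ext i; fin_cases i <;> rfl)
    (Equiv.ext fun s => by ext i; fin_cases i <;> rfl) (fun a s => by ext i; fin_cases i <;> rfl) h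
    fun e => h1 (congrFun e 1)

theorem baseMult_three : BaseMult.{u} (Fin 2) (Fin 3) (fun n => ¬ 3 ∣ n) fun _ => True := by
  intro A V _ _ _ _ _ _ _ hA _ _ t₀ h₀
  obtain ⟨t, h, -, h1⟩ := h₀.exists_good
  exact mult_of Nat.prime_three le_rfl hA
    ⟨fun s => ![s 1, -s 0 - s 1], fun s => ![-s 0 - s 1, s 0], 
      fun s => by ext i; fin_cases i <;> simp [sub_eq_add_neg], fun s => by ext i; fin_cases i <;> simp⟩
    (Equiv.ext fun s => by ext i; fin_cases i <;> simp [pow_succ, sub_eq_add_neg])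
    (fun a s => by ext i; fin_cases i <;> simp [smul_sub]) h fun e => h1 (congrFun e 0).symm

theorem baseMult_prime {p : ℕ} (hp : p.Prime) (h5 : 5 ≤ p) :
    BaseMult.{u} (Fin 2) (Fin 5) (fun n => ¬ p ∣ n) fun n => ∃ k, n = p ^ k := by
  intro A V _ _ _ _ _ _ _ hA ⟨k, hk⟩ irr t₀ h₀
  obtain ⟨t, h, h1, -⟩ := h₀.exists_good
  have hd : p ∣ Nat.card V := hk ▸ dvd_pow_self p fun e => by
    rw [e, pow_zero] at hk
    exact Finite.one_lt_card.ne' hk
  have e1 : ∀ (n : ℕ) (s : Fin 2 → V), (elm (one_ne_zero : (1 : Fin 2) ≠ 0) ^ n) s =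
      update s 1 (s 1 + n • s 0) := fun n => by
    induction n with
    | zero => simp
    | succ n ih => intro s; rw [pow_succ', Equiv.Perm.mul_apply, ih]; simp [elm_apply, succ_nsmul, add_assoc]
  exact mult_of hp h5 hA (elm (one_ne_zero : (1 : Fin 2) ≠ 0))
    (Equiv.ext fun s => by simp [e1, irr.nsmul hp hd]) (elm_smul _) h
    fun e => h1 (by simpa [elm_apply] using congrFun e 1)

theorem basePrim_three : BasePrim.{u} (Fin 3) (fun _ => True) fun _ => True := by
  intro A V _ _ _ _ _ _ _ _ _ _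
  refine (dich (A := A) (V := V)).imp_right fun ⟨x, z, w, h⟩ => ⟨![x, z, w], fun a e v => ?_⟩
  rw [h a (e 0) (e 1) (Or.inl (e 2)), one_smul]

theorem basePrim_two {P Q : ℕ → Prop} (h : ∀ a v, P a → Q v → ¬ 2 ∣ a ∨ ¬ 3 ∣ a ∨ (¬ 2 ∣ v ∧ ¬ 3 ∣ v)) :
    BasePrim.{u} (Fin 2) P Q := by
  intro A V _ _ _ _ _ _ _ _ hP hQ
  refine (dich (A := A) (V := V)).imp_right fun ⟨x, z, w, h'⟩ => ⟨![x, z], fun a e v => ?_⟩
  rw [h' a (e 0) (e 1) (Or.inr (h _ _ hP hQ)), one_smul]

theorem baseEx_three (m : ℕ) : BaseEx.{u} (Fin 3) (fun _ => True) (fun _ => True) m :=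
  baseEx (fun _ _ _ h => h) (fun _ _ _ h => h) basePrim_three baseMult_five
    (fun _ h => colEx (fun _ _ _ h => h) colMult_five (colAff_five h)) m

theorem baseEx_odd (m : ℕ) : BaseEx.{u} (Fin 2) (fun n => ¬ 2 ∣ n) (fun _ => True) m :=
  baseEx (fun _ _ e h e' => h (e'.trans e)) (fun _ _ _ h => h) (basePrim_two fun _ _ h _ => Or.inl h)
    baseMult_two (fun _ h => colEx (fun _ _ e h e' => h (e'.trans e))
      (colMult_prime Nat.prime_two (finRotate 2) (by decide) (by decide)) (colAff_two h)) m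

theorem baseEx_not_three (m : ℕ) : BaseEx.{u} (Fin 2) (fun n => ¬ 3 ∣ n) (fun _ => True) m :=
  baseEx (fun _ _ e h e' => h (e'.trans e)) (fun _ _ _ h => h)
    (basePrim_two fun _ _ h _ => Or.inr (Or.inl h)) baseMult_three
    (fun _ h => colEx (fun _ _ e h e' => h (e'.trans e))
      (colMult_prime Nat.prime_three (finRotate 3) (by decide) (by decide)) (colAff_three h)) m

theorem baseEx_prime {p : ℕ} (hp : p.Prime) (h5 : 5 ≤ p) (m : ℕ) :
    BaseEx.{u} (Fin 2) (fun n => ¬ p ∣ n) (fun n => ∃ k, n = p ^ k) m := by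
  have key : ∀ {r k : ℕ}, r.Prime → r < 5 → ¬ r ∣ p ^ k := fun hr h e => by
    have := (Nat.prime_dvd_prime_iff_eq hr hp).1 (hr.dvd_of_dvd_pow e)
    omega
  exact baseEx (fun _ _ e h e' => h (e'.trans e))
    (fun _ _ e ⟨k, hk⟩ => ((Nat.dvd_prime_pow hp).1 (hk ▸ e)).imp fun _ h => h.2)
    (basePrim_two fun _ _ _ ⟨k, hk⟩ => Or.inr (Or.inr
      (hk ▸ ⟨key Nat.prime_two (by norm_num), key Nat.prime_three (by norm_num)⟩))) (baseMult_prime hp h5)
    (fun m _ X I _ _ _ _ _ h _ => colEx (fun _ _ _ h => h) colMult_five (colAff_five (baseEx_three m))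
      X I h trivial) m

end Cfsg.Lib.SL
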