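import Cfsg.Agent.Lib.SL.Step

/-!
The bottom of the chain: a maximal vector stabiliser.
-/

set_option autoImplicit false
set_option linter.style.haveILetI false

namespace Cfsg.Lib.SL

open Subgroup Polynomial

theorem cyc_pow {K : Type*} [Field K] [Finite K] {r : ℕ} (hr : r.Prime) {l : Kˣ} (hl : ∀ μ, l ≠ μ ^ r)
    (l' : Kˣ) : ∃ (j : ℕ) (μ : Kˣ), l' = l ^ j * μ ^ r := by
  obtain ⟨γ, hγ⟩ := IsCyclic.exists_monoid_generator (α := Kˣ)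
  obtain ⟨a, rfl⟩ := hγ l
  obtain ⟨b, rfl⟩ := hγ l'
  have h1 : Nat.Coprime a r := (Nat.Coprime.symm <| hr.coprime_iff_not_dvd.2 fun ⟨k, hk⟩ =>
    hl (γ ^ k) (by simp only [hk, ← pow_mul, mul_comm]))
  obtain ⟨s, t, hst⟩ := Nat.isCoprime_iff_coprime.2 h1
  obtain ⟨j, hj⟩ := mem_powers_iff_mem_zpowers.2 (zpow_mem (mem_zpowers (γ ^ a)) (s * b))
  refine ⟨j, γ ^ (t * b), ?_⟩
  simp only at hj ⊢
  rw [hj, ← zpow_natCast γ a, ← zpow_mul, ← zpow_natCast _ r, ← zpow_mul, ← zpow_add, ← zpow_natCast]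
  congr 1
  linear_combination (-(b : ℤ)) * hst

theorem units_sq_one {K : Type*} [Field K] (b : Kˣ) (h : b ^ 2 = 1) : b = 1 ∨ b = -1 := by
  have : (b : K) ^ 2 = 1 := by rw [← Units.val_pow_eq_pow_val, h, Units.val_one]
  exact (sq_eq_one_iff.1 this).imp Units.ext Units.ext

namespace Sy

variable {K V Γ : Type*} [Field K] [AddCommGroup V] [Module K V] [Group Γ] [DistribMulAction Γ V]
  (S : Sy K V Γ)

/-- `A` is a maximal vector stabiliser -/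
structure Mx (A : Subgroup Γ) (v : V) : Prop where
  le : A ≤ S.R
  v0 : v ≠ 0
  hx : Fx A v
  free : ∀ v' : V, v' ≠ 0 → Fx A v' → ∀ r ∈ S.R, r • v' = v' → r ∈ A

/-- the quaternion case -/
structure Qd (A : Subgroup Γ) (i j : Γ) : Prop where
  hi : i ∈ S.C A
  hj : j ∈ S.C A
  i2 : i * i = S.s (-1)
  j2 : j * j = S.s (-1)
  bij : S.β i j = -1
  nsq : ∀ μ : Kˣ, -1 ≠ μ ^ 2
  cov : ∀ c ∈ S.C A, c ∈ S.D A ∨ i⁻¹ * c ∈ S.D A ∨ j⁻¹ * c ∈ S.D A ∨ (i * j)⁻¹ * c ∈ S.D A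

theorem exists_Mx [Finite Γ] : ∃ A v, S.Mx A v := by
  haveI := S.ntriv
  obtain ⟨v₀, hv₀⟩ := exists_ne (0 : V)
  obtain ⟨_, ⟨v, hv, rfl⟩, h⟩ := Set.exists_max_image
    ((fun v : V => Nat.card ↥(S.R ⊓ MulAction.stabilizer Γ v)) '' {v : V | v ≠ 0}) id
    (((Set.finite_le_nat (Nat.card Γ)).subset (by
      rintro _ ⟨v, -, rfl⟩
      exact card_le_card_group _))) ⟨_, v₀, hv₀, rfl⟩
  refine ⟨S.R ⊓ MulAction.stabilizer Γ v, v, inf_le_left, hv, fun a ha => ha.2, fun v' h0 hv' r hr e => ?_⟩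
  have := eq_of_le_of_card_ge (H := S.R ⊓ MulAction.stabilizer Γ v) (K := S.R ⊓ MulAction.stabilizer Γ v')
    (fun a ha => ⟨ha.1, hv' a ha⟩) (h _ ⟨v', h0, rfl⟩)
  rw [this]; exact ⟨hr, e⟩

variable {S} {A : Subgroup Γ} {v : V}

theorem Mx.ab (h : S.Mx A v) : A ≤ S.C A := h.hx.le_C h.le h.v0

theorem Mx.of_eig (h : S.Mx A v) {c : Γ} (hc : c ∈ S.R) {v' : V} (h0 : v' ≠ 0) (hv : Fx A v') {a : K}
    (e : c • v' = a • v') : c ∈ S.D A := by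
  have ha : a ≠ 0 := fun h1 => by
    rw [h1, zero_smul, smul_eq_zero_iff_eq] at e; exact h0 e
  have := h.free v' h0 hv ((S.s (Units.mk0 a ha))⁻¹ * c) (mul_mem (inv_mem (S.sR _)) hc)
    (by rw [mul_smul, inv_smul_eq_iff, S.hs, e, Units.val_mk0])
  exact (mul_mem_cancel_left (inv_mem (s_mem_D A _))).1 (le_D A this)

theorem Mx.eig [Finite V] (h : S.Mx A v) {c : Γ} (hc : c ∈ S.C A) {r : ℕ} (hr : r ≠ 0) {ζ : Kˣ}
    (hζ : IsPrimitiveRoot ζ r) {μ : Kˣ} (e : c ^ r = S.s (μ ^ r)) : c ∈ S.D A := by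
  set c₀ := (S.s μ)⁻¹ * c with hc₀
  have hc₀C : c₀ ∈ S.C A := mul_mem (inv_mem (s_mem_C h.le μ)) hc
  have h1 : c₀ ^ r = 1 := by
    rw [hc₀, ← map_inv, Commute.mul_pow (S.s_comm hc.1 _).symm, e, ← map_pow, ← map_mul, inv_pow,
      inv_mul_cancel, map_one]
  let W : Submodule K V :=
    { carrier := {v | Fx A v}
      add_mem' := Fx.add
      zero_mem' := fun a _ => smul_zero a
      smul_mem' := fun c _ hv => Fx.smul h.le hv c }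
  haveI : Nontrivial W := ⟨⟨⟨v, h.hx⟩, 0, fun e => h.v0 (congrArg Subtype.val e)⟩⟩
  let T : Module.End K W :=
    { toFun := fun w => ⟨c₀ • (w : V), Fx.smul_C w.2 hc₀C⟩
      map_add' := fun a b => Subtype.ext (smul_add _ _ _)
      map_smul' := fun a b => Subtype.ext (S.lin c₀ hc₀C.1 a b) }
  have hT : ∀ (k : ℕ) (w : W), ((T ^ k) w : V) = c₀ ^ k • (w : V) := fun k => by
    induction k with
    | zero => simp
    | succ k ih => intro w; rw [pow_succ, Module.End.mul_apply, ih, pow_succ, mul_smul]; rfl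
  have h2 : aeval T (X ^ r - Polynomial.C (1 : K)) = 0 := by
    rw [map_sub, map_pow, aeval_X, map_one, map_one, sub_eq_zero]
    ext w; rw [hT, h1, one_smul]; rfl
  have h3 := (X_pow_sub_one_splits (IsPrimitiveRoot.coe_units_iff.2 hζ)).of_dvd
    (X_pow_sub_C_ne_zero (Nat.pos_of_ne_zero hr) _) (minpoly.dvd K T h2)
  obtain ⟨a, ha⟩ := h3.exists_eval_eq_zero (minpoly.degree_pos (LinearMap.isIntegral T)).ne'
  obtain ⟨w, hw⟩ := (Module.End.hasEigenvalue_of_isRoot ha).exists_hasEigenvector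
  have h4 := h.of_eig hc₀C.1 (fun e => hw.2 (Subtype.ext e)) w.2 (congrArg Subtype.val hw.apply_eq_smul)
  exact (mul_mem_cancel_left (inv_mem (s_mem_D A _))).1 h4

theorem exists_prim {c : Γ} (hc : c ∈ S.R) (hcD : c ∉ S.D A) {r : ℕ} (hr : r.Prime) {l : Kˣ}
    (e : c ^ r = S.s l) : ∃ ζ : Kˣ, IsPrimitiveRoot ζ r := by
  haveI := Fact.mk hr
  obtain ⟨y, hy, hne⟩ : ∃ y ∈ S.R, S.β c y ≠ 1 := by
    by_contra! h
    obtain ⟨t, ht⟩ := S.nondeg c hc fun y hy => (β_eq_one_iff hc hy).1 (h y hy)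
    exact hcD (ht ▸ s_mem_D A t)
  have h1 : S.β c y ^ r = 1 := by rw [← β_pow_left hc hy, e, β_s_left hy]
  exact ⟨_, orderOf_eq_prime h1 hne ▸ IsPrimitiveRoot.orderOf _⟩

theorem β_D {c e : Γ} (hA : A ≤ S.R) (hc : c ∈ S.C A) (he : e ∈ S.D A) : S.β c e = 1 := by
  have heR := D_le hA S.sR he
  rw [← C_D hA] at hc
  rw [β_swap heR hc.1, ((mem_C (D_le hA S.sR)).1 hc).2 e he, inv_one]

variable [Finite Γ] [Finite V] [Finite K]

omit [Finite V] [Finite K] in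
theorem Mx.exists_β (h : S.Mx A v) {c : Γ} (hc : c ∈ S.C A) (hcD : c ∉ S.D A) :
    ∃ c' ∈ S.C A, S.β c c' ≠ 1 := by
  by_contra! h1
  refine hcD (C_C_eq_D h.le ▸ (mem_C (C_le A)).2 ⟨hc.1, fun c' hc' => ?_⟩)
  rw [β_swap hc.1 hc'.1, h1 c' hc', inv_one]

theorem Mx.two (h : S.Mx A v) {c : Γ} (hc : c ∈ S.C A) (hcD : c ∉ S.D A) {r k : ℕ} (hr : r.Prime)
    (hk : r * k = S.n) {l : Kˣ} (e : c ^ r = S.s l) : r = 2 ∧ ∀ μ : Kˣ, -1 ≠ μ ^ 2 := by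
  obtain ⟨ζ, hζ⟩ := exists_prim hc.1 hcD hr e
  have hl : ∀ μ, l ≠ μ ^ r := fun μ e' => hcD (h.eig hc hr.ne_zero hζ (e' ▸ e))
  by_contra hn
  have hsq : ∀ b : Kˣ, b ^ r = 1 → ∃ ν : Kˣ, b ^ r.choose 2 = ν ^ r := fun b hb => by
    rcases hr.eq_two_or_odd' with rfl | ⟨m, hm⟩
    · simp only [true_and, not_forall, not_not] at hn
      obtain ⟨μ, hμ⟩ := hn
      rcases units_sq_one b hb with rfl | rfl
      · exact ⟨1, by simp⟩
      · exact ⟨μ, by simpa using hμ⟩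
    · refine ⟨1, ?_⟩
      rw [Nat.choose_two_right, Nat.mul_div_assoc _ (by omega), pow_mul, hb, one_pow, one_pow]
  obtain ⟨c', hc', hne⟩ := h.exists_β hc hcD
  obtain ⟨l', hl'⟩ := S.pow c' hc'.1
  obtain ⟨j, μ, hj⟩ := cyc_pow hr hl l'
  have hck := pow_mem hc' k
  have hcj := inv_mem (pow_mem hc j)
  obtain ⟨ν, hν⟩ := hsq (S.β (c' ^ k) (c ^ j)⁻¹) (by
    rw [← β_pow_left hck.1 hcj.1, ← pow_mul, mul_comm, hk, hl', β_s_left hcj.1])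
  have h1 : (c ^ j)⁻¹ * c' ^ k ∈ S.D A := by
    refine h.eig (mul_mem hcj hck) hr.ne_zero hζ (μ := ν * μ) ?_
    rw [mul_pow_eq hcj.1 hck.1, hν, inv_pow, ← pow_mul, ← pow_mul, mul_comm j, mul_comm k, hk, pow_mul, e,
      hl', hj, ← map_pow, ← map_inv, ← map_mul, ← map_mul, inv_mul_cancel_left, mul_pow]
  have h2 := β_D h.le hc h1
  rw [β_mul_right hc.1 hcj.1 hck.1, β_inv_right hc.1 (pow_mem hc.1 j), β_pow_right hc.1 hc.1, β_self hc.1,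
    one_pow, inv_one, one_mul, β_pow_right hc.1 hc'.1] at h2
  have h3 : S.β c c' ^ r = 1 := by rw [← β_pow_left hc.1 hc'.1, e, β_s_left hc'.1]
  have h4 : Nat.Coprime r k := hr.coprime_iff_not_dvd.2 fun hd =>
    hr.not_isUnit (S.sqf r (hk ▸ Nat.mul_dvd_mul_left r hd))
  exact hne ((pow_eq_one_iff_of_coprime h4).1 ⟨h3, h2⟩)

theorem Mx.rep (h : S.Mx A v) {c : Γ} (hc : c ∈ S.C A) (hcD : c ∉ S.D A) :
    (∀ μ : Kˣ, -1 ≠ μ ^ 2) ∧ ∃ i ∈ S.C A, i * i = S.s (-1) ∧ i⁻¹ * c ∈ S.D A := by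
  have hDR : S.D A ≤ S.R := D_le h.le S.sR
  have key : ∀ c ∈ S.C A, c ∉ S.D A → ∃ k l, 2 * k = S.n ∧ c ^ k ∉ S.D A ∧ (c ^ k) ^ 2 = S.s l ∧
      ∀ μ : Kˣ, -1 ≠ μ ^ 2 := fun c hc hcD => by
    obtain ⟨r, k, hr, hk, h1⟩ := exists_prime_part hDR (s_mem_D A) hc.1 hcD
    obtain ⟨l, hl⟩ := S.pow c hc.1
    rw [← hk, mul_comm, pow_mul] at hl
    obtain ⟨rfl, h2⟩ := h.two (pow_mem hc k) h1 hr hk hl
    exact ⟨k, l, hk, h1, hl, h2⟩
  obtain ⟨k, l, hk, h1, hl, hn⟩ := key c hc hcD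
  have h2 : c ^ 2 ∈ S.D A := by
    by_contra h2
    obtain ⟨k', -, hk', h3, -⟩ := key _ (pow_mem hc 2) h2
    obtain ⟨l', hl'⟩ := S.pow c hc.1
    exact h3 (by rw [← pow_mul, hk', hl']; exact s_mem_D A _)
  have hodd : k % 2 = 1 := by
    by_contra h0
    exact h1 (by rw [show k = 2 * (k / 2) by omega, pow_mul]; exact pow_mem h2 _)
  obtain ⟨j, μ, hj⟩ := cyc_pow Nat.prime_two hn l
  obtain ⟨ζ, hζ⟩ := exists_prim (pow_mem hc.1 k) h1 Nat.prime_two hl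
  rcases Nat.even_or_odd j with hj2 | hj2
  · rw [hj2.neg_one_pow, one_mul] at hj
    exact (h1 (h.eig (pow_mem hc k) two_ne_zero hζ (hj ▸ hl))).elim
  rw [hj2.neg_one_pow] at hj
  refine ⟨hn, S.s μ⁻¹ * c ^ k, mul_mem (s_mem_C h.le _) (pow_mem hc k), ?_, ?_⟩
  · rw [← sq, Commute.mul_pow (S.s_comm (pow_mem hc.1 k) _).symm, hl, hj, ← map_pow, ← map_mul]
    congr 1; simp
  · have : (S.s μ⁻¹ * c ^ k)⁻¹ * c = ((c ^ 2) ^ (k / 2))⁻¹ * (c⁻¹ * (S.s μ⁻¹)⁻¹ * c⁻¹⁻¹) := by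
      rw [← pow_mul]
      conv_lhs => rw [← Nat.div_add_mod k 2, hodd]
      group
    rw [this]
    exact mul_mem (inv_mem (pow_mem h2 _))
      (conj_mem_of hDR (s_mem_D A) (inv_mem hc.1) (inv_mem (s_mem_D A _)))

omit [Finite Γ] [Finite K] in
theorem Mx.anti (h : S.Mx A v) (hn : ∀ μ : Kˣ, -1 ≠ μ ^ 2) {i j : Γ} (hi : i ∈ S.C A) (hj : j ∈ S.C A)
    (i2 : i * i = S.s (-1)) (j2 : j * j = S.s (-1)) (hij : i⁻¹ * j ∉ S.D A) : S.β i j = -1 := by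
  have h1 : S.β i j ^ 2 = 1 := by rw [← β_pow_left hi.1 hj.1, sq, i2, β_s_left hj.1]
  refine (units_sq_one _ h1).resolve_left fun e => hij ?_
  have hζ : IsPrimitiveRoot (-1 : Kˣ) 2 := by
    haveI := Fact.mk Nat.prime_two
    exact orderOf_eq_prime (p := 2) (x := (-1 : Kˣ)) (by simp) (by simpa using hn 1) ▸
      IsPrimitiveRoot.orderOf _
  refine h.eig (mul_mem (inv_mem hi) hj) two_ne_zero hζ (μ := 1) ?_
  have hc : Commute i j := (β_eq_one_iff hi.1 hj.1).1 e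
  rw [hc.inv_left.mul_pow, inv_pow, sq, sq, i2, j2, inv_mul_cancel, one_pow, map_one]

theorem Mx.dich (h : S.Mx A v) : S.C A ≤ S.D A ∨ ∃ i j, S.Qd A i j := by
  by_cases hCD : S.C A ≤ S.D A
  · exact Or.inl hCD
  right
  obtain ⟨c, hc, hcD⟩ := SetLike.not_le_iff_exists.1 hCD
  obtain ⟨hn, i, hi, i2, hic⟩ := h.rep hc hcD
  have hiD : i ∉ S.D A := fun e => hcD ((mul_mem_cancel_left (inv_mem e)).1 hic)
  obtain ⟨c', hc', hne⟩ := h.exists_β hi hiD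
  obtain ⟨-, j, hj, j2, hjc⟩ := h.rep hc' fun e => hne (β_D h.le hi e)
  have hij : S.β i j = -1 := by
    refine h.anti hn hi hj i2 j2 fun e => hne ?_
    have := β_D h.le hi (mul_mem e hjc)
    rwa [mul_assoc, mul_inv_cancel_left, β_mul_right hi.1 (inv_mem hi.1) hc'.1, β_inv_right hi.1 hi.1,
      β_self hi.1, inv_one, one_mul] at this
  refine ⟨i, j, hi, hj, i2, j2, hij, hn, fun c hc => ?_⟩
  by_contra! hcon
  obtain ⟨-, l, hl, l2, hlc⟩ := h.rep hc hcon.1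
  have tr : ∀ t, t⁻¹ * c ∉ S.D A → t⁻¹ * l ∉ S.D A := fun t ht e =>
    ht (by simpa [mul_assoc] using mul_mem e hlc)
  have k2 : i * j * (i * j) = S.s (-1) := by
    rw [← sq, mul_pow_eq hi.1 hj.1, β_swap hi.1 hj.1, hij, sq, sq, i2, j2, ← map_mul, ← map_mul]
    simp
  have b1 := h.anti hn hi hl i2 l2 (tr _ hcon.2.1)
  have b2 := h.anti hn hj hl j2 l2 (tr _ hcon.2.2.1)
  have b3 := h.anti hn (mul_mem hi hj) hl k2 l2 (tr _ hcon.2.2.2)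
  rw [β_mul_left hi.1 hj.1 hl.1, b1, b2] at b3
  exact hn 1 (by simpa using b3.symm)

end Sy

end Cfsg.Lib.SL
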