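import Cfsg.Agent.Lib.SL.Bot

/-!
Levels at the bottom of the chain.
-/

set_option autoImplicit false
set_option linter.style.haveILetI false

namespace Cfsg.Lib.SL

open Subgroup Polynomial

section field

variable {K : Type*} [Field K] [Finite K]

theorem exists_nat_of_prime {p : ℕ} (hp : p.Prime) (h : Nat.card K = p) :
    (p : K) = 0 ∧ ∀ c : K, ∃ n < p, c = n := by
  haveI := Fact.mk hp
  haveI := Fintype.ofFinite K
  rw [Nat.card_eq_fintype_card] at h
  haveI := charP_of_card_eq_prime h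
  refine ⟨CharP.cast_eq_zero K p, fun c => ?_⟩
  obtain ⟨a, rfl⟩ := (ZMod.castHom_bijective K h).2 c
  exact ⟨a.val, a.val_lt, by rw [ZMod.castHom_apply, ZMod.natCast_val]⟩

theorem exists_gen : ∃ θ : Kˣ, (∀ σ : K →+* K, σ θ = θ → ∀ c, σ c = c) ∧ orderOf θ = Nat.card K - 1 := by
  obtain ⟨θ, hθ⟩ := IsCyclic.exists_monoid_generator (α := Kˣ)
  refine ⟨θ, fun σ h c => ?_, ?_⟩
  · by_cases hc : c = 0
    · rw [hc, map_zero]
    obtain ⟨n, hn⟩ := hθ (Units.mk0 c hc)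
    have : c = (θ : K) ^ n := by rw [← Units.val_pow_eq_pow_val]; exact (congrArg Units.val hn).symm
    rw [this, map_pow, h]
  · rw [← Nat.card_units]
    exact orderOf_eq_card_of_forall_mem_powers hθ

theorem exists_gen_avoid (h7 : 7 ≤ Nat.card K) (h2 : (2 : K) ≠ 0) (t₀ t₁ t₂ : K) :
    ∃ θ : K, θ ≠ t₀ ∧ θ ≠ t₁ ∧ θ ≠ t₂ ∧ ∀ σ : K →+* K, σ θ = θ → ∀ c, σ c = c := by
  obtain ⟨γ, hγ, ho⟩ := exists_gen (K := K)
  obtain ⟨δ, h0, h1, h2', h3⟩ : ∃ δ : K, δ ≠ γ ∧ δ ≠ γ + 1 ∧ δ ≠ γ + 2 ∧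
      ∀ σ : K →+* K, σ δ = δ → σ γ = γ := by
    by_cases h3 : (3 : K) = 0
    · have key : ∀ k : K, k * k = 1 ∨ k = 0 → -(γ : K) ≠ γ + k := fun k hk e => by
        have e2 : (γ : K) = k := by linear_combination e + (γ : K) * h3
        rcases hk with hk | hk
        · have : orderOf γ ∣ 2 := orderOf_dvd_of_pow_eq_one (Units.ext (by simp [sq, e2, hk]))
          have := Nat.le_of_dvd two_pos this
          omega
        · exact γ.ne_zero (e2.trans hk)
      refine ⟨-γ, by simpa using key 0 (Or.inr rfl), key 1 (Or.inl (by simp)),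
        key 2 (Or.inl (by linear_combination h3)), fun σ h => by simpa using h⟩
    · refine ⟨γ + 3, by simpa using h3, fun e => h2 (by linear_combination e),
        fun e => one_ne_zero (α := K) (by linear_combination e), fun σ h => by simpa [map_ofNat] using h⟩
  by_contra! hc
  have a0 := fun a b c => hc γ a b c
  have a1 := fun a b c => hc (γ + 1) a b c
  have a2 := fun a b c => hc (γ + 2) a b c
  have a3 := fun a b c => hc δ a b c
  have b0 : ¬ ∃ σ : K →+* K, σ γ = γ ∧ ∃ c, σ c ≠ c := fun ⟨σ, h, c, hc⟩ => hc (hγ σ h c)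
  have b1 : ¬ ∃ σ : K →+* K, σ (γ + 1) = γ + 1 ∧ ∃ c, σ c ≠ c := fun ⟨σ, h, c, hc⟩ =>
    hc (hγ σ (by simpa using h) c)
  have b2 : ¬ ∃ σ : K →+* K, σ (γ + 2) = γ + 2 ∧ ∃ c, σ c ≠ c := fun ⟨σ, h, c, hc⟩ =>
    hc (hγ σ (by simpa [map_ofNat] using h) c)
  have b3 : ¬ ∃ σ : K →+* K, σ δ = δ ∧ ∃ c, σ c ≠ c := fun ⟨σ, h, c, hc⟩ => hc (hγ σ (h3 σ h) c)
  have d01 : (γ : K) ≠ γ + 1 := by simp
  have d02 : (γ : K) ≠ γ + 2 := by simpa using h2
  have d12 : (γ : K) + 1 ≠ γ + 2 := fun e => one_ne_zero (α := K) (by linear_combination -e)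
  have c : ∀ {x : K} {P : Prop}, (x ≠ t₀ → x ≠ t₁ → x ≠ t₂ → P) → ¬ P → x = t₀ ∨ x = t₁ ∨ x = t₂ :=
    fun a b => by by_contra! h; exact b (a h.1 h.2.1 h.2.2)
  have c0 := c a0 b0
  have c1 := c a1 b1
  have c2 := c a2 b2
  have c3 := c a3 b3
  clear a0 a1 a2 a3 b0 b1 b2 b3 c hc h3 hγ ho
  generalize (γ : K) + 1 = x1 at *
  generalize (γ : K) + 2 = x2 at *
  generalize (γ : K) = x0 at *
  grind

theorem exists_ne_of_poly (f : K[X]) (hf : f ≠ 0) (h : f.natDegree < Nat.card K) : ∃ t, f.eval t ≠ 0 := by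
  haveI := Fintype.ofFinite K
  exact f.exists_eval_ne_zero_of_natDegree_lt_card hf (by simpa using h)

theorem exists_pow_ne {k : ℕ} (hk : 0 < k) (h : k + 1 < Nat.card K) (u t : Kˣ) : ∃ γ : Kˣ, γ ^ k * u ≠ t := by
  have h1 : (X * (X ^ k - C ((t * u⁻¹ : Kˣ) : K)) : K[X]) ≠ 0 :=
    mul_ne_zero X_ne_zero (X_pow_sub_C_ne_zero hk _)
  obtain ⟨γ, hγ⟩ := exists_ne_of_poly _ h1 (by
    rw [natDegree_mul X_ne_zero (X_pow_sub_C_ne_zero hk _), natDegree_X_pow_sub_C, natDegree_X]; omega)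
  simp only [eval_mul, eval_X, eval_sub, eval_pow, eval_C, ne_eq, mul_eq_zero, not_or] at hγ
  refine ⟨Units.mk0 γ hγ.1, fun e => hγ.2 ?_⟩
  rw [← e, mul_inv_cancel_right, Units.val_pow_eq_pow_val, Units.val_mk0, sub_self]

theorem exists_sum_sq (h7 : 7 ≤ Nat.card K) (hn : ∀ μ : Kˣ, -1 ≠ μ ^ 2) :
    ∃ α β : K, α ^ 2 + β ^ 2 = -1 ∧ α ^ 2 ≠ 1 ∧ β ^ 2 ≠ 1 := by
  haveI := Fintype.ofFinite K
  have hn' : ∀ t : K, 1 + t ^ 2 ≠ 0 := fun t e => by
    have ht : t ≠ 0 := by rintro rfl; simp at e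
    exact hn (Units.mk0 t ht) (Units.ext (by simp; linear_combination -e))
  have h2 : (2 : K) ≠ 0 := fun e => hn' 1 (by linear_combination e)
  have h4 : Fintype.card K % 4 = 3 := by
    by_contra h
    obtain ⟨t, ht⟩ := FiniteField.isSquare_neg_one_iff.2 h
    exact hn' t (by linear_combination -ht)
  obtain ⟨p, hp⟩ := CharP.exists K
  haveI : NeZero p := ⟨CharP.char_ne_zero_of_finite K p⟩
  obtain ⟨a, b, hab⟩ := CharP.sq_add_sq K p (-1)
  by_cases h1 : ∃ β : K, β ^ 2 = -2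
  swap
  · push Not at h1
    exact ⟨a, b, by simpa using hab, fun e => h1 b (by push_cast at hab; linear_combination hab - e),
      fun e => h1 a (by push_cast at hab; linear_combination hab - e)⟩
  obtain ⟨β, hβ⟩ := h1
  have hβ0 : β ≠ 0 := by rintro rfl; exact h2 (by linear_combination hβ)
  rw [Nat.card_eq_fintype_card] at h7
  have h11 : 7 < Fintype.card K := lt_of_le_of_ne h7 fun e => by
    have := FiniteField.pow_card_sub_one_eq_one β hβ0
    have h0 : ((7 : ℕ) : K) = 0 := by rw [e]; exact FiniteField.cast_card_eq_zero K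
    rw [← e] at this
    push_cast at h0
    exact h2 (by linear_combination (-1 : K) * this + (β ^ 4 - 2 * β ^ 2 + 4) * hβ - h0)
  have q : ∀ a b : K, (C a * X ^ 2 + C 2 * X + C b : K[X]) ≠ 0 ∧
      (C a * X ^ 2 + C 2 * X + C b : K[X]).natDegree ≤ 2 := fun a b =>
    ⟨fun e => h2 (by simpa [coeff_X] using congrArg (coeff · 1) e), natDegree_quadratic_le⟩
  obtain ⟨t, ht⟩ := exists_ne_of_poly ((X - C 0) * (X - C (-β)) * (X - C β⁻¹) *
      (C (-β - 1) * X ^ 2 + C 2 * X + C (β - 1)) * (C (-β + 1) * X ^ 2 + C 2 * X + C (β + 1)) : K[X])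
    (mul_ne_zero (mul_ne_zero (mul_ne_zero (mul_ne_zero (X_sub_C_ne_zero _) (X_sub_C_ne_zero _))
      (X_sub_C_ne_zero _)) (q _ _).1) (q _ _).1) (by
    rw [Nat.card_eq_fintype_card]
    refine lt_of_le_of_lt (natDegree_mul_le.trans (add_le_add (natDegree_mul_le.trans (add_le_add
      (natDegree_mul_le.trans (add_le_add (natDegree_mul_le.trans (add_le_add (natDegree_X_sub_C_le _)
        (natDegree_X_sub_C_le _))) (natDegree_X_sub_C_le _))) (q _ _).2)) (q _ _).2)) h11)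
  simp only [eval_mul, eval_sub, eval_X, eval_C, eval_add, eval_pow, ne_eq, mul_eq_zero, not_or] at ht
  obtain ⟨⟨⟨⟨t1, t2⟩, t3⟩, t4⟩, t5⟩ := ht
  have hd := hn' t
  refine ⟨(1 - t ^ 2 - 2 * β * t) / (1 + t ^ 2), (2 * t + β * (1 - t ^ 2)) / (1 + t ^ 2), ?_, ?_, ?_⟩
  · field_simp
    linear_combination (1 + t ^ 2) ^ 2 * hβ
  · rw [div_pow, Ne, div_eq_one_iff_eq (pow_ne_zero 2 hd)]
    intro e
    have : (2 : K) * 2 * β * ((t - 0) * (t - -β) * (t - β⁻¹)) = 0 := by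
      field_simp
      linear_combination e
    simp only [mul_eq_zero] at this
    tauto
  · rw [div_pow, Ne, div_eq_one_iff_eq (pow_ne_zero 2 hd)]
    intro e
    exact mul_ne_zero t4 t5 (by linear_combination e)

theorem four_sq (h : Nat.card K = 4) (σ : K →+* K) (c : K) : σ (σ c) = c := by
  haveI := Fintype.ofFinite K
  have h4 : c ^ 4 = c := by rw [← h, Nat.card_eq_fintype_card, FiniteField.pow_card]
  have : c * (c - 1) * (c ^ 2 + c + 1) = 0 := by linear_combination h4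
  rcases mul_eq_zero.1 this with h1 | h1
  · rcases mul_eq_zero.1 h1 with h2 | h2
    · simp [h2]
    · simp [sub_eq_zero.1 h2]
  have h2 : σ c ^ 2 + σ c + 1 = 0 := by simpa using congrArg σ h1
  have : (σ c - c) * (σ c - c ^ 2) = 0 := by linear_combination h2 - (σ c + 1 - c) * h1
  rcases mul_eq_zero.1 this with h3 | h3
  · rw [sub_eq_zero.1 h3, sub_eq_zero.1 h3]
  · rw [sub_eq_zero.1 h3, map_pow, sub_eq_zero.1 h3, ← pow_mul, h4]

end field

namespace Sy

variable {K V Γ : Type*} [Field K] [AddCommGroup V] [Module K V] [Group Γ] [DistribMulAction Γ V]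
  {S : Sy K V Γ} {A : Subgroup Γ} {v : V}

theorem lin_of {g : Γ} {σ : K →+* K} (h : ∀ (c : K) (v : V), g • c • v = σ c • g • v) (hσ : ∀ c, σ c = c) :
    S.Lin g := fun c v => by rw [h, hσ]

theorem lin_of_prime [Finite K] {p : ℕ} (hp : p.Prime) (h : Nat.card K = p) {g : Γ} (hs : S.Semi g) :
    S.Lin g := by
  obtain ⟨σ, hσ⟩ := hs
  refine lin_of hσ fun c => ?_
  obtain ⟨n, -, rfl⟩ := (exists_nat_of_prime hp h).2 c
  exact map_natCast σ n

theorem lin_of_four [Finite K] (h : Nat.card K = 4) {g : Γ} (hs : S.Semi g) (ho : Ord K g) : S.Lin g := by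
  obtain ⟨σ, hσ⟩ := hs
  obtain ⟨n, hn, hc⟩ := ho
  have hodd : n % 2 = 1 := by
    rw [h] at hc
    by_contra h0
    have : 2 ∣ Nat.gcd n 4 := Nat.dvd_gcd (by omega) (by norm_num)
    rw [hc] at this
    omega
  have key : ∀ (k : ℕ) (c : K) (v : V), g ^ (2 * k) • c • v = c • g ^ (2 * k) • v := fun k => by
    induction k with
    | zero => simp
    | succ k ih => intro c v; simp only [mul_add, mul_one, pow_add, sq, mul_smul, hσ, ih, four_sq h]
  intro c v
  have e : g = (g ^ (2 * (n / 2)))⁻¹ := by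
    rw [eq_inv_iff_mul_eq_one, ← pow_succ', ← hodd, Nat.div_add_mod, hn]
  rw [e, inv_smul_eq_iff, key, smul_inv_smul]

theorem con_of {x : V} (free : ∀ r ∈ S.R, r • x = x → r ∈ A) {g a b : Γ} (hg : g ∈ normalizer (S.R : Set Γ))
    (hx : g • x = x) (ha : a ∈ S.C A) (hb : b ∈ S.C A) (hab : S.β a b = 1)
    (H : ∀ c ∈ S.C A, ∃ t, g • c • x = S.s t • S.τ a b c • x) : S.Con A g a b := by
  refine ⟨ha, hb, hab, fun c hc => ?_⟩
  obtain ⟨t, ht⟩ := H c hc
  have hτ : S.τ a b c ∈ S.R := (τ_mem ha hb hc).1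
  have := free ((S.s t)⁻¹ * ((S.τ a b c)⁻¹ * (g * c * g⁻¹)))
    (mul_mem (inv_mem (S.sR t)) (mul_mem (inv_mem hτ) (conj_mem hg hc.1))) (by
      rw [mul_smul, mul_smul, ← conj_smul hx, ht, ← mul_smul (S.s t), ← S.s_comm hτ, mul_smul, inv_smul_smul,
        inv_smul_smul])
  exact (mul_mem_cancel_left (inv_mem (s_mem_D A _))).1 (le_D A this)

theorem smul_D (hA : A ≤ S.R) {e : Γ} (he : e ∈ S.D A) :
    ∃ t : Kˣ, (∃ a ∈ A, e = S.s t * a) ∧ ∀ v : V, Fx A v → e • v = (t : K) • v := by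
  obtain ⟨t, a, ha, rfl⟩ := (mem_D hA).1 he
  exact ⟨t, ⟨a, ha, rfl⟩, fun v hv => by rw [mul_smul, hv a ha, S.hs]⟩

theorem Mx.lv1 (h : S.Mx A v) (hCD : S.C A ≤ S.D A) {z w : V} (hz : Fx A z) (hw : Fx A w)
    (hl : ∀ g, S.Semi g → g • v = v → g • z = z → (g • w = w ∨ Ord K g ∨ 5 ≤ Nat.card K) → S.Lin g) :
    S.Lv A v z w := by
  refine ⟨h.le, h.v0, h.free v h.v0 h.hx, h.hx, hz, hw, fun g hg hs hx hz side => ?_⟩
  have hl := hl g hs hx hz side
  refine ⟨hl, 1, 1, con_of (h.free v h.v0 h.hx) hg hx (one_mem _) (one_mem _) (β_self (one_mem _))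
    fun c hc => ⟨1, ?_⟩, fun _ => ⟨rfl, rfl⟩⟩
  obtain ⟨t, -, ht⟩ := smul_D h.le (hCD hc)
  rw [τ_one, map_one, one_smul, ht v h.hx, hl, hx]

theorem Mx.sq_D (h : S.Mx A v) {c e : Γ} (hc : c ∈ S.C A) (he : e ∈ S.D A) {l l' : Kˣ} (h1 : c * c = S.s l)
    (h2 : (c * e) * (c * e) = S.s l') : ∃ t : Kˣ, t ^ 2 * l = l' ∧ ∀ v : V, Fx A v → e • v = (t : K) • v := by
  obtain ⟨t, -, ht⟩ := smul_D h.le he
  refine ⟨t, ?_, ht⟩
  have := congrArg (· • v) h2
  simp only [mul_smul] at this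
  rw [ht v h.hx, ht _ ((h.hx.smul h.le _).smul_C hc), S.lin c hc.1, S.lin c hc.1, S.lin c hc.1, ← mul_smul c,
    h1, S.hs, S.hs, smul_smul, smul_smul, ← sub_eq_zero, ← sub_smul, smul_eq_zero] at this
  exact Units.ext (by simpa [sq] using sub_eq_zero.1 (this.resolve_right h.v0))

theorem Mx.not_D (h : S.Mx A v) (hn : ∀ μ : Kˣ, -1 ≠ μ ^ 2) {c : Γ} (h1 : c * c = S.s (-1)) : c ∉ S.D A :=
  fun e => by
    obtain ⟨t, ht, -⟩ := h.sq_D (one_mem _) e (l := 1) (l' := -1) (by simp) (by simpa using h1)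
    exact hn t (by simpa using ht.symm)

theorem Mx.indep (h : S.Mx A v) {i j : Γ} (q : S.Qd A i j) {a b : K} (e : a • v + b • i • v = 0) :
    a = 0 ∧ b = 0 := by
  have hb : b = 0 := by
    by_contra hb
    refine h.not_D q.nsq q.i2 (h.of_eig q.hi.1 h.v0 h.hx (a := -(b⁻¹ * a)) ?_)
    rw [neg_smul, mul_smul, eq_neg_iff_add_eq_zero, ← inv_smul_smul₀ hb (i • v), ← smul_add, add_comm, e,
      smul_zero]
  rw [hb, zero_smul, add_zero, smul_eq_zero] at e
  exact ⟨e.resolve_right h.v0, hb⟩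

theorem Mx.indep' (h : S.Mx A v) {i j : Γ} (q : S.Qd A i j) {a b a' b' : K}
    (e : a • v + b • i • v = a' • v + b' • i • v) : a = a' ∧ b = b' := by
  have := h.indep q (a := a - a') (b := b - b') (by rw [sub_smul, sub_smul, sub_add_sub_comm, e, sub_self])
  exact ⟨sub_eq_zero.1 this.1, sub_eq_zero.1 this.2⟩

theorem Qd.ii {i j : Γ} (q : S.Qd A i j) (v : V) : i • i • v = -v := by
  rw [← mul_smul, q.i2, S.hs]; simp

theorem Qd.jj {i j : Γ} (q : S.Qd A i j) (v : V) : j • j • v = -v := by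
  rw [← mul_smul, q.j2, S.hs]; simp

theorem Qd.ij {i j : Γ} (q : S.Qd A i j) (v : V) : i • j • v = -(j • i • v) := by
  rw [smul_smul_β q.hi.1 q.hj.1, q.bij]; simp

theorem Qd.kk {i j : Γ} (q : S.Qd A i j) : i * j * (i * j) = S.s (-1) :=
  S.ext' fun v => by simp only [mul_smul, q.ij, smul_neg, q.ii, q.jj, neg_neg, S.hs]; simp

theorem Mx.exists_two (h : S.Mx A v) {i j : Γ} (q : S.Qd A i j) {α β : K} (e : α ^ 2 + β ^ 2 = -1) :
    ∃ v', S.Mx A v' ∧ j • v' = α • v' + β • i • v' := by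
  have key : ∀ u : V, j • (j • u - β • i • u + α • u) =
      α • (j • u - β • i • u + α • u) + β • i • (j • u - β • i • u + α • u) := fun u => by
    simp only [smul_add, smul_sub, S.lin _ q.hi.1, S.lin _ q.hj.1, q.ii, q.jj, q.ij]
    have : (-1 : K) • u = (α ^ 2 + β ^ 2) • u := by rw [e]
    generalize j • i • u = a1 at *
    generalize j • u = a2 at *
    generalize i • u = a3 at *
    linear_combination (norm := module) this
  have hf : ∀ u : V, Fx A u → Fx A (j • u - β • i • u + α • u) := fun u hu => by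
    rw [sub_eq_add_neg]
    exact ((hu.smul_C q.hj).add ((hu.smul_C q.hi).smul h.le β).neg).add (hu.smul h.le α)
  by_cases h1 : j • v - β • i • v + α • v = 0
  swap
  · exact ⟨_, ⟨h.le, h1, hf v h.hx, h.free⟩, key v⟩
  refine ⟨_, ⟨h.le, fun h2 => ?_, hf _ (h.hx.smul_C q.hi), h.free⟩, key _⟩
  have h3 : j • v = β • i • v - α • v := by
    generalize j • v = a2 at *
    generalize i • v = a3 at *
    linear_combination (norm := module) h1
  have h4 : j • i • v = β • v + α • i • v := by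
    rw [← neg_neg (j • i • v), ← q.ij, h3, smul_sub, S.lin _ q.hi.1, S.lin _ q.hi.1, q.ii]
    generalize i • v = a3
    module
  rw [h4, q.ii] at h2
  have h5 := h.indep q (a := 2 * β) (b := 2 * α) (by
    generalize i • v = a3 at *
    linear_combination (norm := module) h2)
  have h6 : (2 : K) ≠ 0 := fun e => q.nsq 1 (Units.ext (by simp; linear_combination -e))
  rw [(mul_eq_zero.1 h5.1).resolve_left h6, (mul_eq_zero.1 h5.2).resolve_left h6] at e
  simp at e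

theorem Mx.con_Q (h : S.Mx A v) {i j : Γ} (q : S.Qd A i j) {α β : K} (hj : j • v = α • v + β • i • v)
    {g : Γ} (hg : g ∈ normalizer (S.R : Set Γ)) (hl : S.Lin g) (hx : g • v = v) (hi : g • i • v = i • v) :
    S.Con A g 1 1 := by
  refine con_of (h.free v h.v0 h.hx) hg hx (one_mem _) (one_mem _) (β_self (one_mem _)) fun c hc => ⟨1, ?_⟩
  have key : ∀ t ∈ S.R, g • t • v = t • v → t⁻¹ * c ∈ S.D A → g • c • v = c • v := fun t ht e he => by
    obtain ⟨l, -, hl'⟩ := smul_D h.le he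
    have := hl' v h.hx
    rw [mul_smul, inv_smul_eq_iff, S.lin t ht] at this
    rw [this, hl, e]
  rw [τ_one, map_one, one_smul]
  rcases q.cov c hc with e | e | e | e
  · exact key 1 (one_mem _) (by simpa using hx) (by simpa using e)
  · exact key i q.hi.1 hi e
  · exact key j q.hj.1 (by rw [hj, smul_add, hl, hl, hx, hi]) e
  · exact key _ (mul_mem q.hi.1 q.hj.1) (by
      simp only [mul_smul, hj, smul_add, S.lin _ q.hi.1, q.ii, hl α, hl β, hi, smul_neg, hx]) e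

theorem Mx.lvQ3 [Finite K] (h : S.Mx A v) {i j : Γ} (q : S.Qd A i j) (h3 : Nat.card K = 3) {α β : K}
    (hj : j • v = α • v + β • i • v) : S.Lv A v (i • v) v := by
  refine ⟨h.le, h.v0, h.free v h.v0 h.hx, h.hx, h.hx.smul_C q.hi, h.hx, fun g hg hs hx hz _ => ?_⟩
  have hl := lin_of_prime Nat.prime_three h3 hs
  exact ⟨hl, 1, 1, h.con_Q q hj hg hl hx hz, fun _ => ⟨rfl, rfl⟩⟩

theorem Mx.lvQ7 [Finite K] (h : S.Mx A v) {i j : Γ} (q : S.Qd A i j) (h7 : 7 ≤ Nat.card K) :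
    ∃ x z, S.Lv A x z x ∧ z ≠ 0 ∧ ∀ ρ ∈ S.R, ρ • x ≠ z := by
  obtain ⟨α, β, e, hα, hβ⟩ := exists_sum_sq h7 q.nsq
  obtain ⟨v, h, hj⟩ := h.exists_two q e
  have h2 : (2 : K) ≠ 0 := fun e => q.nsq 1 (Units.ext (by simp; linear_combination -e))
  obtain ⟨θ, t0, t1, t2, hθ⟩ := exists_gen_avoid h7 h2 0 (α / β) (-β / α)
  have hk : (i * j) • v = (-β) • v + α • i • v := by
    rw [mul_smul, hj, smul_add, S.lin _ q.hi.1, S.lin _ q.hi.1, q.ii]
    generalize i • v = a3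
    module
  have hz : Fx A (θ • v + i • v) := (h.hx.smul h.le θ).add (h.hx.smul_C q.hi)
  have hz0 : θ • v + i • v ≠ 0 := fun e => one_ne_zero (h.indep q (a := θ) (b := 1) (by simpa using e)).2
  have key : ∀ {c t : Γ}, t ∈ S.R → t⁻¹ * c ∈ S.D A → ∃ l : Kˣ, c • v = (l : K) • t • v := fun ht he => by
    obtain ⟨l, -, hl'⟩ := smul_D h.le he
    have := hl' v h.hx
    rw [mul_smul, inv_smul_eq_iff, S.lin _ ht] at this
    exact ⟨l, this⟩
  refine ⟨v, θ • v + i • v, ⟨h.le, h.v0, h.free v h.v0 h.hx, h.hx, hz, h.hx, fun g hg hs hx hz _ => ?_⟩, hz0,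
    fun ρ hρ e => ?_⟩
  · obtain ⟨σ, hσ⟩ := hs
    rw [smul_add, hσ, hx, conj_smul hx] at hz
    have hA : ∀ a ∈ A, g⁻¹ * a * g⁻¹⁻¹ ∈ A := fun a ha => h.free v h.v0 h.hx _
      (conj_mem (inv_mem hg) (h.le ha)) (by rw [inv_inv, mul_smul, mul_smul, hx, h.hx a ha, inv_smul_eq_iff, hx])
    have hi' : g * i * g⁻¹ ∈ S.C A := ⟨conj_mem hg q.hi.1, fun a ha => by
      calc a * (g * i * g⁻¹) = g * (g⁻¹ * a * g⁻¹⁻¹ * i) * g⁻¹ := by group
        _ = _ := by rw [q.hi.2 _ (hA a ha)]; group⟩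
    have i2 : g * i * g⁻¹ * (g * i * g⁻¹) = S.s (-1) := S.ext' fun v => by
      simp only [mul_smul, inv_smul_smul, q.ii, smul_neg, smul_inv_smul, S.hs]; simp
    have key2 : ∀ {t : Γ}, t ∈ S.C A → t * t = S.s (-1) → t⁻¹ * (g * i * g⁻¹) ∈ S.D A →
        ∃ l : K, l ^ 2 = 1 ∧ (g * i * g⁻¹) • v = l • t • v := fun ht tt he => by
      obtain ⟨l, h1, h2⟩ := h.sq_D ht he tt (l' := -1) (by rw [mul_inv_cancel_left, i2])
      have := h2 v h.hx
      rw [mul_smul, inv_smul_eq_iff, S.lin _ ht.1] at this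
      exact ⟨l, by simpa using congrArg Units.val (mul_eq_right.1 h1), this⟩
    rcases q.cov _ hi' with e | e | e | e
    · exact (h.not_D q.nsq i2 e).elim
    · obtain ⟨l, -, hl⟩ := key2 q.hi q.i2 e
      have := h.indep' q (a := σ θ) (b := l) (a' := θ) (b' := 1) (by rw [← hl, hz, one_smul])
      have hlin : S.Lin g := lin_of hσ (hθ σ this.1)
      exact ⟨hlin, 1, 1, h.con_Q q hj hg hlin hx (by rw [conj_smul hx, hl, this.2, one_smul]),
        fun _ => ⟨rfl, rfl⟩⟩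
    · obtain ⟨l, l2, hl⟩ := key2 q.hj q.j2 e
      have := h.indep' q (a := σ θ + l * α) (b := l * β) (a' := θ) (b' := 1)
        (by rw [one_smul, ← hz, hl, hj]; generalize i • v = a3; module)
      exact (hβ (by linear_combination (l * β + 1) * this.2 - β ^ 2 * l2)).elim
    · obtain ⟨l, l2, hl⟩ := key2 (mul_mem q.hi q.hj) q.kk e
      have := h.indep' q (a := σ θ - l * β) (b := l * α) (a' := θ) (b' := 1)
        (by rw [one_smul, ← hz, hl, hk]; generalize i • v = a3; module)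
      exact (hα (by linear_combination (l * α + 1) * this.2 - α ^ 2 * l2)).elim
  · have hc := h.hx.mem_C h.le h.v0 hρ (e ▸ hz)
    rcases q.cov _ hc with e' | e' | e' | e'
    · obtain ⟨l, hl⟩ := key (t := 1) (one_mem _) (by simpa using e')
      exact zero_ne_one (h.indep' q (a := l) (b := 0) (a' := θ) (b' := 1) (by simpa [hl] using e)).2
    · obtain ⟨l, hl⟩ := key q.hi.1 e'
      exact t0 (h.indep' q (a := 0) (b := l) (a' := θ) (b' := 1) (by simpa [hl] using e)).1.symm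
    · obtain ⟨l, hl⟩ := key q.hj.1 e'
      have := h.indep' q (a := l * α) (b := l * β) (a' := θ) (b' := 1)
        (by rw [one_smul, ← e, hl, hj]; generalize i • v = a3; module)
      have hb : β ≠ 0 := fun e => by simp [e] at this
      exact t1 (by field_simp; linear_combination α * this.2 - β * this.1)
    · obtain ⟨l, hl⟩ := key (mul_mem q.hi.1 q.hj.1) e'
      have := h.indep' q (a := l * -β) (b := l * α) (a' := θ) (b' := 1)
        (by rw [one_smul, ← e, hl, hk]; generalize i • v = a3; module)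
      have hb : α ≠ 0 := fun e => by simp [e] at this
      exact t2 (by field_simp; linear_combination (-β) * this.2 - α * this.1)

end Sy

end Cfsg.Lib.SL
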