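import Cfsg.Agent.Lib.SL.Step

/-!
The inductive steps for the prime two and for odd primes.
-/

set_option autoImplicit false
set_option linter.style.haveILetI false

namespace Cfsg.Lib.SL

open Subgroup

namespace Sy

variable {K V Γ : Type*} [Field K] [AddCommGroup V] [Module K V] [Group Γ] [DistribMulAction Γ V]
  {S : Sy K V Γ} [Finite Γ] {A : Subgroup Γ} {x z w : V} {y d : Γ} {r : ℕ} {u : Kˣ}

theorem Lv.proj1 (h : S.Lv A x z w) : ∃ π : V →+ V, (∀ v, Fx A v → π v = v) ∧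
    ∀ ρ ∈ S.R, ρ ∉ S.C A → ∀ v, Fx A v → π (ρ • v) = 0 := by
  obtain ⟨π, hπ⟩ := exists_proj h.le h.hx h.x0 (one_mem S.R)
  refine ⟨π, fun v hv => ?_, fun ρ hρ hc v hv => (hπ ρ hρ v hv).2 (by simpa using hc)⟩
  simpa using (hπ 1 (one_mem _) v hv).1 (by simp)

omit [Finite Γ] in
theorem Lv.ne_of (h : S.Lv A x z w) (hz : z ≠ 0) (hd : d ∈ S.R) (hdA : d ∉ A) (hdz : d • z = z)
    (ρ : Γ) (hρ : ρ ∈ S.R) : ρ • x ≠ z := fun e => by
  have h1 : ρ⁻¹ * d * ρ⁻¹⁻¹ ∈ A := h.free _ (conj_mem_of le_rfl S.sR (inv_mem hρ) hd)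
    (by rw [inv_inv, mul_smul, mul_smul, e, hdz, ← e, inv_smul_smul])
  rw [conj_eq (inv_mem hρ) hd] at h1
  have h2 := h.hz _ h1
  rw [mul_smul, hdz] at h2
  rw [S.s_eq_one hz h2, map_one, one_mul] at h1
  exact hdA h1

omit [Finite Γ] in
theorem St.mem_sub_of (t : S.St A y d r u) (hx : Fx A x) (x0 : x ≠ 0) {a : Γ} (ha : a ∈ A)
    (e : a • y • x = y • x) : a ∈ sub A y := by
  refine t.mem_sub.2 ⟨ha, S.s_eq_one (v := y • x) (by rwa [Ne, smul_eq_zero_iff_eq]) ?_⟩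
  rw [smul_smul_β (t.le ha) t.hy, hx a ha] at e
  rw [S.hs, e]

omit [Finite Γ] in
theorem St.d_not (t : S.St A y d r u) : d ∉ sub A y := fun e => t.ne (t.mem_sub.1 e).2

theorem Lv.good2 (h : S.Lv A x z w) (t : S.St A y d 2 u) : S.Good (sub A y) (z + y • x) x w := by
  intro g hg hs hX hx side
  obtain ⟨π, π1, π0⟩ := h.proj1
  have hy' : g * y * g⁻¹ ∉ S.C A := fun e => t.y_not (h.conj_C' hg hx e)
  rw [smul_add, conj_smul hx] at hX
  have hz : g • z = z := by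
    have := congrArg π hX
    rwa [map_add, map_add, π1 _ (h.fx_g hg hx h.hz), π1 _ h.hz, π0 _ (conj_mem hg t.hy) hy' _ h.hx,
      π0 _ t.hy t.y_not _ h.hx, add_zero, add_zero] at this
  rw [hz, add_right_inj] at hX
  obtain ⟨hl, a, b, hc, hab⟩ := h.good g hg hs hx hz side
  have ha : y⁻¹ * (g * y * g⁻¹) ∈ A :=
    h.free _ (mul_mem (inv_mem t.hy) (conj_mem hg t.hy)) (by rw [mul_smul, hX, inv_smul_smul])
  obtain ⟨a₁, ha₁, e⟩ : ∃ a₁ ∈ A, g * y * g⁻¹ = y * a₁ := ⟨_, ha, by group⟩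
  have h2 : (y * a₁) ^ 2 = S.s u := by rw [← e, conj_pow, t.ypow, hl.conj]
  have h3 : a₁ ∈ sub A y := by
    refine t.mem_sub_of h.hx h.x0 ha₁ ?_
    have h4 : (y * a₁) ^ 2 • x = y ^ 2 • x := by rw [h2, t.ypow]
    rwa [sq, sq, mul_smul, mul_smul, mul_smul, mul_smul, h.hx a₁ ha₁, smul_left_cancel_iff] at h4
  obtain ⟨a', b', hc', h1⟩ := t.lift hg hl h3 e hc
  exact ⟨hl, a', b', hc', fun e => h1 (hab e)⟩

omit [Finite Γ] in
theorem Lv.weak2 (h : S.Lv A x z w) (t : S.St A y d r u) {ρ : Γ} (hρ : ρ ∈ S.R)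
    (e : ρ • (z + y • x) = z + y • x) (e' : ρ • x = x) : ρ ∈ sub A y := by
  have ha := h.free ρ hρ e'
  rw [smul_add, h.hz ρ ha, add_right_inj] at e
  exact t.mem_sub_of h.hx h.x0 ha e

theorem Lv.lv2 (h : S.Lv A x z w) (t : S.St A y d 2 u) (hz : z ≠ 0)
    (hN : ∀ ρ ∈ S.R, ρ • y • x = z → ρ • z ≠ y • x) : S.Lv (sub A y) (z + y • x) x w := by
  obtain ⟨π, π1, π0⟩ := h.proj1
  have hπ : π (z + y • x) = z := by rw [map_add, π1 _ h.hz, π0 _ t.hy t.y_not _ h.hx, add_zero]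
  refine ⟨t.sub_le_R, fun e => hz (by rw [← hπ, e, map_zero]), fun ρ hρ e => ?_,
    (h.hz.mono (sub_le A y)).add ((h.hx.mono (sub_le A y)).smul_C t.y_mem), h.hx.mono (sub_le A y),
    h.hw.mono (sub_le A y), h.good2 t⟩
  have e1 := congrArg π e
  rw [hπ, smul_add, map_add, ← mul_smul] at e1
  by_cases hc : ρ ∈ S.C A
  · rw [π1 _ (h.hz.smul_C hc), π0 _ (mul_mem hρ t.hy) (by rw [mul_mem_cancel_left hc]; exact t.y_not) _
      h.hx, add_zero] at e1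
    rw [smul_add, e1, add_right_inj] at e
    have h1 : y⁻¹ * ρ * y⁻¹⁻¹ ∈ A := h.free _ (conj_mem_of le_rfl S.sR (inv_mem t.hy) hρ)
      (by rw [inv_inv, mul_smul, mul_smul, e, inv_smul_smul])
    rw [conj_eq (inv_mem t.hy) hρ] at h1
    have h2 := h.hz _ h1
    rw [mul_smul, e1] at h2
    rw [S.s_eq_one hz h2, map_one, one_mul] at h1
    exact t.mem_sub_of h.hx h.x0 h1 e
  · rw [π0 _ hρ hc _ h.hz, zero_add] at e1
    by_cases hc' : ρ * y ∈ S.C A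
    · rw [π1 _ (h.hx.smul_C hc'), mul_smul] at e1
      rw [smul_add, e1, add_comm, add_right_inj] at e
      exact (hN ρ hρ e1 e).elim
    · rw [π0 _ (mul_mem hρ t.hy) hc' _ h.hx] at e1
      exact (hz e1.symm).elim

section odd

variable (h : S.Lv A x z w) (t : S.St A y d r u) (hr : r ≠ 2) (γ : Kˣ)
include t hr

omit [Finite Γ] in
theorem St.y2_not : S.s γ * (y * y) ∉ S.C A := fun e => by
  have h1 := ((mem_C t.le).1 e).2 d t.hd
  have hd := t.le t.hd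
  rw [β_mul_right hd (S.sR γ) (mul_mem t.hy t.hy), β_s_right hd, one_mul, ← sq, β_pow_right hd t.hy] at h1
  exact hr ((Nat.prime_dvd_prime_iff_eq t.pr Nat.prime_two).1 (t.prim.dvd_of_pow_eq_one 2 h1))

omit [Finite Γ] hr in
theorem St.eq_three (e : S.β d y ^ 3 = 1) : r = 3 :=
  (Nat.prime_dvd_prime_iff_eq t.pr Nat.prime_three).1 (t.prim.dvd_of_pow_eq_one 3 e)

omit [Finite Γ] hr in
theorem St.y_y2_not : y⁻¹ * (S.s γ * (y * y)) ∉ S.C A := fun e => by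
  rw [← S.s_comm (mul_mem t.hy t.hy), mul_assoc, inv_mul_cancel_left,
    mul_mem_cancel_right (s_mem_C t.le γ)] at e
  exact t.y_not e

include h

theorem Lv.goodOdd (h3 : r = 3 → γ ^ 3 * u ≠ 1 ∨ Nat.card K = 4) :
    S.Good (sub A y) (z + y • x + (S.s γ * (y * y)) • x) x (w + y • x) := by
  intro g hg hs hX hx side
  obtain ⟨π, π1, π0⟩ := h.proj1
  obtain ⟨π', hπ'⟩ := exists_proj h.le h.hx h.x0 t.hy
  set y₂ := S.s γ * (y * y) with hy₂
  have hy₂R : y₂ ∈ S.R := mul_mem (S.sR γ) (mul_mem t.hy t.hy)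
  have hy'R := conj_mem hg t.hy
  have hy₂'R := conj_mem hg hy₂R
  have hy' : g * y * g⁻¹ ∉ S.C A := fun e => t.y_not (h.conj_C' hg hx e)
  have hy₂' : g * y₂ * g⁻¹ ∉ S.C A := fun e => t.y2_not hr γ (h.conj_C' hg hx e)
  rw [smul_add, smul_add, conj_smul hx, conj_smul hx] at hX
  have hz : g • z = z := by
    have := congrArg π hX
    rwa [map_add, map_add, map_add, map_add, π1 _ (h.fx_g hg hx h.hz), π1 _ h.hz, π0 _ hy'R hy' _ h.hx,
      π0 _ t.hy t.y_not _ h.hx, π0 _ hy₂'R hy₂' _ h.hx, π0 _ hy₂R (t.y2_not hr γ) _ h.hx, add_zero,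
      add_zero, add_zero, add_zero] at this
  rw [hz, add_assoc, add_assoc, add_right_inj] at hX
  have hw : g • (w + y • x) = w + y • x → g • w = w ∧ (g * y * g⁻¹) • x = y • x := fun e => by
    rw [smul_add, conj_smul hx] at e
    have := congrArg π e
    rw [map_add, map_add, π1 _ (h.fx_g hg hx h.hw), π1 _ h.hw, π0 _ hy'R hy' _ h.hx,
      π0 _ t.hy t.y_not _ h.hx, add_zero, add_zero] at this
    rw [this, add_right_inj] at e
    exact ⟨this, e⟩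
  obtain ⟨hl, a, b, hc, hab⟩ := h.good g hg hs hx hz (side.imp_left fun e => (hw e).1)
  have e2 : g * y₂ * g⁻¹ = S.s γ * ((g * y * g⁻¹) * (g * y * g⁻¹)) := by
    rw [hy₂]; conv_rhs => rw [← hl.conj γ]
    group
  have e1 := congrArg π' hX
  rw [map_add, map_add, (hπ' y t.hy x h.hx).1 (by simp),
    (hπ' y₂ hy₂R x h.hx).2 (t.y_y2_not γ), add_zero] at e1
  have fin : (g * y * g⁻¹) • x = y • x → y⁻¹ * (g * y * g⁻¹) ∈ A := fun e =>
    h.free _ (mul_mem (inv_mem t.hy) hy'R) (by rw [mul_smul, e, inv_smul_smul])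
  by_cases hA : y⁻¹ * (g * y * g⁻¹) ∈ S.C A
  · have hB : y⁻¹ * (g * y₂ * g⁻¹) ∉ S.C A := fun e => by
      rw [e2, ← mul_assoc, S.s_comm (inv_mem t.hy), mul_assoc, mul_mem_cancel_left (s_mem_C h.le γ),
        ← mul_assoc, mul_mem_cancel_left hA] at e
      exact hy' e
    rw [(hπ' _ hy'R x h.hx).1 hA, (hπ' _ hy₂'R x h.hx).2 hB, add_zero] at e1
    obtain ⟨a₁, ha₁, e⟩ : ∃ a₁ ∈ A, g * y * g⁻¹ = y * a₁ := ⟨_, fin e1, by group⟩
    rw [e1, add_right_inj, e2, hy₂, mul_smul, mul_smul (S.s γ), smul_left_cancel_iff, mul_smul, e1, e,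
      mul_smul, mul_smul, smul_left_cancel_iff] at hX
    obtain ⟨a', b', hc', h1⟩ := t.lift hg hl (t.mem_sub_of h.hx h.x0 ha₁ hX) e hc
    exact ⟨hl, a', b', hc', fun e => h1 (hab (e.imp_right fun e => (hw e).1))⟩
  exfalso
  rw [(hπ' _ hy'R x h.hx).2 hA, zero_add] at e1
  have hB : y⁻¹ * (g * y₂ * g⁻¹) ∈ S.C A := by
    by_contra hB
    rw [(hπ' _ hy₂'R x h.hx).2 hB, eq_comm, smul_eq_zero_iff_eq] at e1
    exact h.x0 e1
  rw [(hπ' _ hy₂'R x h.hx).1 hB] at e1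
  rw [e1, add_comm, add_right_inj] at hX
  obtain ⟨a₁, ha₁, e⟩ : ∃ a₁ ∈ A, g * y * g⁻¹ = y₂ * a₁ := ⟨_, h.free (y₂⁻¹ * (g * y * g⁻¹))
    (mul_mem (inv_mem hy₂R) hy'R) (by rw [mul_smul, hX, inv_smul_smul]), by group⟩
  have hd := t.le t.hd
  have ha₁R := h.le ha₁
  have b2 : ∀ c ∈ S.R, S.β c y₂ = S.β c y ^ 2 := fun c hc => by
    rw [hy₂, β_mul_right hc (S.sR γ) (mul_mem t.hy t.hy), β_s_right hc, one_mul, ← sq, β_pow_right hc t.hy]
  have b1 : S.β d (g * y * g⁻¹) = S.β d y ^ 2 := by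
    rw [e, β_mul_right hd hy₂R ha₁R, ((mem_C h.le).1 (h.ab ha₁)).2 d t.hd, mul_one, b2 d hd]
  have hr3 : r = 3 := by
    have := ((mem_C h.le).1 hB).2 d t.hd
    rw [β_mul_right hd (inv_mem t.hy) hy₂'R, e2, β_mul_right hd (S.sR γ) (mul_mem hy'R hy'R),
      β_mul_right hd hy'R hy'R, b1, β_s_right hd, β_inv_right hd t.hy] at this
    exact t.eq_three (by rw [← this]; group)
  subst hr3
  rcases h3 rfl with h3 | h4
  · have c1 : (y₂ * a₁) ^ 3 = S.s u := by rw [← e, conj_pow, t.ypow, hl.conj]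
    have c2 : y₂ ^ 3 = S.s (γ ^ 3 * u * u) := by
      rw [hy₂, Commute.mul_pow (S.s_comm (mul_mem t.hy t.hy) γ).symm, map_mul, map_mul, map_pow, ← t.ypow,
        ← sq, ← pow_mul, mul_assoc, ← pow_add]
    rw [mul_pow_eq hy₂R ha₁R, b2 _ ha₁R, c2, ← pow_mul, show 2 * Nat.choose 3 2 = 3 * 2 by decide, pow_mul,
      t.β_pow ha₁R, one_pow, map_one, one_mul] at c1
    have c3 : S.s (γ ^ 3 * u) • S.s u • x = S.s u • x := by
      have := congrArg (· • x) c1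
      simp only [mul_smul, h.hx _ (pow_mem ha₁ 3)] at this
      rwa [map_mul, mul_smul] at this
    exact h3 (S.s_eq_one (by rw [Ne, smul_eq_zero_iff_eq]; exact h.x0) c3)
  rcases side with e' | ⟨n, hn, hc⟩ | e'
  · exact hA (h.ab (fin (hw e').2))
  · have hCn : ∀ c ∈ S.C A, ∀ ρ ∈ S.R, ρ * c * ρ⁻¹ ∈ S.C A := fun c hc ρ hρ =>
      conj_mem_of (C_le A) (s_mem_C h.le) hρ hc
    have k1 : y₂⁻¹ * (g * y * g⁻¹) ∈ S.C A := by rw [e, inv_mul_cancel_left]; exact h.ab ha₁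
    have k2 : ∀ k : ℕ, y⁻¹ * (g ^ (2 * k) * y * (g ^ (2 * k))⁻¹) ∈ S.C A := by
      intro k
      induction k with
      | zero => simp
      | succ k ih =>
        have := mul_mem hB (mul_mem (h.conj_C hg hx k1) (h.conj_C hg hx (h.conj_C hg hx ih)))
        convert this using 1
        rw [mul_add, mul_one]; group
    have hodd : n % 2 = 1 := by
      rw [h4] at hc
      by_contra h0
      have : 2 ∣ Nat.gcd n 4 := Nat.dvd_gcd (by omega) (by norm_num)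
      rw [hc] at this
      omega
    have k3 := h.conj_C hg hx (k2 (n / 2))
    have k4 : g * (y⁻¹ * (g ^ (2 * (n / 2)) * y * (g ^ (2 * (n / 2)))⁻¹)) * g⁻¹ =
        (y⁻¹ * (g * y * g⁻¹))⁻¹ := by
      have : g ^ (2 * (n / 2)) = g⁻¹ := by
        rw [eq_inv_iff_mul_eq_one, ← pow_succ, ← hodd, Nat.div_add_mod, hn]
      rw [this]; group
    exact hA (inv_mem_iff.1 (k4 ▸ k3))
  · omega

theorem Lv.lvOdd (h3 : r = 3 → γ ^ 3 * u ≠ 1 ∨ (Nat.card K = 4 ∧ ∀ ρ ∈ S.R, ρ • x ≠ z)) :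
    S.Lv (sub A y) (z + y • x + (S.s γ * (y * y)) • x) x (w + y • x) := by
  obtain ⟨π, π1, π0⟩ := h.proj1
  obtain ⟨π', hπ'⟩ := exists_proj h.le h.hx h.x0 t.hy
  set y₂ := S.s γ * (y * y) with hy₂
  have hy₂R : y₂ ∈ S.R := mul_mem (S.sR γ) (mul_mem t.hy t.hy)
  obtain ⟨π'', hπ''⟩ := exists_proj h.le h.hx h.x0 hy₂R
  have hs := sub_le A y
  have hy₂C : y₂ ∈ S.C (sub A y) := mul_mem (s_mem_C t.sub_le_R γ) (mul_mem t.y_mem t.y_mem)
  have hCn : ∀ c ∈ S.C A, ∀ ρ ∈ S.R, ρ * c * ρ⁻¹ ∈ S.C A := fun c hc ρ hρ =>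
    conj_mem_of (C_le A) (s_mem_C h.le) hρ hc
  have n1 : y⁻¹ * y₂ ∉ S.C A := t.y_y2_not γ
  have n2 : y₂ ∉ S.C A := t.y2_not hr γ
  have p1 : π' (z + y • x + y₂ • x) = y • x := by
    have := (hπ' 1 (one_mem _) z h.hz).2 (by rw [mul_one, inv_mem_iff]; exact t.y_not)
    rw [one_smul] at this
    rw [map_add, map_add, this, (hπ' y t.hy x h.hx).1 (by simp),
      (hπ' y₂ hy₂R x h.hx).2 n1, zero_add, add_zero]
  have p2 : π'' (z + y • x + y₂ • x) = y₂ • x := by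
    have := (hπ'' 1 (one_mem _) z h.hz).2 (by rw [mul_one, inv_mem_iff]; exact n2)
    rw [one_smul] at this
    rw [map_add, map_add, this, (hπ'' y t.hy x h.hx).2 (fun e => n1 (by simpa using inv_mem e)),
      (hπ'' y₂ hy₂R x h.hx).1 (by simp), zero_add, zero_add]
  have hX0 : z + y • x + y₂ • x ≠ 0 := fun e => by
    rw [e, map_zero, eq_comm, smul_eq_zero_iff_eq] at p1
    exact h.x0 p1
  have hXf : Fx (sub A y) (z + y • x + y₂ • x) :=
    ((h.hz.mono hs).add ((h.hx.mono hs).smul_C t.y_mem)).add ((h.hx.mono hs).smul_C hy₂C)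
  have hd := t.le t.hd
  have b2 : ∀ c ∈ S.R, S.β c y₂ = S.β c y ^ 2 := fun c hc => by
    rw [hy₂, β_mul_right hc (S.sR γ) (mul_mem t.hy t.hy), β_s_right hc, one_mul, ← sq, β_pow_right hc t.hy]
  have key : ∀ ρ ∈ S.R, ρ • (z + y • x + y₂ • x) = z + y • x + y₂ • x → y⁻¹ * ρ ∉ S.C A := by
    intro ρ hρ e hc
    have hρC : ρ ∉ S.C A := fun e => t.y_not (inv_mem_iff.1 ((mul_mem_cancel_right e).1 hc))
    have hρy := mul_mem hρ t.hy
    have hρy₂ := mul_mem hρ hy₂R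
    have e1 := congrArg π' e
    have e2 := congrArg π'' e
    rw [smul_add, smul_add, ← mul_smul, ← mul_smul] at e e1 e2
    rw [p1, map_add, map_add, (hπ' ρ hρ z h.hz).1 hc, (hπ' _ hρy x h.hx).2 (fun e => t.y_not
      (by rwa [← mul_assoc, mul_mem_cancel_left hc] at e)), (hπ' _ hρy₂ x h.hx).2 (fun e => n2
      (by rwa [← mul_assoc, mul_mem_cancel_left hc] at e)), add_zero, add_zero] at e1
    have m1 : y₂⁻¹ * (ρ * y) ∈ S.C A := by
      have := mul_mem (hCn _ hc _ (inv_mem t.hy)) (s_mem_C h.le γ⁻¹)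
      rw [S.s_comm (C_le A (hCn _ hc _ (inv_mem t.hy))), map_inv] at this
      rw [hy₂, ← S.s_comm (mul_mem t.hy t.hy)]
      convert this using 1; group
    rw [p2, map_add, map_add, (hπ'' ρ hρ z h.hz).2 (fun e => t.y_not
      (by rwa [← mul_assoc, mul_mem_cancel_left e] at m1)), (hπ'' _ hρy x h.hx).1 m1,
      (hπ'' _ hρy₂ x h.hx).2 (fun e => hρC (by simpa [mul_assoc] using hCn _ e _ hy₂R)), zero_add,
      add_zero] at e2
    rw [e1, e2, add_comm, add_assoc, add_left_inj] at e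
    have m2 : ρ * y₂ ∈ S.C A := by
      by_contra m2
      have := π0 _ hρy₂ m2 x h.hx
      rw [e, π1 _ h.hz] at this
      rw [this, smul_eq_zero_iff_eq] at e
      exact h.x0 e
    have hr3 : r = 3 := by
      have c1 := ((mem_C h.le).1 hc).2 d t.hd
      have c2 := ((mem_C h.le).1 m2).2 d t.hd
      rw [β_mul_right hd (inv_mem t.hy) hρ, β_inv_right hd t.hy, inv_mul_eq_one] at c1
      rw [β_mul_right hd hρ hy₂R, b2 d hd, ← c1] at c2
      exact t.eq_three (by rw [← c2]; group)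
    subst hr3
    rcases h3 rfl with h3 | ⟨-, hN⟩
    · have ha : y₂⁻¹ * (ρ * y) ∈ A :=
        h.free _ (C_le A m1) (by rw [mul_smul, e2, inv_smul_smul])
      obtain ⟨a, ha, ea⟩ : ∃ a ∈ A, ρ = y₂ * (a * y⁻¹) := ⟨_, ha, by group⟩
      have haR := h.le ha
      have c0 : ρ = S.s (γ * S.β a y⁻¹) * (y * a) := by
        rw [ea, β_spec haR (inv_mem t.hy), ← mul_assoc, S.s_comm hy₂R, hy₂, mul_comm γ, map_mul]; group
      have c1 : ρ ^ 3 = S.s (γ ^ 3 * u) * a ^ 3 := by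
        rw [c0, Commute.mul_pow (S.s_comm (mul_mem t.hy haR) _).symm, mul_pow_eq t.hy haR,
          show Nat.choose 3 2 = 3 by decide, t.β_pow haR, ← map_pow, mul_pow, β_inv_right haR t.hy, inv_pow,
          t.β_pow haR, t.ypow, map_mul (S.s) _ u]
        simp [mul_assoc]
      have c2 : a ^ 3 ∈ sub A y := t.mem_sub.2 ⟨pow_mem ha 3, by rw [β_pow_left haR t.hy, t.β_pow haR]⟩
      have c3 : ρ • (z + y • x + y₂ • x) = z + y • x + y₂ • x := by
        rw [smul_add, smul_add, ← mul_smul, ← mul_smul, e1, e2, e]; abel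
      have c4 : ρ ^ 3 • (z + y • x + y₂ • x) = z + y • x + y₂ • x := by
        rw [pow_succ, pow_two, mul_smul, mul_smul, c3, c3, c3]
      rw [c1, mul_smul, hXf _ c2] at c4
      exact h3 (S.s_eq_one hX0 c4)
    · exact hN (ρ⁻¹ * y) (mul_mem (inv_mem hρ) t.hy) (by rw [mul_smul, ← e1, inv_smul_smul])
  refine ⟨t.sub_le_R, hX0, fun ρ hρ e => ?_, hXf, h.hx.mono hs,
    (h.hw.mono hs).add ((h.hx.mono hs).smul_C t.y_mem), h.goodOdd t hr γ fun e => (h3 e).imp_right And.left⟩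
  have hρy := mul_mem hρ t.hy
  have hρy₂ := mul_mem hρ hy₂R
  have e1 := congrArg π' e
  have e2 := congrArg π'' e
  rw [smul_add, smul_add, ← mul_smul, ← mul_smul] at e1 e2
  rw [p1, map_add, map_add, (hπ' ρ hρ z h.hz).2 (key ρ hρ e), zero_add] at e1
  by_cases hc : ρ ∈ S.C A
  · have m1 : y⁻¹ * (ρ * y) ∈ S.C A := by simpa [mul_assoc] using hCn _ hc _ (inv_mem t.hy)
    have m2 : y₂⁻¹ * (ρ * y₂) ∈ S.C A := by simpa [mul_assoc] using hCn _ hc _ (inv_mem hy₂R)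
    have m3 : y⁻¹ * (ρ * y₂) ∉ S.C A := fun e => n1 (by
      have := mul_mem (inv_mem m1) e
      convert this using 1; group)
    rw [(hπ' _ hρy x h.hx).1 m1, (hπ' _ hρy₂ x h.hx).2 m3, add_zero] at e1
    rw [p2, map_add, map_add, (hπ'' ρ hρ z h.hz).2 (fun e => n2
      (inv_mem_iff.1 ((mul_mem_cancel_right hc).1 e))), (hπ'' _ hρy x h.hx).2 (fun e => n1 (by
        have := mul_mem (inv_mem e) m2
        convert this using 1; group)), (hπ'' _ hρy₂ x h.hx).1 m2, zero_add, zero_add] at e2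
    have h1 : y⁻¹ * ρ * y⁻¹⁻¹ ∈ A := h.free _ (conj_mem_of le_rfl S.sR (inv_mem t.hy) hρ)
      (by rw [inv_inv, mul_assoc, mul_smul, e1, inv_smul_smul])
    have h2 : y⁻¹ * ρ * y⁻¹⁻¹ ∈ sub A y := by
      refine t.mem_sub_of h.hx h.x0 h1 ?_
      rw [hy₂, ← mul_assoc, S.s_comm hρ, mul_assoc, mul_smul, mul_smul (S.s γ), smul_left_cancel_iff] at e2
      rw [inv_inv, mul_smul, mul_smul, inv_smul_eq_iff, ← mul_smul y y, ← mul_smul, e2]
    have h3 : ρ = y⁻¹ * ρ * y⁻¹⁻¹ := by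
      have := mem_centralizer_singleton_iff.1 h2.2
      calc ρ = y * (y⁻¹ * ρ * y⁻¹⁻¹) * y⁻¹ := by group
        _ = _ := by rw [← this]; group
    exact h3 ▸ h2
  · exfalso
    rw [(hπ' _ hρy x h.hx).2 (fun e => hc (by simpa [mul_assoc] using hCn _ e _ t.hy)), zero_add] at e1
    have m : y⁻¹ * (ρ * y₂) ∈ S.C A := by
      by_contra m
      rw [(hπ' _ hρy₂ x h.hx).2 m, eq_comm, smul_eq_zero_iff_eq] at e1
      exact h.x0 e1
    refine key ρ⁻¹ (inv_mem hρ) (inv_smul_eq_iff.2 e.symm) ?_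
    have := inv_mem (mul_mem (hCn _ m _ t.hy) (s_mem_C h.le γ⁻¹))
    rw [hy₂, ← S.s_comm (mul_mem t.hy t.hy), mul_assoc y y, S.s_comm t.hy, map_inv] at this
    rw [← S.s_comm t.hy] at this
    convert this using 1
    have := S.s_comm t.hy γ
    calc y⁻¹ * ρ⁻¹ = (y * (y⁻¹ * (ρ * (y * (S.s γ * y)))) * y⁻¹ * (S.s γ)⁻¹)⁻¹ := by group
      _ = _ := by rw [← this]

end odd

end Sy

end Cfsg.Lib.SL
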