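import Cfsg.Agent.Lib.SL.Mdl
import Cfsg.Agent.Lib.SL.Up

/-!
Climbing the chain: vectors pinning down the normaliser of a group of symplectic type.
-/

set_option autoImplicit false
set_option linter.style.haveILetI false

namespace Cfsg.Lib.SL

open Subgroup

namespace Sy

variable {K V Γ : Type*} [Field K] [AddCommGroup V] [Module K V] [Group Γ] [DistribMulAction Γ V]
  {S : Sy K V Γ} [Finite Γ] [Finite K] {A : Subgroup Γ} {x z w : V} {y d : Γ} {r : ℕ} {u : Kˣ}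

variable (S) in
/-- the final outcome -/
def Top : Prop := ∃ x z w : V, (∀ r ∈ S.R, r • x = x → r • z = z → r = 1) ∧ S.Good ⊥ x z w

omit [Finite Γ] [Finite K] in
theorem St.dvd (t : S.St A y d r u) : r ∣ Nat.card K - 1 := by
  rw [← Nat.card_units, t.prim.eq_orderOf]; exact orderOf_dvd_natCard _

omit [Finite Γ] [Finite K] in
theorem St.two_ne (t : S.St A y d 2 u) : (2 : K) ≠ 0 := fun e => by
  rcases units_sq_one _ (t.β_pow (t.le t.hd)) with h | h
  · exact t.ne h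
  · exact t.ne (h.trans (Units.ext (by simp; linear_combination -e)))

omit [Finite Γ] [Finite K] in
theorem Lv.top (h : S.Lv ⊥ x z w) : S.Top := ⟨x, z, w, fun r hr e _ => h.free r hr e, h.good⟩

theorem Lv.top_of (h : S.Lv A x z w) (hz : z ≠ 0 ∨ (2 : K) = 0) (hN : ∀ ρ ∈ S.R, ρ • x ≠ z) : S.Top := by
  induction A using WellFoundedLT.induction generalizing x z w with
  | ind A ih =>
  by_cases hA : A = ⊥
  · exact (hA ▸ h).top
  obtain ⟨y, d, r, u, t⟩ := exists_St h.le h.hx h.x0 hA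
  by_cases hr : r = 2
  · subst hr
    have h' := h.lv2 t (hz.resolve_right t.two_ne) fun ρ hρ e =>
      (hN _ (mul_mem hρ t.hy) (by rwa [mul_smul])).elim
    exact ih _ t.lt h' (Or.inl h.x0) (h'.ne_of h.x0 (t.le t.hd) t.d_not (h.hx d t.hd))
  obtain ⟨γ, hγ⟩ : ∃ γ : Kˣ, r = 3 → γ ^ 3 * u ≠ 1 ∨ (Nat.card K = 4 ∧ ∀ ρ ∈ S.R, ρ • x ≠ z) := by
    by_cases h4 : 4 < Nat.card K
    · obtain ⟨γ, hγ⟩ := exists_pow_ne (k := 3) (by norm_num) h4 u 1
      exact ⟨γ, fun _ => Or.inl hγ⟩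
    · refine ⟨1, fun e => Or.inr ⟨?_, hN⟩⟩
      have := e ▸ t.dvd
      have := Finite.one_lt_card (α := K)
      omega
  have h' := h.lvOdd t hr γ hγ
  exact ih _ t.lt h' (Or.inl h.x0) (h'.ne_of h.x0 (t.le t.hd) t.d_not (h.hx d t.hd))

theorem Bs.top {D : Dat} {v v' : V} {i j : Γ} (b : S.Bs A D.p D.δ v v' i j) (h : S.Lv A x z w)
    (hp : D.p = 3 ∨ D.p = 5) (hK : Nat.card K = D.p) (k0 : D.Ok0) (k1 : D.Ok1) (k2 : D.Ok2)
    (hsq : ∀ r ∈ S.R, ∃ c, r * r = S.s (c ^ 2) ∨ r * r = S.s (-c ^ 2)) : S.Top := by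
  by_cases hA : A = ⊥
  · exact (hA ▸ h).top
  obtain ⟨y, d, r, u, t⟩ := exists_St h.le h.hx h.x0 hA
  obtain rfl : r = 2 := by
    have h1 : r ∣ 2 ^ 2 := t.dvd.trans (by rcases hp with e | e <;> rw [hK, e] <;> norm_num)
    exact (Nat.prime_dvd_prime_iff_eq t.pr Nat.prime_two).1 (t.pr.dvd_of_dvd_pow h1)
  by_cases hA' : sub A y = ⊥
  · exact ⟨_, _, _, fun ρ hρ e e' => mem_bot.1 (hA' ▸ h.weak2 t hρ e e'), hA' ▸ h.good2 t⟩
  obtain ⟨y', d', r, u', t'⟩ := exists_St t.sub_le_R (h.hx.mono (sub_le A y)) h.x0 hA'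
  obtain ⟨y₁, y₂, f⟩ := b.exists_Fr hsq t'.hy t.hy t'.hd.1 t.hd t'.ne (t.mem_sub.1 t'.hd).2 t.ne
  obtain ⟨Q⟩ := b.mod f hp hK
  obtain ⟨h1, h2, h3⟩ := Q.lv ((sub_le _ _).trans ((sub_le _ _).trans b.le)) hp hK k0 k1 k2
  exact h1.top_of (Or.inl h2) h3

omit [Finite Γ] [Finite K] in
theorem sq_three (hK : Nat.card K = 3) : ∀ r ∈ S.R, ∃ c, r * r = S.s (c ^ 2) ∨ r * r = S.s (-c ^ 2) := by
  have h1 : ∀ c : Kˣ, c ^ 2 = 1 := fun c => by
    have := pow_card_eq_one' (x := c)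
    rwa [Nat.card_units, hK] at this
  intro r hr
  obtain ⟨l, hl⟩ := S.nondeg _ (mul_mem hr hr) fun t ht => (β_eq_one_iff (mul_mem hr hr) ht).1
    (by rw [β_mul_left hr hr ht, ← sq, h1])
  refine ⟨1, ?_⟩
  rcases units_sq_one l (h1 l) with rfl | rfl
  · exact Or.inl (by rwa [one_pow])
  · exact Or.inr (by rwa [one_pow])

omit [Finite Γ] in
theorem cast_eq_iff {p : ℕ} (hp : p = 3 ∨ p = 5) (hK : Nat.card K = p) (a b : ℕ) :
    (a : K) = b ↔ a % p = b % p := by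
  haveI := Fact.mk (show p.Prime by rcases hp with rfl | rfl <;> norm_num)
  haveI := Fintype.ofFinite K
  haveI := charP_of_card_eq_prime (Nat.card_eq_fintype_card (α := K) ▸ hK)
  exact CharP.natCast_eq_natCast K p

omit [Finite Γ] in
theorem Mx.bs1 {v : V} (h : S.Mx A v) (hCD : S.C A ≤ S.D A) {p : ℕ} (hp : p = 3 ∨ p = 5)
    (hK : Nat.card K = p) : S.Bs A p false v 0 1 1 := by
  refine ⟨h.le, h.v0, h.hx, fun a _ => smul_zero a, one_mem _, one_mem _, Or.inr ⟨rfl, rfl⟩,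
    fun a b a' b' => ?_, by simp, by simp, fun c hc => ⟨false, false, by simp, by simpa using hCD hc⟩⟩
  simp [← cast_eq_iff hp hK, (smul_left_injective K h.v0).eq_iff]

omit [Finite Γ] in
theorem Mx.bs2 {v : V} (h : S.Mx A v) {i j : Γ} (q : S.Qd A i j) (hK : Nat.card K = 3)
    (hj : j • v = v + i • v) : S.Bs A 3 true v (i • v) i j := by
  refine ⟨h.le, h.v0, h.hx, h.hx.smul_C q.hi, q.hi, q.hj, Or.inl ?_, fun a b a' b' => ?_,
    fun _ => ⟨rfl, q.ii v⟩, fun _ => ⟨hj, ?_⟩, fun c hc => ?_⟩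
  · rw [q.bij]; simpa using q.nsq 1
  · simp only [← cast_eq_iff (Or.inl rfl) hK, forall_const]
    exact ⟨h.indep' q, fun e => by rw [e.1, e.2]⟩
  · rw [← neg_neg (j • i • v), ← q.ij, hj, smul_add, q.ii]; abel
  · rcases q.cov c hc with e | e | e | e
    exacts [⟨false, false, Or.inl rfl, by simpa using e⟩, ⟨true, false, Or.inl rfl, by simpa using e⟩,
      ⟨false, true, Or.inl rfl, by simpa using e⟩, ⟨true, true, Or.inl rfl, by simpa using e⟩]

theorem top [Finite V] (h5 : Nat.card K = 5 → ∀ r ∈ S.R, ∃ c, r * r = S.s (c ^ 2)) : S.Top := by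
  obtain ⟨A, v, h⟩ := S.exists_Mx
  haveI := Fintype.ofFinite K
  rcases h.dich with hCD | ⟨i, j, q⟩
  swap
  · have h4 : Nat.card K % 4 = 3 := by
      by_contra e
      obtain ⟨t, ht⟩ := FiniteField.isSquare_neg_one_iff.2 (Nat.card_eq_fintype_card (α := K) ▸ e)
      have t0 : t ≠ 0 := by rintro rfl; simp at ht
      exact q.nsq (Units.mk0 t t0) (Units.ext (by simp [sq, ← ht]))
    by_cases h3 : Nat.card K = 3
    · obtain ⟨v, h, hj⟩ := h.exists_two q (α := 1) (β := 1) (by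
        have := (exists_nat_of_prime Nat.prime_three h3).1
        push_cast at this
        linear_combination this)
      exact Bs.top (D := d3q) (h.bs2 q h3 (by simpa using hj)) (h.lvQ3 q h3 hj) (Or.inl rfl) h3 d3q_ok0
        d3q_ok1 d3q_ok2 (sq_three h3)
    · obtain ⟨x, z, h1, h2, h3⟩ := h.lvQ7 q (by omega)
      exact h1.top_of (Or.inl h2) h3
  obtain ⟨θ, hθ, -⟩ := exists_gen (K := K)
  have hθv : Fx A ((θ : K) • v) := h.hx.smul h.le _
  have lin : ∀ g, S.Semi g → g • v = v → g • (θ : K) • v = (θ : K) • v → S.Lin g := fun g ⟨σ, hσ⟩ e e' =>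
    lin_of hσ (hθ σ (smul_left_injective K h.v0 (by simpa only [hσ, e] using e')))
  by_cases h4 : Nat.card K = 4
  · refine (h.lv1 hCD (z := 0) (fun a _ => smul_zero a) hθv fun g hs e _ side => ?_).top_of (Or.inr ?_)
      fun ρ _ e => h.v0 ((smul_eq_zero_iff_eq ρ).1 e)
    · rcases side with e' | e' | e'
      exacts [lin g hs e e', lin_of_four h4 hs e', by omega]
    · have := FiniteField.cast_card_eq_zero K
      rw [← Nat.card_eq_fintype_card, h4] at this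
      exact pow_eq_zero_iff two_ne_zero |>.1 (by push_cast at this; linear_combination this)
  have L := h.lv1 hCD hθv hθv fun g hs e e' _ => lin g hs e e'
  by_cases h3 : Nat.card K = 3
  · exact Bs.top (D := d3) (h.bs1 hCD (Or.inl rfl) h3) L (Or.inl rfl) h3 d3_ok0 d3_ok1 d3_ok2 (sq_three h3)
  by_cases h5' : Nat.card K = 5
  · exact Bs.top (D := d5) (h.bs1 hCD (Or.inr rfl) h5') L (Or.inr rfl) h5' d5_ok0 d5_ok1 d5_ok2
      fun r hr => (h5 h5' r hr).imp fun _ => Or.inl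
  by_cases hA : A = ⊥
  · exact (hA ▸ L).top
  obtain ⟨y, d, r, u, t⟩ := exists_St h.le h.hx h.v0 hA
  have hd := t.dvd
  have h1 := Finite.one_lt_card (α := K)
  by_cases hr : r = 2
  · subst hr
    obtain ⟨γ, hγ⟩ := exists_pow_ne (K := K) (k := 4) (by norm_num) (by omega) (u ^ 2) (θ ^ 4)
    have t' := t.scale γ
    generalize S.s γ * y = y at t'
    have h' := L.lv2 t' (smul_ne_zero θ.ne_zero h.v0) fun ρ hρ e e' => hγ (by
      have ha := L.free_D (mul_mem hρ t'.hy) (c := θ) (by rw [mul_smul, e, S.hs])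
      obtain ⟨a, ha, ea⟩ : ∃ a ∈ A, ρ = S.s θ * a * y⁻¹ := ⟨_, ha, by group⟩
      have b1 := t'.β_pow (h.le ha)
      rw [ea, mul_smul, mul_smul, smul_smul_β (h.le ha) (inv_mem t'.hy), hθv a ha, ← S.hs, ← S.hs,
        ← mul_smul, ← mul_smul, ← mul_smul, ← map_mul, ← S.s_comm (inv_mem t'.hy), mul_assoc, ← map_mul,
        mul_smul, inv_smul_eq_iff, ← mul_smul, ← sq, t'.ypow, β_inv_right (h.le ha) t'.hy, ← inv_smul_eq_iff,
        ← map_inv, ← mul_smul, ← map_mul] at e'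
      have b2 := inv_mul_eq_one.1 (S.s_eq_one h.v0 e')
      calc γ ^ 4 * u ^ 2 = (γ ^ 2 * u) ^ 2 := by rw [mul_pow, ← pow_mul]
        _ = θ ^ 4 * (S.β a y ^ 2)⁻¹ := by
          rw [b2, mul_right_comm, mul_pow, ← sq, ← pow_mul, inv_pow]
        _ = _ := by rw [b1, inv_one, mul_one])
    exact h'.top_of (Or.inl h.v0) (h'.ne_of h.v0 (t.le t.hd) t'.d_not (h.hx d t.hd))
  obtain ⟨γ, hγ⟩ : ∃ γ : Kˣ, r = 3 → γ ^ 3 * u ≠ 1 := by
    by_cases h4 : 4 < Nat.card K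
    · exact (exists_pow_ne (k := 3) (by norm_num) h4 u 1).imp fun _ h _ => h
    · exact ⟨1, fun e => by subst e; omega⟩
  have h' := L.lvOdd t hr γ fun e => Or.inl (hγ e)
  exact h'.top_of (Or.inl h.v0) (h'.ne_of h.v0 (t.le t.hd) t.d_not (h.hx d t.hd))

end Sy

end Cfsg.Lib.SL
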