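import Cfsg.Agent.Lib.SL.Imp

/-!
Regular colourings with five, three and two colours.
-/

set_option autoImplicit false
set_option linter.style.haveILetI false

namespace Cfsg.Lib.SL

open Subgroup MulAction

universe u

theorem regCol_iff {X I C : Type*} [Group X] [MulAction X I] (f g : Col I C) (a : X) :
    a • f = g ↔ ∀ i, g (a • i) = f i :=
  ⟨fun e i => by rw [← e, col_smul, inv_smul_smul], fun e => funext fun i => by
    rw [col_smul, ← e, smul_inv_smul]⟩

theorem colMult_five : ColMult.{u} (Fin 5) fun _ => True := by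
  intro X I _ _ _ _ hI _ _ f hf
  obtain ⟨i₀⟩ := hI
  letI : MulAction (alternatingGroup (Fin 5)) (Col I (Fin 5)) :=
    { smul := fun π f i => π • f i
      one_smul := fun f => rfl
      mul_smul := fun π ρ f => rfl }
  obtain ⟨g, hg⟩ := mult_perfect (X := X) (P := alternatingGroup (Fin 5)) (E := Col I (Fin 5))
    (fun _ _ _ => rfl) (commutator_alternatingGroup_eq_top (by simp)) (t := f)
    (π := ⟨finRotate 5, Equiv.Perm.mem_alternatingGroup.2 (by decide)⟩)
    fun e => (by decide : ∀ c, finRotate 5 c ≠ c) _ (congrFun e i₀)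
  exact ⟨fun c i => g c • f i, fun c a ha => hf a fun i => smul_left_cancel _ (ha i),
    fun c c' a ha => hg c c' a ((regCol_iff _ _ a).2 ha)⟩

theorem colMult_prime {p : ℕ} (hp : p.Prime) (ρ : Equiv.Perm (Fin p)) (h1 : ρ ^ p = 1) (h2 : ∀ c, ρ c ≠ c) :
    ColMult.{u} (Fin p) fun n => ¬ p ∣ n := by
  intro X I _ _ _ _ hI _ hX f hf
  obtain ⟨i₀⟩ := hI
  letI : MulAction (Equiv.Perm (Fin p)) (Col I (Fin p)) :=
    { smul := fun π f i => π (f i)
      one_smul := fun f => rfl
      mul_smul := fun π ρ f => rfl }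
  refine ⟨fun c i => (ρ ^ (c : ℕ)) (f i), fun c a ha => hf a fun i => (ρ ^ (c : ℕ)).injective (ha i),
    fun c c' a ha => Fin.ext (mult_prime (X := X) hp hX (toPermHom (Equiv.Perm (Fin p)) (Col I (Fin p)) ρ)
      (by rw [← map_pow, h1, map_one]) (fun _ _ => rfl) (t := f) (fun a e g => (regCol_iff _ _ a).2 fun i => ?_)
      (fun e => h2 _ (congrFun e i₀)) c.2 c'.2 a ?_)⟩
  · rw [hf a ((regCol_iff _ _ a).1 e)]
  · rw [← map_pow, ← map_pow]
    exact (regCol_iff _ _ a).2 ha

theorem colAff_five {m : ℕ} (h : BaseEx.{u} (Fin 3) (fun _ => True) (fun _ => True) m) :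
    ColAff.{u} (Fin 5) (fun _ => True) m := by
  classical
  intro H V _ _ _ _ _ _ hm _ _ irr
  obtain ⟨b, hb⟩ := h H V hm trivial trivial irr
  let f : V → Fin 5 := fun x => if x = 0 then 0 else if x = b 0 then 1 else if x = b 1 then 2 else
    if x = b 2 then 3 else 4
  have key : ∀ x y, f x = f y → y = 0 ∨ y = b 0 ∨ y = b 1 ∨ y = b 2 → x = y := fun x y e hy => by
    simp only [f] at e
    split_ifs at e <;> simp_all
  refine ⟨f, fun t a ha => ?_⟩
  obtain rfl : t = 0 := by simpa using key _ _ (ha 0) (Or.inl rfl)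
  refine ⟨rfl, hb a fun i => by simpa using key _ _ (ha (b i)) (by fin_cases i <;> simp)⟩

theorem colAff_three {m : ℕ} (h : BaseEx.{u} (Fin 2) (fun n => ¬ 3 ∣ n) (fun _ => True) m) :
    ColAff.{u} (Fin 3) (fun n => ¬ 3 ∣ n) m := by
  classical
  intro H V _ _ _ _ _ _ hm hH _ irr
  obtain ⟨b, hb⟩ := h H V hm hH trivial irr
  by_contra hn
  have key : ∀ u v : V, (∀ a : H, a • u = u → a • v = v → ∀ x : V, a • x = x) →
      ∃ a : H, a • u = v ∧ a • v = u ∧ u ≠ v := fun u v huv => by
    by_contra! hc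
    let f : V → Fin 3 := fun x => if x = 0 then 0 else if x = u ∨ x = v then 1 else 2
    have k1 : ∀ x y, f x = f y → (y = 0 → x = 0) ∧ (y = u ∨ y = v → x = y ∨ x = u ∨ x = v) := fun x y e => by
      simp only [f] at e
      split_ifs at e <;> simp_all
    refine hn ⟨f, fun t a ha => ?_⟩
    obtain rfl : t = 0 := by simpa using (k1 _ _ (ha 0)).1 rfl
    have e1 : a • u = u ∨ a • u = v := by simpa using (k1 _ _ (ha u)).2 (Or.inl rfl)
    have e2 : a • v = v ∨ a • v = u := by
      have := (k1 _ _ (ha v)).2 (Or.inr rfl)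
      rw [zero_add] at this
      tauto
    refine ⟨rfl, ?_⟩
    rcases e1 with e1 | e1 <;> rcases e2 with e2 | e2
    · exact huv a e1 e2
    · obtain rfl := smul_left_cancel a (e1.trans e2.symm)
      exact huv a e1 e2
    · obtain rfl := smul_left_cancel a (e1.trans e2.symm)
      exact huv a e1 e2
    · obtain rfl := hc a e1 e2
      exact huv a e1 e2
  have hb' : ∀ a : H, a • b 0 = b 0 → a • b 1 = b 1 → ∀ x : V, a • x = x := fun a e e' =>
    hb a fun i => by fin_cases i <;> assumption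
  generalize b 0 = u at hb'
  generalize b 1 = v at hb'
  obtain ⟨a, a1, a2, a3⟩ := key u v hb'
  obtain ⟨c, c1, c2, -⟩ := key u (-u - v) fun a e e' => hb' a e (by
    rwa [smul_sub, smul_neg, e, sub_right_inj] at e')
  have c3 : c • v = v := by
    rw [smul_sub, smul_neg, c1, sub_eq_iff_eq_add, ← sub_eq_iff_eq_add'] at c2
    rw [← c2]; abel
  have d1 : (a * c) • v = u := by rw [mul_smul, c3, a2]
  have d2 : (a * c) • u = -u - v := by rw [mul_smul, c1, smul_sub, smul_neg, a1, a2]; abel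
  have d3 : (a * c) • (-u - v) = v := by rw [mul_smul, c2, a1]
  have := fix_of_pow (a := a * c) (k := 3) (e := v) ((Nat.prime_three.coprime_iff_not_dvd.2 hH).coprime_dvd_right
    (orderOf_dvd_natCard _)) (by rw [pow_succ, sq, mul_smul, d1, mul_smul, d2, d3])
  exact a3 (d1.symm.trans this)

theorem colAff_two {m : ℕ} (h : BaseEx.{u} (Fin 2) (fun n => ¬ 2 ∣ n) (fun _ => True) m) :
    ColAff.{u} (Fin 2) (fun n => ¬ 2 ∣ n) m := by
  classical
  intro H V _ _ _ _ _ _ hm hH hV irr
  obtain ⟨b, hb⟩ := h H V hm hH trivial irr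
  have hb' : ∀ a : H, a • b 0 = b 0 → a • b 1 = b 1 → ∀ x : V, a • x = x := fun a e e' =>
    hb a fun i => by fin_cases i <;> assumption
  generalize b 0 = v at hb'
  generalize b 1 = w at hb'
  have two : ∀ x : V, x + x = 0 → x = 0 := fun x e =>
    (nsmul_eq_zero_iff_of_coprime (Nat.prime_two.coprime_iff_not_dvd.2 hV)).1
      ⟨(two_nsmul x).trans e, card_nsmul_eq_zero'⟩
  have cop : ∀ (a : H) k, (2 ^ k).Coprime (orderOf a) := fun a k => Nat.Coprime.pow_left k
    ((Nat.prime_two.coprime_iff_not_dvd.2 hH).coprime_dvd_right (orderOf_dvd_natCard a))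
  suffices hS : ∃ S : Finset V, ∀ (t : V) (a : H), (∀ x ∈ S, t + a • x ∈ S) → t = 0 ∧ ∀ x : V, a • x = x by
    obtain ⟨S, hS⟩ := hS
    refine ⟨fun x => if x ∈ S then 1 else 0, fun t a ha => hS t a fun x hx => ?_⟩
    simpa [hx] using ha x
  have one : ∀ u : V, (∀ a : H, a • u = u → ∀ x : V, a • x = x) → ∃ S : Finset V, ∀ (t : V) (a : H),
      (∀ x ∈ S, t + a • x ∈ S) → t = 0 ∧ ∀ x : V, a • x = x := fun u hu => by
    refine ⟨{0, u}, fun t a ha => ?_⟩
    have e1 : t = 0 ∨ t = u := by simpa using ha 0 (by simp)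
    have e2 : t + a • u = 0 ∨ t + a • u = u := by simpa using ha u (by simp)
    by_cases u0 : u = 0
    · exact ⟨e1.elim id fun e => e.trans u0, hu a (by rw [u0, smul_zero])⟩
    rcases e1 with rfl | rfl
    · exact ⟨rfl, hu a (by simpa [u0, smul_eq_zero_iff_eq] using e2)⟩
    · have e3 : a • t = -t := eq_neg_of_add_eq_zero_right (by simpa [u0, smul_eq_zero_iff_eq] using e2)
      have e4 := fix_of_pow (cop a 1) (e := t) (by rw [pow_one, sq, mul_smul, e3, smul_neg, e3, neg_neg])
      exact (u0 (two t (by rw [← eq_neg_iff_add_eq_zero, ← e3, e4]))).elim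
  by_cases v0 : v = 0
  · exact one w fun a e => hb' a (by rw [v0, smul_zero]) e
  by_cases w0 : w = 0
  · exact one v fun a e => hb' a e (by rw [w0, smul_zero])
  by_cases n1 : v = w
  · exact one v fun a e => hb' a e (n1 ▸ e)
  by_cases n2 : v = -w
  · exact one w fun a e => hb' a (by rw [n2, smul_neg, e]) e
  have n3 : v ≠ -v := fun e => v0 (two v (eq_neg_iff_add_eq_zero.1 e))
  have n4 : w ≠ -w := fun e => w0 (two w (eq_neg_iff_add_eq_zero.1 e))
  have n5 : -v ≠ w := fun e => n2 (by rw [← e, neg_neg])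
  refine ⟨{v, -v, w, -w}, fun t a ha => ?_⟩
  have inj : Function.Injective fun x : V => t + a • x := fun x y e => by simpa using e
  have e1 := Finset.eq_of_subset_of_card_le (Finset.image_subset_iff.2 ha)
    (Finset.card_image_of_injective _ inj).ge
  have e2 := Finset.sum_image (s := {v, -v, w, -w}) (f := id) inj.injOn
  rw [e1] at e2
  obtain rfl : t = 0 := two t (two _ (by
    simp [n1, n2, n3, n4, n5] at e2
    rw [e2]; abel))
  have e3 : a • v = v ∨ a • v = -v ∨ a • v = w ∨ a • v = -w := by simpa using ha v (by simp)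
  have e4 : a • w = v ∨ a • w = -v ∨ a • w = w ∨ a • w = -w := by simpa using ha w (by simp)
  have m1 : a • v ≠ a • w := by simpa using n1
  have m2 : a • v ≠ -(a • w) := by rwa [← smul_neg, Ne, smul_left_cancel_iff]
  have e5 : a ^ 2 ^ 2 • v = v ∧ a ^ 2 ^ 2 • w = w := by
    simp only [show 2 ^ 2 = 0 + 1 + 1 + 1 + 1 from rfl, pow_succ, pow_zero, one_mul, mul_smul]
    rcases e3 with e3 | e3 | e3 | e3 <;> rcases e4 with e4 | e4 | e4 | e4 <;>
      first
      | exact (m1 (e3.trans e4.symm)).elim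
      | (refine (m2 ?_).elim; simp only [e3, e4, neg_neg]; done)
      | simp only [smul_neg, e3, e4, neg_neg, and_self]
  exact ⟨rfl, hb' a (fix_of_pow (cop a 2) e5.1) (fix_of_pow (cop a 2) e5.2)⟩

end Cfsg.Lib.SL
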