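import Cfsg.Agent.Lib.SL.Main
import Cfsg.Agent.Lib.Coprime.Sylow

/-!
Two elements with trivial common stabiliser for coprime actions of solvable groups.
-/

set_option autoImplicit false
set_option linter.style.haveILetI false

namespace Cfsg.Lib.SL

open Subgroup
open scoped commutatorElement

open Classical in
theorem card_split {Z L : Type*} [Finite Z] [Fintype L] [PartialOrder L] (t : Z → L) (B : L) :
    Nat.card {z // B ≤ t z} = Nat.card {z // t z = B} + ∑ C with B < C, Nat.card {z // t z = C} := by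
  haveI := Fintype.ofFinite Z
  simp only [Nat.card_eq_fintype_card, Fintype.card_subtype]
  rw [Finset.card_eq_sum_card_fiberwise (f := t) (t := insert B (Finset.univ.filter (B < ·)))
    (fun z hz => by simpa [le_iff_eq_or_lt, eq_comm] using hz), Finset.sum_insert (by simp)]
  congr 1
  · congr 1; ext z; simp +contextual [and_iff_right_iff_imp]
  · refine Finset.sum_congr rfl fun C hC => ?_
    congr 1; ext z
    simp +contextual [and_iff_right_iff_imp, (Finset.mem_filter.1 hC).2.le]

theorem marks {X Y L : Type*} [Finite X] [Finite Y] [Finite L] [PartialOrder L] (s : X → L) (s' : Y → L)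
    (h : ∀ B, Nat.card {x // B ≤ s x} = Nat.card {y // B ≤ s' y}) (y : Y) : ∃ x, s x = s' y := by
  classical
  haveI := Fintype.ofFinite L
  have h1 : ∀ B, Nat.card {x // s x = B} = Nat.card {y // s' y = B} := fun B => by
    induction B using WellFoundedGT.induction with
    | ind B ih =>
    have := h B
    rw [card_split s, card_split s', Finset.sum_congr rfl fun C hC => ih C (Finset.mem_filter.1 hC).2] at this
    exact add_right_cancel this
  haveI : Nonempty {y' // s' y' = s' y} := ⟨⟨y, rfl⟩⟩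
  obtain ⟨x, hx⟩ := (Nat.card_pos_iff.1 ((h1 (s' y)).symm ▸ Nat.card_pos)).1
  exact ⟨x, hx⟩

variable {G : Type*} [Group G] [Finite G]

theorem inner_solvable {A : Subgroup G} (hA : Group.IsSolvable A) (K : Subgroup G)
    (hAK : A ≤ normalizer (K : Set G)) (hc : (Nat.card A).Coprime (Nat.card K)) (hK : Group.IsSolvable K) :
    ∃ t : Fin 2 → G, (∀ i, t i ∈ K) ∧ ∀ a ∈ A, (∀ i, a * t i = t i * a) → a ∈ centralizer (K : Set G) := by
  induction K using WellFoundedLT.induction with
  | ind K ih =>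
  by_cases h0 : K = ⊥
  · exact ⟨1, fun _ => one_mem _, fun a _ _ k hk => by rw [h0, SetLike.mem_coe, mem_bot] at hk; simp [hk]⟩
  obtain ⟨N, hN1, hN⟩ := Finite.exists_le_maximal (p := fun N : Subgroup G => N < K ∧ A ≤ normalizer (N : Set G))
    (a := ⁅K, K⁆) ⟨Coprime.commutator_lt_of_isSolvable hK h0, Coprime.le_normalizer_commutator hAK hAK⟩
  have hNK := hN.prop.1.le
  have hcN := hc.coprime_dvd_right (card_dvd_of_le hNK)
  obtain ⟨u, hu, hu'⟩ := ih N hN.prop.1 hN.prop.2 hcN (Coprime.isSolvable_of_le hNK hK)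
  haveI : (N.subgroupOf K).Normal := ⟨fun n hn k => by
    have := mul_mem (hN1 (commutator_mem_commutator k.2 n.2)) hn
    simpa [commutatorElement_def, mem_subgroupOf] using this⟩
  letI : CommGroup (K ⧸ N.subgroupOf K) :=
    { (inferInstance : Group (K ⧸ N.subgroupOf K)) with
      mul_comm := fun a b => by
        obtain ⟨a, rfl⟩ := QuotientGroup.mk_surjective a
        obtain ⟨b, rfl⟩ := QuotientGroup.mk_surjective b
        rw [← QuotientGroup.mk_mul, ← QuotientGroup.mk_mul, QuotientGroup.eq]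
        simpa [commutatorElement_def, mem_subgroupOf, mul_assoc] using
          hN1 (commutator_mem_commutator (inv_mem b.2) (inv_mem a.2)) }
  let φ : A →* MulAut K := K.normalizerMonoidHom.comp (inclusion hAK)
  let ψ : A → K ⧸ N.subgroupOf K →* K ⧸ N.subgroupOf K := fun a =>
    QuotientGroup.map _ _ (φ a).toMonoidHom fun n hn => (mem_normalizer_iff.1 (hN.prop.2 a.2) n).1 hn
  letI : DistribMulAction A (Additive (K ⧸ N.subgroupOf K)) :=
    { smul := fun a v => Additive.ofMul (ψ a v.toMul)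
      one_smul := fun v => QuotientGroup.induction_on v fun k =>
        congrArg QuotientGroup.mk (DFunLike.congr_fun φ.map_one k)
      mul_smul := fun a b v => QuotientGroup.induction_on v fun k =>
        congrArg QuotientGroup.mk (DFunLike.congr_fun (φ.map_mul a b) k)
      smul_zero := fun a => (ψ a).map_one
      smul_add := fun a => (ψ a).map_mul }
  have sm : ∀ (a : A) (k k' : K), a • Additive.ofMul (k : K ⧸ N.subgroupOf K) = Additive.ofMul ↑k' ↔
      ((a : G) * k * (a : G)⁻¹)⁻¹ * k' ∈ N := fun a k k' => QuotientGroup.eq (a := φ a k)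
  obtain ⟨t, ht⟩ := base_coprime (A := A) (V := Additive (K ⧸ N.subgroupOf K))
    (hc.coprime_dvd_right (card_quotient_dvd_card _)) fun W hW => by
      let M := (W.toSubgroup'.comap (QuotientGroup.mk' (N.subgroupOf K))).map K.subtype
      have h1 : N ≤ M := fun n hn => ⟨⟨n, hNK hn⟩, by
        change Additive.ofMul _ ∈ W
        rw [QuotientGroup.mk'_apply, (QuotientGroup.eq_one_iff _).2 (mem_subgroupOf.2 hn)]
        exact zero_mem W, rfl⟩
      refine or_iff_not_imp_right.2 fun h2 => eq_bot_iff.2 fun v hv => ?_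
      have h3 := hN.le_of_ge (y := M) ⟨lt_of_le_of_ne (map_subtype_le _) fun e => h2 (eq_top_iff.2 fun v _ => by
        obtain ⟨k, rfl⟩ := QuotientGroup.mk_surjective (s := N.subgroupOf K) v
        obtain ⟨k', hk, e⟩ := e.ge k.2
        exact (Subtype.ext e : k' = k) ▸ hk), fun a ha => mem_normalizer_fintype (by
          rintro _ ⟨k, hk, rfl⟩
          exact ⟨φ ⟨a, ha⟩ k, hW ⟨a, ha⟩ _ hk, rfl⟩)⟩ h1
      obtain ⟨k, rfl⟩ := QuotientGroup.mk_surjective (s := N.subgroupOf K) v
      exact (QuotientGroup.eq_one_iff _).2 (h3 ⟨k, hv, rfl⟩)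
  let B := (MulAction.toPermHom A (Additive (K ⧸ N.subgroupOf K))).ker.map A.subtype
  have hB : B ≤ A := map_subtype_le _
  have hBK : ∀ a ∈ B, ∀ k ∈ K, a * k * a⁻¹ * k⁻¹ ∈ N := by
    rintro _ ⟨a, ha, rfl⟩ k hk
    have := (sm a ⟨k⁻¹, inv_mem hk⟩ ⟨k⁻¹, inv_mem hk⟩).1 
      (DFunLike.congr_fun ha (Additive.ofMul (QuotientGroup.mk ⟨k⁻¹, inv_mem hk⟩)) :)
    simpa [mul_assoc] using this
  have hcB := hcN.coprime_dvd_left (card_dvd_of_le hB)
  have lift : ∀ i, ∃ n ∈ N, n * ((t i).toMul.out : G) ∈ centralizer (B : Set G) := fun i =>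
    Coprime.exists_mul_mem_centralizer' (hB.trans hN.prop.2) hcB (Or.inl (Coprime.isSolvable_of_le hB hA))
      fun a ha => hBK a ha _ (t i).toMul.out.2
  choose n hn hn' using lift
  have hm : ∀ i, u i * (n i * (t i).toMul.out) ∈ K := fun i =>
    mul_mem (hNK (hu i)) (mul_mem (hNK (hn i)) (t i).toMul.out.2)
  refine ⟨fun i => u i * (n i * (t i).toMul.out), hm, fun a ha e => ?_⟩
  have h1 : a ∈ B := ⟨⟨a, ha⟩, Equiv.ext (ht ⟨a, ha⟩ fun i => by
    have h2 : t i = Additive.ofMul ((⟨_, hm i⟩ : K) : K ⧸ N.subgroupOf K) := by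
      refine (congrArg Additive.ofMul ((t i).toMul.out_eq'.symm.trans (QuotientGroup.eq.2 ?_)) :)
      have := ‹(N.subgroupOf K).Normal›.conj_mem ⟨_, hNK (mul_mem (hu i) (hn i))⟩
        (mem_subgroupOf.2 (mul_mem (hu i) (hn i))) (t i).toMul.out⁻¹
      simpa [mem_subgroupOf, mul_assoc] using this
    rw [h2, sm]
    simp [e i]), rfl⟩
  have h2 : a ∈ centralizer (N : Set G) := hu' a ha fun i => by
    have := e i
    rwa [mul_assoc, ← hn' i a h1, ← mul_assoc, ← mul_assoc (u i), mul_left_inj] at this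
  exact Coprime.le_centralizer_of_commutator_le (A := B ⊓ centralizer (N : Set G)) (N := N)
    (commutator_le.2 fun k hk b hb => by
      simpa [commutatorElement_def, mul_assoc] using inv_mem (hBK b hb.1 k hk))
    inf_le_right (hcB.coprime_dvd_left (card_dvd_of_le inf_le_left)) ⟨h1, h2⟩

theorem inner {A K : Subgroup G} (hA : Group.IsSolvable A) (hAK : A ≤ normalizer (K : Set G))
    (hc : (Nat.card A).Coprime (Nat.card K)) :
    ∃ x ∈ K, ∃ y ∈ K, ∀ a ∈ A, a * x = x * a → a * y = y * a → a ∈ centralizer (K : Set G) := by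
  classical
  have hP : ∀ p : (Nat.card K).primeFactors, ∃ P : Subgroup G, P ≤ K ∧ IsPGroup p P ∧
      ¬ (p : ℕ) ∣ P.relIndex K ∧ A ≤ normalizer (P : Set G) := fun p =>
    haveI := Fact.mk (Nat.prime_of_mem_primeFactors p.2)
    Coprime.exists_invariant_sylowIn p hAK hc (Or.inl hA)
  choose P h1 h2 h3 h4 using hP
  have hs : ∀ p, Group.IsSolvable (P p) := fun p =>
    haveI := Fact.mk (Nat.prime_of_mem_primeFactors p.2)
    haveI := (h2 p).isNilpotent
    inferInstance
  choose t ht ht' using fun p => inner_solvable hA (P p) (h4 p)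
    (hc.coprime_dvd_right (card_dvd_of_le (h1 p))) (hs p)
  have key := marks (fun k : K => A ⊓ centralizer {(k : G)})
    (fun l : ∀ p, P p => A ⊓ ⨅ p, centralizer {(l p : G)}) fun B => by
    by_cases hB : B ≤ A
    swap
    · simp [hB]
    have e1 : ∀ Q : Subgroup G, Nat.card {k : Q // B ≤ centralizer {(k : G)}} =
        Nat.card ↥(Q ⊓ centralizer (B : Set G)) := fun Q => Nat.card_congr
      ⟨fun k => ⟨k.1, k.1.2, fun b hb => mem_centralizer_singleton_iff.1 (k.2 hb)⟩,
        fun k => ⟨⟨k.1, k.2.1⟩, fun b hb => mem_centralizer_singleton_iff.2 (k.2.2 b hb)⟩,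
        fun _ => rfl, fun _ => rfl⟩
    simp only [le_inf_iff, hB, true_and, le_iInf_iff]
    rw [Nat.card_congr (Equiv.subtypePiEquivPi (p := fun p (k : P p) => B ≤ centralizer {(k : G)})),
      Nat.card_pi, e1]
    have e2 : ∀ p, Nat.card ↥(P p ⊓ centralizer (B : Set G)) =
        p ^ (Nat.card ↥(K ⊓ centralizer (B : Set G))).factorization p := fun p => by
      haveI := Fact.mk (Nat.prime_of_mem_primeFactors p.2)
      have := Coprime.not_dvd_relIndex_centralizer_of_invariant (hB.trans hAK)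
        (hc.coprime_dvd_left (card_dvd_of_le hB)) (Or.inl (Coprime.isSolvable_of_le hB hA)) (h1 p) (h2 p)
        (h3 p) (hB.trans (h4 p))
      rw [← inf_relIndex_right, ← inf_assoc, inf_of_le_left (h1 p)] at this
      obtain ⟨Q, hQ⟩ := Transfer.exists_sylow_map_eq_iff.2
        ⟨inf_le_inf_right _ (h1 p), (h2 p).to_inf_left, this⟩
      rw [← hQ, card_map_of_injective (subtype_injective _), Q.card_eq_multiplicity]
    simp only [e1, e2]
    rw [Finset.prod_coe_sort _ fun p => p ^ (Nat.card ↥(K ⊓ centralizer (B : Set G))).factorization p]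
    conv_lhs => rw [← Nat.prod_factorization_pow_eq_self
      (Nat.card_pos (α := ↥(K ⊓ centralizer (B : Set G)))).ne']
    exact Finsupp.prod_of_support_subset _ (Nat.primeFactors_mono (card_dvd_of_le inf_le_left)
      Nat.card_pos.ne') _ fun _ _ => pow_zero _
  obtain ⟨x, hx⟩ := key fun p => ⟨t p 0, ht p 0⟩
  obtain ⟨y, hy⟩ := key fun p => ⟨t p 1, ht p 1⟩
  refine ⟨x, x.2, y, y.2, fun a ha e e' => ?_⟩
  have hx' := mem_iInf.1 (hx.le ⟨ha, mem_centralizer_singleton_iff.2 e⟩).2
  have hy' := mem_iInf.1 (hy.le ⟨ha, mem_centralizer_singleton_iff.2 e'⟩).2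
  have h5 : K ≤ centralizer {a} := relIndex_eq_one.1 (Nat.eq_one_iff_not_exists_prime_dvd.2 fun q hq hd =>
    h3 ⟨q, Nat.mem_primeFactors.2 ⟨hq, hd.trans (relIndex_dvd_card _ _), Nat.card_pos.ne'⟩⟩
      (hd.trans (relIndex_dvd_of_le_left _ fun g hg => mem_centralizer_singleton_iff.2
        (ht' _ a ha (fun i => by
          fin_cases i
          exacts [mem_centralizer_singleton_iff.1 (hx' _), mem_centralizer_singleton_iff.1 (hy' _)]) g hg))))
  exact fun k hk => mem_centralizer_singleton_iff.1 (h5 hk)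

theorem coprime_base {A K : Type*} [Group A] [Finite A] [Group K] [Finite K] (φ : A →* MulAut K)
    (hφ : Function.Injective φ) (hA : Group.IsSolvable A) (hc : (Nat.card A).Coprime (Nat.card K)) :
    ∃ x y : K, ∀ a : A, φ a x = x → φ a y = y → a = 1 := by
  haveI : Finite (K ⋊[φ] A) := Finite.of_equiv _ SemidirectProduct.equivProd.symm
  have cm : ∀ (a : A) (k : K), (SemidirectProduct.inr a * SemidirectProduct.inl k : K ⋊[φ] A) =
      SemidirectProduct.inl k * SemidirectProduct.inr a ↔ φ a k = k := fun a k => by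
    simp [SemidirectProduct.ext_iff]
  obtain ⟨_, ⟨x, rfl⟩, _, ⟨y, rfl⟩, h⟩ := inner (A := (SemidirectProduct.inr (φ := φ)).range)
    (K := (SemidirectProduct.inl (φ := φ)).range)
    (Group.isSolvable_of_surjective (MonoidHom.rangeRestrict_surjective _)) (by
      rw [SemidirectProduct.range_inl_eq_ker_rightHom]; exact le_normalizer_of_normal) (by
      rwa [← Nat.card_congr (MonoidHom.ofInjective SemidirectProduct.inr_injective).toEquiv,
        ← Nat.card_congr (MonoidHom.ofInjective SemidirectProduct.inl_injective).toEquiv])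
  exact ⟨x, y, fun a e e' => hφ (MulEquiv.ext fun k => by
    rw [map_one]
    exact (cm a k).1 (h _ ⟨a, rfl⟩ ((cm a x).2 e) ((cm a y).2 e') _ ⟨k, rfl⟩).symm)⟩

end Cfsg.Lib.SL
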