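import Cfsg.Agent.Lib.SL.Prim

/-!
A solvable linear group either permutes an independent family of subgroups or is semilinear over the
field generated by a maximal abelian normal subgroup.
-/

set_option autoImplicit false
set_option linter.style.haveILetI false

namespace Cfsg.Lib.SL

open Subgroup MulAction
open scoped Pointwise

variable {A V : Type*} [Group A] [AddCommGroup V] [DistribMulAction A V]

variable (A) in
/-- the translates of `W` are independent -/
def Indep (W : AddSubgroup V) : Prop :=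
  ∀ (F : Finset (orbit A W)) (s : orbit A W → V), (∀ j ∈ F, s j ∈ (j : AddSubgroup V)) →
    ∑ j ∈ F, s j = 0 → ∀ j ∈ F, s j = 0

variable (V) in
/-- the ring generated by a subgroup -/
def rng (U : Subgroup A) : Subring (Module.End ℤ V) := Subring.closure ((fun u => emb A V u) '' U)

variable (V) in
/-- conjugation on endomorphisms -/
noncomputable def cj (a : A) : Module.End ℤ V →+* Module.End ℤ V :=
  MulSemiringAction.toRingHom _ _ (ConjAct.toConjAct (emb A V a))

theorem cj_apply (a : A) (ρ : Module.End ℤ V) (v : V) : cj V a ρ (a • v) = a • ρ v := by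
  change a • ρ ((emb A V a)⁻¹ • emb A V a • v) = _
  rw [inv_smul_smul]

theorem cj_inj (a : A) : Function.Injective (cj V a) := fun ρ ρ' h => LinearMap.ext fun v =>
  smul_left_cancel a (by rw [← cj_apply, h, cj_apply])

theorem cj_mem {U : Subgroup A} (nU : U.Normal) (a : A) {ρ : Module.End ℤ V} (h : ρ ∈ rng V U) :
    cj V a ρ ∈ rng V U := by
  refine (Subring.closure_le (t := (rng V U).comap (cj V a))).2 ?_ h
  rintro _ ⟨u, hu, rfl⟩
  refine Subring.subset_closure ⟨_, nU.conj_mem u hu a, ?_⟩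
  simp only [map_mul, map_inv]; rfl

theorem rng_comm {U : Subgroup A} {a : A} (ha : ∀ u ∈ U, u * a = a * u) {ρ : Module.End ℤ V}
    (h : ρ ∈ rng V U) (v : V) : a • ρ v = ρ (a • v) := by
  have : ρ ∈ Subring.centralizer {(emb A V a : Module.End ℤ V)} := by
    refine Subring.closure_le.2 ?_ h
    rintro _ ⟨u, hu, rfl⟩ _ rfl
    rw [← Units.val_mul, ← Units.val_mul, ← map_mul, ← map_mul, ha u hu]
  exact LinearMap.congr_fun (this _ rfl) v

theorem rng_mul_comm {U : Subgroup A} (hU : ∀ u ∈ U, ∀ u' ∈ U, u * u' = u' * u) {ρ ρ' : Module.End ℤ V}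
    (h : ρ ∈ rng V U) (h' : ρ' ∈ rng V U) : ρ * ρ' = ρ' * ρ := by
  have : ρ' ∈ Subring.centralizer {ρ} := by
    refine Subring.closure_le.2 ?_ h'
    rintro _ ⟨u, hu, rfl⟩ _ rfl
    exact LinearMap.ext fun v => (rng_comm (fun u' hu' => hU u' hu' u hu) h v).symm
  exact this _ rfl

theorem exists_indep [Finite V] {U : Subgroup A} (nU : U.Normal) (hU : ∀ u ∈ U, ∀ u' ∈ U, u * u' = u' * u)
    {ρ₀ : Module.End ℤ V} (h₀ : ρ₀ ∈ rng V U) (hρ : ρ₀ ≠ 0) {v₀ : V} (hv₀ : v₀ ≠ 0) (e₀ : ρ₀ v₀ = 0) :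
    ∃ W : AddSubgroup V, W ≠ ⊥ ∧ W ≠ ⊤ ∧ Indep A W := by
  classical
  let ann : V → Set (Module.End ℤ V) := fun v => {ρ | ρ ∈ rng V U ∧ ρ v = 0}
  obtain ⟨v, hv, hmax⟩ := Set.exists_max_image {v : V | v ≠ 0} (fun v => (ann v).ncard) (Set.toFinite _)
    ⟨v₀, hv₀⟩
  let W : AddSubgroup V :=
    { carrier := {w | ∀ ρ ∈ ann v, ρ w = 0}
      zero_mem' := fun ρ _ => map_zero ρ
      add_mem' := fun ha hb ρ hρ => by rw [map_add, ha ρ hρ, hb ρ hρ, add_zero]
      neg_mem' := fun ha ρ hρ => by rw [map_neg, ha ρ hρ, neg_zero] }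
  refine ⟨W, (AddSubgroup.ne_bot_iff_exists_ne_zero).2 ⟨⟨v, fun ρ hρ => hρ.2⟩,
    fun e => hv (congrArg Subtype.val e)⟩, fun e => ?_, ?_⟩
  · have h1 : ann v ⊆ {0} := fun ρ hρ => LinearMap.ext fun w => (e ▸ AddSubgroup.mem_top w : w ∈ W) ρ hρ
    have h2 : ({ρ₀, 0} : Set _) ⊆ ann v₀ := by
      rintro _ (rfl | rfl)
      exacts [⟨h₀, e₀⟩, ⟨zero_mem _, rfl⟩]
    have h3 := (Set.ncard_le_ncard h2).trans ((hmax v₀ hv₀).trans (Set.ncard_le_ncard h1))
    rw [Set.ncard_pair hρ, Set.ncard_singleton] at h3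
    omega
  have hC : ∀ j : orbit A W, ∃ C : Set (Module.End ℤ V), C ⊆ rng V U ∧ C.ncard = (ann v).ncard ∧
      ∀ w, w ∈ (j : AddSubgroup V) ↔ ∀ ρ ∈ C, ρ w = 0 := by
    rintro ⟨_, a, rfl⟩
    refine ⟨cj V a '' ann v, by rintro _ ⟨ρ, hρ, rfl⟩; exact cj_mem nU a hρ.1,
      Set.ncard_image_of_injective _ (cj_inj a), fun w => ?_⟩
    obtain ⟨w, rfl⟩ := MulAction.surjective a w
    simp only [AddSubgroup.smul_mem_pointwise_smul_iff, Set.forall_mem_image, cj_apply, smul_eq_zero_iff_eq]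
    rfl
  choose C hCA hC hUC using hC
  intro s
  induction s using Finset.induction_on with
  | empty => intro w _ _ i hi; simp at hi
  | insert i₀ s hi₀ ih =>
    intro w hw hsum
    rw [Finset.sum_insert hi₀] at hsum
    have hs : ∀ j ∈ s, w j = 0 := by
      intro j hj
      by_contra hne
      have hwj := (hUC j _).1 (hw j (Finset.mem_insert_of_mem hj))
      have heq : C j = ann (w j) := Set.eq_of_subset_of_ncard_le (fun c hc => ⟨hCA j hc, hwj c hc⟩)
        (by rw [hC]; exact hmax _ hne)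
      have hle2 : C i₀ ⊆ C j := fun b hb => heq ▸ ⟨hCA _ hb, ih (fun i => b (w i)) (fun i hi =>
        (hUC i _).2 fun c hc => by
          rw [← Module.End.mul_apply, rng_mul_comm hU (hCA _ hc) (hCA _ hb), Module.End.mul_apply,
            (hUC i _).1 (hw i (Finset.mem_insert_of_mem hi)) c hc, map_zero]) (by
          rw [← map_sum, eq_neg_of_add_eq_zero_right hsum, map_neg,
            (hUC i₀ _).1 (hw i₀ (Finset.mem_insert_self _ _)) b hb, neg_zero]) j hj⟩
      have h3 : C i₀ = C j := Set.eq_of_subset_of_ncard_le hle2 (by rw [hC, hC])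
      have h4 : i₀ = j := Subtype.ext (AddSubgroup.ext fun x => by rw [hUC, hUC, h3])
      exact hi₀ (h4 ▸ hj)
    intro j hj
    rcases Finset.mem_insert.1 hj with rfl | hj
    · rwa [Finset.sum_eq_zero hs, add_zero] at hsum
    · exact hs j hj

theorem dich [Finite A] [Group.IsSolvable A] [Finite V] [Nontrivial V] [FaithfulSMul A V] :
    (∃ W : AddSubgroup V, W ≠ ⊥ ∧ W ≠ ⊤ ∧ Indep A W) ∨ ∃ x z w : V, ∀ a : A, a • x = x → a • z = z →
      (a • w = w ∨ ¬ 2 ∣ Nat.card A ∨ ¬ 3 ∣ Nat.card A ∨ (¬ 2 ∣ Nat.card V ∧ ¬ 3 ∣ Nat.card V)) → a = 1 := by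
  obtain ⟨U, R, h⟩ := exists_UR (A := A)
  have hU : ∀ u ∈ U, ∀ u' ∈ U, u * u' = u' * u := fun u hu u' hu' => h.cU u hu u' (h.le hu')
  by_cases h0 : ∃ ρ ∈ rng V U, ρ ≠ 0 ∧ ∃ v, v ≠ 0 ∧ ρ v = 0
  · obtain ⟨ρ, h1, h2, v, h3, h4⟩ := h0
    exact Or.inl (exists_indep h.nU hU h1 h2 h3 h4)
  right
  push Not at h0
  have hF : IsField (rng V U) := by
    letI : CommRing (rng V U) :=
      { (inferInstance : Ring (rng V U)) with mul_comm := fun a b => Subtype.ext (rng_mul_comm hU a.2 b.2) }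
    haveI : NoZeroDivisors (rng V U) := ⟨fun {a b} e => by
      by_contra! hc
      refine hc.2 (Subtype.ext (LinearMap.ext fun v => ?_))
      by_contra hv
      exact h0 a a.2 (fun e => hc.1 (Subtype.ext e)) _ hv (LinearMap.congr_fun (congrArg Subtype.val e) v)⟩
    haveI : IsDomain (rng V U) := NoZeroDivisors.to_isDomain _
    exact Finite.isField_of_domain _
  letI := hF.toField
  exact Pr.base (K := rng V U) ⟨h, fun u hu => ⟨⟨emb A V u, Subring.subset_closure ⟨u, hu, rfl⟩⟩,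
    fun _ => rfl⟩, fun a ha c v => rng_comm ha c.2 v, fun a =>
    ⟨(cj V a).restrict _ _ fun _ => cj_mem h.nU a, fun c v => (cj_apply a c v).symm⟩⟩

end Cfsg.Lib.SL
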