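import Mathlib

/-!
Explicit models of three small groups of symplectic type, and the finite checks on them.
-/

set_option autoImplicit false

namespace Cfsg.Lib.SL

/-- coordinates -/
structure T8 where
  (a0 a1 a2 a3 a4 a5 a6 a7 : ℕ)

/-- eight vectors -/
structure B8 where
  (b0 b1 b2 b3 b4 b5 b6 b7 : T8)

namespace T8

/-- sum -/
def add (u v : T8) : T8 :=
  ⟨u.a0 + v.a0, u.a1 + v.a1, u.a2 + v.a2, u.a3 + v.a3, u.a4 + v.a4, u.a5 + v.a5, u.a6 + v.a6, u.a7 + v.a7⟩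

/-- multiple -/
def smul (c : ℕ) (u : T8) : T8 :=
  ⟨c * u.a0, c * u.a1, c * u.a2, c * u.a3, c * u.a4, c * u.a5, c * u.a6, c * u.a7⟩

/-- first swap -/
def X1 (u : T8) : T8 := ⟨u.a2, u.a3, u.a0, u.a1, u.a6, u.a7, u.a4, u.a5⟩

/-- second swap -/
def X2 (u : T8) : T8 := ⟨u.a4, u.a5, u.a6, u.a7, u.a0, u.a1, u.a2, u.a3⟩

/-- first sign change -/
def Z1 (n : ℕ) (u : T8) : T8 := ⟨u.a0, u.a1, n * u.a2, n * u.a3, u.a4, u.a5, n * u.a6, n * u.a7⟩

/-- second sign change -/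
def Z2 (n : ℕ) (u : T8) : T8 := ⟨u.a0, u.a1, u.a2, u.a3, n * u.a4, n * u.a5, n * u.a6, n * u.a7⟩

/-- first quaternion unit -/
def I (n : ℕ) (u : T8) : T8 := ⟨n * u.a1, u.a0, n * u.a3, u.a2, n * u.a5, u.a4, n * u.a7, u.a6⟩

/-- second quaternion unit -/
def J (n : ℕ) (u : T8) : T8 :=
  ⟨u.a0 + u.a1, u.a0 + n * u.a1, u.a2 + u.a3, u.a2 + n * u.a3, u.a4 + u.a5, u.a4 + n * u.a5,
    u.a6 + u.a7, u.a6 + n * u.a7⟩

/-- apply `f` if the bit is set -/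
def opt (b : Bool) (f : T8 → T8) (u : T8) : T8 := cond b (f u) u

/-- the word with number `m` -/
def M (p m : ℕ) (u : T8) : T8 :=
  opt (m.testBit 0) X1 (opt (m.testBit 1) X2 (opt (m.testBit 2) (I (p - 1)) (opt (m.testBit 3) (J (p - 1))
    (smul (m / 64 + 1) (opt (m.testBit 4) (Z2 (p - 1)) (opt (m.testBit 5) (Z1 (p - 1)) u))))))

/-- the number of a vector -/
def code (p : ℕ) (δ : Bool) (u : T8) : ℕ :=
  cond δ (u.a0 % p + p * (u.a1 % p + p * (u.a2 % p + p * (u.a3 % p + p * (u.a4 % p + p * (u.a5 % p +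
    p * (u.a6 % p + p * (u.a7 % p))))))))
    (u.a0 % p + p * (u.a2 % p + p * (u.a4 % p + p * (u.a6 % p))))

/-- linear combination -/
def cmb (c : T8) (B : B8) : T8 :=
  add (add (add (smul c.a0 B.b0) (smul c.a1 B.b1)) (add (smul c.a2 B.b2) (smul c.a3 B.b3)))
    (add (add (smul c.a4 B.b4) (smul c.a5 B.b5)) (add (smul c.a6 B.b6) (smul c.a7 B.b7)))

end T8

open T8

namespace B8

/-- apply to each vector -/
def map (f : T8 → T8) (B : B8) : B8 := ⟨f B.b0, f B.b1, f B.b2, f B.b3, f B.b4, f B.b5, f B.b6, f B.b7⟩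

/-- the standard basis -/
def E : B8 := ⟨⟨1, 0, 0, 0, 0, 0, 0, 0⟩, ⟨0, 1, 0, 0, 0, 0, 0, 0⟩, ⟨0, 0, 1, 0, 0, 0, 0, 0⟩,
  ⟨0, 0, 0, 1, 0, 0, 0, 0⟩, ⟨0, 0, 0, 0, 1, 0, 0, 0⟩, ⟨0, 0, 0, 0, 0, 1, 0, 0⟩, ⟨0, 0, 0, 0, 0, 0, 1, 0⟩,
  ⟨0, 0, 0, 0, 0, 0, 0, 1⟩⟩

/-- componentwise relation -/
abbrev Rel (r : T8 → T8 → Prop) (B C : B8) : Prop :=
  r B.b0 C.b0 ∧ r B.b1 C.b1 ∧ r B.b2 C.b2 ∧ r B.b3 C.b3 ∧ r B.b4 C.b4 ∧ r B.b5 C.b5 ∧ r B.b6 C.b6 ∧
    r B.b7 C.b7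

end B8

/-- admissible words -/
abbrev Wd (δ : Bool) (m : ℕ) : Prop := δ = true ∨ (m.testBit 2 = false ∧ m.testBit 3 = false)

/-- data of a finite check -/
structure Dat where
  (p : ℕ) (δ : Bool) (x z w : T8) (e1 : ℕ) (r1 : T8) (k1 e2 : ℕ) (r2 : T8) (k2 : ℕ) (co : B8) (ob : ℕ)
  (L1 L2 : List ℕ) (L : List (ℕ × ℕ))

namespace Dat

variable (D : Dat)

/-- bound for the words -/
def N : ℕ := 64 * (D.p - 1)

/-- code -/
def c (u : T8) : ℕ := code D.p D.δ u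

/-- the spanning vectors -/
def B (m1 m2 : ℕ) : B8 :=
  ⟨D.x, D.z, M D.p m1 D.x, M D.p m1 D.z, M D.p m2 D.x, M D.p m2 D.z, M D.p m1 (M D.p m2 D.x),
    M D.p m1 (M D.p m2 D.z)⟩

/-- the matrix -/
def G (m1 m2 : ℕ) : B8 := D.co.map fun c => cmb c (D.B m1 m2)

/-- the two words commute -/
abbrev Cm (a b : ℕ) : Prop := D.c (M D.p a (M D.p b D.x)) = D.c (M D.p b (M D.p a D.x))

/-- image under the involution -/
def tau (a b m : ℕ) : T8 :=
  M D.p m (M D.p (if D.Cm m b then 0 else a) (M D.p (if D.Cm m a then 0 else b) D.x))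

/-- basic checks -/
abbrev Ok0 : Prop :=
  D.c D.x ≠ D.c (smul 0 D.x) ∧ D.c D.z ≠ D.c (smul 0 D.x) ∧ D.ob.testBit (D.c D.z) = false ∧
  (D.e1 < D.N ∧ Wd D.δ D.e1) ∧ (D.e2 < D.N ∧ Wd D.δ D.e2) ∧ (D.k1 < D.N ∧ Wd D.δ D.k1) ∧
  (D.k2 < D.N ∧ Wd D.δ D.k2) ∧
  D.c (cmb D.r1 (D.B D.e1 D.e1)) = D.c (M D.p D.k1 D.x) ∧
  D.c (cmb D.r2 (D.B D.e2 D.e2)) = D.c (M D.p D.k2 D.x) ∧
  B8.Rel (fun u v => D.c u = D.c v) B8.E (D.G D.e1 D.e2) ∧
  (∀ ab ∈ D.L, (ab.1 < D.N ∧ Wd D.δ ab.1) ∧ (ab.2 < D.N ∧ Wd D.δ ab.2) ∧ D.Cm ab.1 ab.2)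

/-- checks over all words -/
abbrev Ok1 : Prop := ∀ m ∈ List.range D.N, Wd D.δ m →
  D.ob.testBit (D.c (M D.p m D.x)) = true ∧ (D.c (M D.p m D.x) = D.c D.x → m = 0) ∧
  (D.ob.testBit (D.c (cmb D.r1 (D.B m m))) = true → m ∈ D.L1) ∧
  (D.ob.testBit (D.c (cmb D.r2 (D.B m m))) = true → m ∈ D.L2)

/-- the outcome for a matrix -/
abbrev Out (G : B8) : Prop :=
  B8.Rel (fun u v => D.c u = D.c v) B8.E G ∨
  (D.p = 3 ∧ D.c (cmb D.w G) ≠ D.c D.w ∧
    (B8.Rel (fun u v => D.c u = D.c v) B8.E (G.map fun u => cmb (cmb u G) G) ∨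
    ∃ ab ∈ D.L, ∀ m < D.N, Wd D.δ m → D.c (cmb (M D.p m D.x) G) = D.c (D.tau ab.1 ab.2 m) ∨
      D.c (cmb (M D.p m D.x) G) = D.c (smul (D.p - 1) (D.tau ab.1 ab.2 m))))

/-- checks over the surviving pairs -/
abbrev Ok2 : Prop := ∀ m1 ∈ D.L1, ∀ m2 ∈ D.L2,
  (∀ m ∈ [1, 2, 4, 8, 16, 32], Wd D.δ m → D.ob.testBit (D.c (cmb (M D.p m D.x) (D.G m1 m2))) = true) →
    D.Out (D.G m1 m2)

end Dat

/-- data -/
def d5 : Dat :=
  { p := 5, δ := false, x := ⟨1,0,4,0,0,0,2,0⟩, z := ⟨0,0,3,0,3,0,3,0⟩, w := ⟨3,0,1,0,0,0,3,0⟩,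
    e1 := 1, r1 := ⟨0,1,1,0,0,0,0,0⟩, k1 := 240, e2 := 1, r2 := ⟨0,1,1,0,0,0,0,0⟩, k2 := 240,
    co := ⟨⟨2,0,2,2,0,0,0,0⟩, ⟨0,0,0,0,0,0,0,0⟩, ⟨2,2,2,0,0,0,0,0⟩, ⟨0,0,0,0,0,0,0,0⟩, ⟨0,4,3,1,0,0,0,0⟩, ⟨0,0,0,0,0,0,0,0⟩, ⟨3,1,0,4,0,0,0,0⟩, ⟨0,0,0,0,0,0,0,0⟩⟩,
    ob := 0x840c000000000000001081806300000000004000c82000640000009001200000000200064100032000000480090001081800000000000000210300c600006300090012048009000c6000000000,
    L1 := [1, 48, 49, 162, 208, 242], L2 := [1, 48, 49, 162, 208, 242], L := [] }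

theorem d5_ok0 : d5.Ok0 := by decide +kernel

theorem d5_ok1 : d5.Ok1 := by decide +kernel

theorem d5_ok2 : d5.Ok2 := by decide +kernel

/-- data -/
def d3 : Dat :=
  { p := 3, δ := false, x := ⟨2,0,1,0,0,0,1,0⟩, z := ⟨2,0,2,0,0,0,0,0⟩, w := ⟨2,0,1,0,1,0,1,0⟩,
    e1 := 18, r1 := ⟨0,1,2,0,0,0,0,0⟩, k1 := 19, e2 := 18, r2 := ⟨0,1,2,0,0,0,0,0⟩, k2 := 19,
    co := ⟨⟨2,0,2,1,0,0,0,0⟩, ⟨0,0,0,0,0,0,0,0⟩, ⟨1,2,1,2,0,0,0,0⟩, ⟨0,0,0,0,0,0,0,0⟩, ⟨1,2,2,0,0,0,0,0⟩, ⟨0,0,0,0,0,0,0,0⟩, ⟨2,1,1,2,0,0,0,0⟩, ⟨0,0,0,0,0,0,0,0⟩⟩,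
    ob := 0x4e276c09c4ed86c36000,
    L1 := [18, 19, 34, 35, 66, 67, 96, 97, 112, 113, 114, 115], L2 := [18, 19, 34, 35, 66, 67, 96, 97, 112, 113, 114, 115], L := [(1, 2), (17, 34), (16, 32)] }

theorem d3_ok0 : d3.Ok0 := by decide +kernel

theorem d3_ok1 : d3.Ok1 := by decide +kernel

theorem d3_ok2 : d3.Ok2 := by decide +kernel

/-- data -/
def d3q : Dat :=
  { p := 3, δ := true, x := ⟨0,2,0,1,0,1,1,1⟩, z := ⟨2,1,0,0,1,0,1,1⟩, w := ⟨2,0,2,1,1,2,0,2⟩,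
    e1 := 10, r1 := ⟨1,0,2,1,0,0,0,0⟩, k1 := 97, e2 := 26, r2 := ⟨1,1,1,2,0,0,0,0⟩, k2 := 115,
    co := ⟨⟨0,1,2,1,1,2,0,2⟩, ⟨0,0,2,1,1,2,0,0⟩, ⟨0,1,1,0,2,0,0,2⟩, ⟨2,0,2,1,1,2,1,0⟩, ⟨1,2,0,2,0,2,1,2⟩, ⟨0,0,0,2,0,2,0,0⟩, ⟨0,1,1,2,1,2,0,1⟩, ⟨2,2,2,2,2,2,2,2⟩⟩,
    ob := 0x40004000008080000000000000000000000000004000008000408000000000000000000000000000008000400040800000000080008000800200000000000000000000000000000000000000000000000000000000000000000000000000000000000000000000400020000020400000000000000000000000000020000400002004000000000000000000000000000000000000000000000020002000000020080000400004000000080800000000000000000000004000008000408000000000000000000000000000008000400040800000000000000000000000000000400040004001000000008000800001010000000000000000000000000000000000000000000000000000000000000000000000000000000000000000000020000400002004000000000000000000000000000400020000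020400000000000000000000000000000000000000000000002000020000000404000004000400000004010000000000000000000000008000400040800000000000000000000000000000400040004001000000000000000000000000000040004000008080000000800001000081000000000000000000000000000000000000000000000000000000000000000000000080008000800200000000000000000000000000008000800001010000000000000000000000000000800001000081000000000200010001020000000000000000000000000000000000000000000000000000000000000000000000000000000000000000000020002000000020080000000000000000000000002000020000000404000000000000000000000000000000000000000000000020000400002004000000080004000004080000000000000000000000000000000000000000000000400004000000080800000000000000000000000004000400000004010000000000000000000000000000000000000000000000080004000004080000000800010000080100000000000000000000000000000000000000000000000000000000000000000000000000000000000000000000000000000000000000000000000000000000000000000000000000000000000000000000000000000000000000000000000000000000000000,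
    L1 := [10, 107], L2 := [0, 26, 39], L := [(22, 43)] }

theorem d3q_ok0 : d3q.Ok0 := by decide +kernel

theorem d3q_ok1 : d3q.Ok1 := by decide +kernel

theorem d3q_ok2 : d3q.Ok2 := by decide +kernel

end Cfsg.Lib.SL
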