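import Cfsg.Agent.Lib.SL.Bot2
import Cfsg.Agent.Lib.SL.M8

/-!
From a finite check in a model to a level of the chain.
-/

set_option autoImplicit false
set_option linter.style.haveILetI false

namespace Cfsg.Lib.SL

open Subgroup T8

theorem T8.cmb_E (u : T8) : cmb u B8.E = u := by
  simp [cmb, add, smul, B8.E]

namespace Sy

variable {K V Γ : Type*} [Field K] [AddCommGroup V] [Module K V] [Group Γ] [DistribMulAction Γ V]

/-- a model for the action of `C A` on the vectors fixed by `A` -/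
structure Mod (S : Sy K V Γ) (A : Subgroup Γ) (D : Dat) where
  φ : T8 → V
  W : ℕ → Γ
  add : ∀ u u', φ (add u u') = φ u + φ u'
  smul : ∀ c u, φ (smul c u) = (c : K) • φ u
  inj : ∀ u u', φ u = φ u' ↔ D.c u = D.c u'
  fix : ∀ u, Fx A (φ u)
  hW : ∀ m, Wd D.δ m → W m ∈ S.C A
  act : ∀ m < D.N, Wd D.δ m → ∀ u, W m • φ u = φ (M D.p m u)
  cover : ∀ c ∈ S.C A, ∃ m < D.N, Wd D.δ m ∧ (W m)⁻¹ * c ∈ A
  W0 : W 0 = 1

variable {S : Sy K V Γ} {A : Subgroup Γ} {D : Dat}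

theorem conj_C_of {x : V} (free : ∀ r ∈ S.R, r • x = x → r ∈ A) (hA : A ≤ S.R) (fx : Fx A x) {g : Γ}
    (hg : g ∈ normalizer (S.R : Set Γ)) (hx : g • x = x) {c : Γ} (hc : c ∈ S.C A) :
    g * c * g⁻¹ ∈ S.C A := by
  refine ⟨conj_mem hg hc.1, fun a ha => ?_⟩
  have h1 : g⁻¹ * a * g⁻¹⁻¹ ∈ A := free _ (conj_mem (inv_mem hg) (hA ha))
    (by rw [inv_inv, mul_smul, mul_smul, hx, fx a ha, inv_smul_eq_iff, hx])
  calc a * (g * c * g⁻¹) = g * (g⁻¹ * a * g⁻¹⁻¹ * c) * g⁻¹ := by group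
    _ = _ := by rw [hc.2 _ h1]; group

namespace Mod

variable (Q : S.Mod A D)

/-- `g` maps `u` to `u'` -/
def Im (g : Γ) (u u' : T8) : Prop := g • Q.φ u = Q.φ u'

theorem cov {c : Γ} (hc : c ∈ S.C A) :
    ∃ m < D.N, Wd D.δ m ∧ (Q.W m)⁻¹ * c ∈ A ∧ ∀ u, c • Q.φ u = Q.φ (M D.p m u) := by
  obtain ⟨m, hm, hw, h⟩ := Q.cover c hc
  refine ⟨m, hm, hw, h, fun u => ?_⟩
  rw [← Q.act m hm hw, ← inv_smul_eq_iff, ← mul_smul, Q.fix u _ h]

theorem im_lin {g : Γ} (hl : S.Lin g) {B B' : B8} (h : B8.Rel (Q.Im g) B B') (c : T8) :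
    Q.Im g (cmb c B) (cmb c B') := by
  obtain ⟨h0, h1, h2, h3, h4, h5, h6, h7⟩ := h
  unfold Im at *
  simp only [cmb, Q.add, Q.smul, smul_add, hl _, h0, h1, h2, h3, h4, h5, h6, h7]

theorem im_M {g : Γ} {e m : ℕ} (he : e < D.N ∧ Wd D.δ e)
    (h : ∀ u, (g * Q.W e * g⁻¹) • Q.φ u = Q.φ (M D.p m u)) {u u' : T8} (hu : Q.Im g u u') :
    Q.Im g (M D.p e u) (M D.p m u') := by
  unfold Im at *
  rw [← Q.act e he.1 he.2, ← h, ← hu, mul_smul, mul_smul, inv_smul_smul]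

theorem im_id {g : Γ} (hl : S.Lin g) {G : B8} (h : B8.Rel (Q.Im g) B8.E G)
    (e : B8.Rel (fun u v => D.c u = D.c v) B8.E G) (u : T8) : g • Q.φ u = Q.φ u := by
  simp only [B8.Rel, ← Q.inj] at e
  have : B8.Rel (Q.Im g) B8.E B8.E := by
    simp only [B8.Rel, Im] at h ⊢
    obtain ⟨h0, h1, h2, h3, h4, h5, h6, h7⟩ := h
    obtain ⟨e0, e1, e2, e3, e4, e5, e6, e7⟩ := e
    exact ⟨h0.trans e0.symm, h1.trans e1.symm, h2.trans e2.symm, h3.trans e3.symm, h4.trans e4.symm,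
      h5.trans e5.symm, h6.trans e6.symm, h7.trans e7.symm⟩
  simpa only [cmb_E, Im] using Q.im_lin hl this u

theorem β_iff {c : Γ} {m a : ℕ} (hc : c ∈ S.C A) (ha : a < D.N ∧ Wd D.δ a)
    (h : ∀ u, c • Q.φ u = Q.φ (M D.p m u)) (x0 : Q.φ D.x ≠ 0) : S.β c (Q.W a) = 1 ↔ D.Cm m a := by
  have haR := (Q.hW a ha.2).1
  rw [Dat.Cm, ← Q.inj, ← h, ← Q.act a ha.1 ha.2, ← Q.act a ha.1 ha.2, ← h, smul_smul_β hc.1 haR]
  refine ⟨fun e => by rw [e, Units.val_one, one_smul], fun e => S.s_eq_one (v := Q.W a • c • Q.φ D.x) ?_ ?_⟩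
  · rwa [Ne, smul_eq_zero_iff_eq, smul_eq_zero_iff_eq]
  · rw [S.hs, e]

theorem lv [Finite K] (hA : A ≤ S.R) (hp : D.p = 3 ∨ D.p = 5) (hK : Nat.card K = D.p) (k0 : D.Ok0)
    (k1 : D.Ok1) (k2 : D.Ok2) :
    S.Lv A (Q.φ D.x) (Q.φ D.z) (Q.φ D.w) ∧ Q.φ D.z ≠ 0 ∧ ∀ ρ ∈ S.R, ρ • Q.φ D.x ≠ Q.φ D.z := by
  obtain ⟨x0, z0, zob, he1, he2, hk1, hk2, r1, r2, hco, hL⟩ := k0
  have h0 : Q.φ (T8.smul 0 D.x) = 0 := by simp [Q.smul]
  rw [Ne, ← Q.inj, h0] at x0 z0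
  have k1' := fun m (hm : m < D.N) => k1 m (List.mem_range.2 hm)
  have hpp : D.p.Prime := by rcases hp with e | e <;> rw [e] <;> norm_num
  have hN : 32 < D.N := by unfold Dat.N; omega
  have free : ∀ r ∈ S.R, r • Q.φ D.x = Q.φ D.x → r ∈ A := fun r hr e => by
    obtain ⟨m, hm, hw, h1, h2⟩ := Q.cov ((Q.fix D.x).mem_C hA x0 hr (by rw [e]; exact Q.fix D.x))
    rw [h2, Q.inj] at e
    rw [(k1' m hm hw).2.1 e, Q.W0] at h1
    simpa using h1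
  refine ⟨⟨hA, x0, free, Q.fix _, Q.fix _, Q.fix _, fun g hg hs hx hz side => ?_⟩, z0, fun ρ hρ e => ?_⟩
  swap
  · obtain ⟨m, hm, hw, -, h2⟩ := Q.cov ((Q.fix D.x).mem_C hA x0 hρ (by rw [e]; exact Q.fix D.z))
    rw [h2, Q.inj] at e
    have := (k1' m hm hw).1
    rw [e, zob] at this
    exact Bool.noConfusion this
  have hl := lin_of_prime hpp hK hs
  have cj := fun e (he : e < D.N ∧ Wd D.δ e) => Q.cov (conj_C_of free hA (Q.fix D.x) hg hx (Q.hW e he.2))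
  have orb : ∀ {e u u'}, e < D.N ∧ Wd D.δ e → D.c u = D.c (M D.p e D.x) → Q.Im g u u' →
      D.ob.testBit (D.c u') = true := fun {e u u'} he h1 h2 => by
    obtain ⟨m, hm, hw, -, h⟩ := cj e he
    have h3 := Q.im_M he h hx
    unfold Im at h2 h3
    rw [← (Q.inj _ _).2 h1, h2, Q.inj] at h3
    rw [h3]
    exact (k1' m hm hw).1
  have hB : ∀ {e e' m m'}, e < D.N ∧ Wd D.δ e → e' < D.N ∧ Wd D.δ e' →
      (∀ u, (g * Q.W e * g⁻¹) • Q.φ u = Q.φ (M D.p m u)) →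
      (∀ u, (g * Q.W e' * g⁻¹) • Q.φ u = Q.φ (M D.p m' u)) → B8.Rel (Q.Im g) (D.B e e') (D.B m m') :=
    fun he he' h h' => ⟨hx, hz, Q.im_M he h hx, Q.im_M he h hz, Q.im_M he' h' hx, Q.im_M he' h' hz,
      Q.im_M he h (Q.im_M he' h' hx), Q.im_M he h (Q.im_M he' h' hz)⟩
  obtain ⟨m1, hm1, hw1, -, c1⟩ := cj _ he1
  obtain ⟨m2, hm2, hw2, -, c2⟩ := cj _ he2
  have l1 := (k1' m1 hm1 hw1).2.2.1 (orb hk1 r1 (Q.im_lin hl (hB he1 he1 c1 c1) _))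
  have l2 := (k1' m2 hm2 hw2).2.2.2 (orb hk2 r2 (Q.im_lin hl (hB he2 he2 c2 c2) _))
  have hG : B8.Rel (Q.Im g) B8.E (D.G m1 m2) := by
    have := Q.im_lin hl (hB he1 he2 c1 c2)
    simp only [B8.Rel, ← Q.inj] at hco
    simp only [B8.Rel, Im, hco]
    exact ⟨this _, this _, this _, this _, this _, this _, this _, this _⟩
  have out := k2 m1 l1 m2 l2
  generalize D.G m1 m2 = G at hG out
  have hu : ∀ u, Q.Im g u (cmb u G) := fun u => by simpa only [cmb_E] using Q.im_lin hl hG u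
  have triv : (∀ u, g • Q.φ u = Q.φ u) → S.Con A g 1 1 := fun h =>
    con_of free hg hx (one_mem _) (one_mem _) (β_self (one_mem _)) fun c hc => ⟨1, by
      obtain ⟨m, -, -, -, h2⟩ := Q.cov hc
      rw [τ_one, map_one, one_smul, h2, h]⟩
  refine ⟨hl, ?_⟩
  rcases out (fun m hm hw => orb ⟨by simp only [List.mem_cons, List.not_mem_nil, or_false] at hm; omega, hw⟩ rfl
    (hu _)) with e | ⟨h3, hw, e⟩
  · exact ⟨1, 1, triv (Q.im_id hl hG e), fun _ => ⟨rfl, rfl⟩⟩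
  have hw' : g • Q.φ D.w ≠ Q.φ D.w := by rwa [hu, Ne, Q.inj]
  rcases e with e | ⟨⟨a, b⟩, hab, e⟩
  · obtain ⟨n, hn, hc⟩ : Ord K g := by
      rcases side with h | h | h
      exacts [(hw' h).elim, h, by omega]
    have hl3 : S.Lin (g * g * g) := fun c v => by simp only [mul_smul, hl c]
    have h4 := Q.im_id hl3 (G := G.map fun u => cmb (cmb u G) G) (by
      simp only [B8.Rel, Im, mul_smul, B8.map] at hG ⊢
      simp only [hG]
      simp only [Im] at hu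
      simp only [hu, and_self]) e D.w
    have h5 : g ^ 3 ∈ MulAction.stabilizer Γ (Q.φ D.w) := by rwa [pow_succ, sq]
    rw [hK, h3] at hc
    have h6 : g ∈ zpowers (g ^ 3) := mem_zpowers_pow_iff.2 (hc.coprime_dvd_left (orderOf_dvd_of_pow_eq_one hn)).symm
    exact (hw' (zpowers_le.2 h5 h6)).elim
  obtain ⟨ha, hb, hc⟩ := hL _ hab
  refine ⟨Q.W a, Q.W b, con_of free hg hx (Q.hW a ha.2) (Q.hW b hb.2)
    ((Q.β_iff (Q.hW a ha.2) hb (Q.act a ha.1 ha.2) x0).2 hc) fun c hc => ?_,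
    fun h => (h.elim (fun h => h (hK.trans h3)) hw').elim⟩
  obtain ⟨m, hm, hw, -, h2⟩ := Q.cov hc
  have w0 : 0 < D.N ∧ Wd D.δ 0 := ⟨by omega, Or.inr (by simp)⟩
  have h4 : S.τ (Q.W a) (Q.W b) c • Q.φ D.x = Q.φ (D.tau a b m) := by
    unfold τ Dat.tau
    simp only [Q.β_iff hc ha h2 x0, Q.β_iff hc hb h2 x0, mul_smul]
    rw [← h2]
    split_ifs <;> simp only [← Q.act _ w0.1 w0.2, ← Q.act _ ha.1 ha.2, ← Q.act _ hb.1 hb.2, Q.W0]
  rw [h4, h2, hu]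
  rcases e m hm hw with e | e <;> rw [← Q.inj] at e
  · exact ⟨1, by rw [map_one, one_smul, e]⟩
  · refine ⟨-1, ?_⟩
    have h5 := (exists_nat_of_prime hpp hK).1
    rw [e, Q.smul, S.hs, Nat.cast_sub hpp.one_le, h5]
    simp

end Mod

end Sy

end Cfsg.Lib.SL
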