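import Mathlib

/-!
A maximal abelian normal subgroup of a solvable group and a group of symplectic type above it.
-/

set_option autoImplicit false
set_option linter.style.haveILetI false

namespace Cfsg.Lib.SL

open Subgroup
open scoped commutatorElement

variable {A : Type*} [Group A]

theorem exists_last {α : Type*} [PartialOrder α] (f : ℕ → α) (U : α) (h0 : ¬ f 0 ≤ U) {n : ℕ}
    (hn : f n ≤ U) : ∃ k, ¬ f k ≤ U ∧ f (k + 1) ≤ U := by
  induction n with
  | zero => exact (h0 hn).elim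
  | succ n ih =>
    by_cases h : f n ≤ U
    exacts [ih h, ⟨n, h, hn⟩]

theorem pow_comm_of {r t c : A} (h : r * t = c * (t * r)) (hr : Commute c r) (ht : Commute c t) (a b : ℕ) :
    r ^ a * t ^ b = c ^ (a * b) * (t ^ b * r ^ a) := by
  have key : ∀ {r t c : A}, r * t = c * (t * r) → Commute c r → ∀ a : ℕ,
      r ^ a * t = c ^ a * (t * r ^ a) := fun {r t c} h hr a => by
    induction a with
    | zero => simp
    | succ a ih =>
      rw [pow_succ', mul_assoc, ih, ← mul_assoc, (hr.pow_left a).symm.eq, mul_assoc, ← mul_assoc r, h,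
        pow_succ]
      simp only [mul_assoc]
  have h1 := key h hr a
  have h2 : t * r ^ a = (c ^ a)⁻¹ * (r ^ a * t) := by rw [h1, inv_mul_cancel_left]
  rw [key h2 (ht.pow_left a).inv_left b, pow_mul, inv_pow, mul_inv_cancel_left]

/-- `U` is maximal abelian normal, and `R` is self-centralising modulo `U` of class two above it -/
structure UR (U R : Subgroup A) : Prop where
  nU : U.Normal
  nR : R.Normal
  le : U ≤ R
  cU : ∀ u ∈ U, ∀ r ∈ R, u * r = r * u
  comm : ∀ r ∈ R, ∀ r' ∈ R, ⁅r, r'⁆ ∈ U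
  mx : ∀ T : Set A, (∀ g, ∀ t ∈ T, g * t * g⁻¹ ∈ T) → (∀ a ∈ T, ∀ b ∈ T, a * b = b * a) →
    (∀ u ∈ U, ∀ t ∈ T, u * t = t * u) → T ⊆ U
  cR : ∀ c, (∀ r ∈ R, r * c = c * r) → c ∈ U

theorem exists_UR [Finite A] [Group.IsSolvable A] : ∃ U R : Subgroup A, UR U R := by
  obtain ⟨U, -, hU⟩ := Finite.exists_le_maximal (p := fun B : Subgroup A => B.Normal ∧ B ≤ centralizer B)
    (a := ⊥) ⟨inferInstance, bot_le⟩
  haveI nU := hU.prop.1
  have mx : ∀ T : Set A, (∀ g, ∀ t ∈ T, g * t * g⁻¹ ∈ T) → (∀ a ∈ T, ∀ b ∈ T, a * b = b * a) →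
      (∀ u ∈ U, ∀ t ∈ T, u * t = t * u) → T ⊆ U := fun T h1 h2 h3 => by
    have h4 : closure (U ∪ T) ≤ centralizer (U ∪ T) := (closure_le _).2 (by
      rintro a (ha | ha) b (hb | hb)
      exacts [hU.prop.2 ha b hb, (h3 a ha b hb).symm, h3 b hb a ha, h2 b hb a ha])
    have h5 : (closure (U ∪ T : Set A)).Normal := ⟨fun a ha g => by
      refine (closure_le ((closure (U ∪ T : Set A)).comap (MulAut.conj g).toMonoidHom)).2 ?_ ha
      rintro b (hb | hb)
      exacts [subset_closure (Or.inl (nU.conj_mem b hb g)), subset_closure (Or.inr (h1 g b hb))]⟩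
    exact fun t ht => hU.le_of_ge ⟨h5, by rwa [centralizer_closure]⟩
      (fun u hu => subset_closure (Or.inl hu)) (subset_closure (Or.inr ht))
  obtain ⟨R, hle, hR⟩ := Finite.exists_le_maximal
    (p := fun B : Subgroup A => B.Normal ∧ B ≤ centralizer U ∧ ∀ r ∈ B, ∀ r' ∈ B, ⁅r, r'⁆ ∈ U) (a := U)
    ⟨nU, hU.prop.2, fun r hr r' hr' => commutator_le_left U U (commutator_mem_commutator hr hr')⟩
  haveI nR := hR.prop.1
  refine ⟨U, R, nU, nR, hle, fun u hu r hr => hR.prop.2.1 hr u hu, hR.prop.2.2, mx, ?_⟩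
  change centralizer (R : Set A) ≤ U
  by_contra hc
  let f : ℕ → Subgroup A := fun k => (fun H : Subgroup A => ⁅H, H⁆)^[k] (centralizer (R : Set A))
  have fs : ∀ k, f (k + 1) = ⁅f k, f k⁆ := fun k => Function.iterate_succ_apply' _ k _
  have hf : ∀ k, (f k).Normal ∧ f k ≤ centralizer (R : Set A) ∧ f k ≤ derivedSeries A k := fun k => by
    induction k with
    | zero => exact ⟨normal_centralizer, le_rfl, le_top⟩
    | succ k ih =>
      haveI := ih.1
      rw [fs]
      exact ⟨inferInstance, (commutator_le_left _ _).trans ih.2.1, commutator_mono ih.2.2 ih.2.2⟩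
  obtain ⟨n, hn⟩ := Group.IsSolvable.solvable (G := A)
  obtain ⟨k, h1, h2⟩ := exists_last f U hc ((hf n).2.2.trans (hn.le.trans bot_le))
  haveI := (hf k).1
  have h3 : f k ≤ R := le_sup_right.trans (hR.le_of_ge (y := R ⊔ f k) ⟨inferInstance,
    sup_le hR.prop.2.1 ((hf k).2.1.trans (centralizer_le hle)), fun a ha b hb => by
      rw [← SetLike.mem_coe, mul_normal] at ha hb
      obtain ⟨r, hr, e, he, rfl⟩ := ha
      obtain ⟨r', hr', e', he', rfl⟩ := hb
      have cc : ∀ {a b}, a ∈ R → b ∈ f k → Commute a b := fun ha hb => (hf k).2.1 hb _ ha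
      have : ⁅r * e, r' * e'⁆ = ⁅r, r'⁆ * ⁅e, e'⁆ := by
        simp only [commutatorElement_def]
        rw [(cc hr he).mul_inv, (cc hr' he').mul_inv, (cc hr' he).symm.mul_mul_mul_comm,
          (cc (inv_mem hr) (mul_mem he he')).symm.mul_mul_mul_comm,
          (cc (inv_mem hr') (mul_mem (mul_mem he he') (inv_mem he))).symm.mul_mul_mul_comm]
      change ⁅r * e, r' * e'⁆ ∈ U
      rw [this]
      exact mul_mem (hR.prop.2.2 r hr r' hr') (h2 (fs k ▸ commutator_mem_commutator he he'))⟩ le_sup_left)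
  exact h1 (mx (f k) (fun g t ht => (hf k).1.conj_mem t ht g) (fun a ha b hb => (hf k).2.1 hb a (h3 ha))
    fun u hu t ht => (hf k).2.1 ht u (hle hu))

namespace UR

variable {U R : Subgroup A} (h : UR U R)
include h

theorem triv (hU : ∀ u ∈ U, u = 1) (a : A) : a = 1 := by
  have h1 := h.mx R (fun g t ht => h.nR.conj_mem t ht g)
    (fun a ha b hb => commutatorElement_eq_one_iff_mul_comm.1 (hU _ (h.comm a ha b hb))) h.cU
  exact hU a (h.cR a fun r hr => by rw [hU r (h1 hr), one_mul, mul_one])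

theorem center_le {B : Subgroup A} (nB : B.Normal) (hB : B ≤ R) {c : A} (hc : c ∈ B)
    (e : ∀ b ∈ B, b * c = c * b) : c ∈ U :=
  h.mx (B ⊓ centralizer (B : Set A) : Subgroup A)
    (fun g t ht => (inferInstance : (B ⊓ centralizer (B : Set A)).Normal).conj_mem t ht g)
    (fun a ha _ hb => hb.2 a ha.1) (fun u hu t ht => h.cU u hu t (hB ht.1)) ⟨hc, e⟩

theorem exists_sqf [Finite A] : ∃ n : ℕ, Squarefree n ∧ ∀ r ∈ R, r ^ n ∈ U := by
  classical
  have ex : ∃ n : ℕ, 0 < n ∧ ∀ r ∈ R, r ^ n ∈ U :=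
    ⟨Nat.card A, Nat.card_pos, fun r _ => by rw [pow_card_eq_one']; exact one_mem _⟩
  obtain ⟨h0, h1⟩ := Nat.find_spec ex
  refine ⟨_, Nat.squarefree_iff_prime_squarefree.2 fun p hp ⟨k, hk⟩ => ?_, h1⟩
  have k0 : 0 < p * k := Nat.pos_of_ne_zero fun e => by rw [hk, mul_assoc, e] at h0; simp at h0
  refine Nat.find_min ex (m := p * k) (by rw [hk, mul_assoc]; nlinarith [hp.one_lt]) ⟨k0, fun r hr => ?_⟩
  refine h.mx {t | ∃ r ∈ R, t = r ^ (p * k)} ?_ ?_ ?_ ⟨r, hr, rfl⟩
  · rintro g _ ⟨r, hr, rfl⟩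
    exact ⟨_, h.nR.conj_mem r hr g, by rw [conj_pow]⟩
  · rintro _ ⟨r, hr, rfl⟩ _ ⟨t, ht, rfl⟩
    have e : r * t = ⁅r, t⁆ * (t * r) := by rw [commutatorElement_def]; group
    have c1 : Commute ⁅r, t⁆ r := h.cU _ (h.comm r hr t ht) r hr
    have c2 : Commute ⁅r, t⁆ t := h.cU _ (h.comm r hr t ht) t ht
    have e1 := pow_comm_of e c1 c2 (Nat.find ex) 1
    rw [pow_one, h.cU _ (h1 r hr) t ht, mul_one, right_eq_mul, hk] at e1
    rw [pow_comm_of e c1 c2, show p * k * (p * k) = p * p * k * k by ring, pow_mul, e1, one_pow, one_mul]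
  · rintro u hu _ ⟨r, hr, rfl⟩
    exact h.cU u hu _ (pow_mem hr _)

/-- the fixed points of `Y` on `R / U` -/
def fixed (Y : Subgroup A) : Subgroup A where
  carrier := {c | c ∈ R ∧ ∀ y ∈ Y, ⁅c, y⁆ ∈ U}
  one_mem' := ⟨one_mem _, fun y _ => by simp⟩
  mul_mem' {a b} ha hb := ⟨mul_mem ha.1 hb.1, fun y hy => by
    have := mul_mem (h.nU.conj_mem _ (hb.2 y hy) a) (ha.2 y hy)
    convert this using 1
    simp only [commutatorElement_def]; group⟩
  inv_mem' {a} ha := ⟨inv_mem ha.1, fun y hy => by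
    have := h.nU.conj_mem _ (inv_mem (ha.2 y hy)) a⁻¹
    convert this using 1
    simp only [commutatorElement_def]; group⟩

theorem fixed_normal (Y : Subgroup A) [nY : Y.Normal] : (h.fixed Y).Normal :=
  ⟨fun c hc g => ⟨h.nR.conj_mem c hc.1 g, fun y hy => by
    have := h.nU.conj_mem _ (hc.2 _ (nY.conj_mem y hy g⁻¹)) g
    convert this using 1
    simp only [commutatorElement_def]; group⟩⟩

theorem cent_fixed (Y : Subgroup A) [Y.Normal] [Group.IsNilpotent Y] (hY : R ≤ Y) :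
    R ⊓ centralizer (h.fixed Y : Set A) ≤ U := by
  haveI := h.fixed_normal Y
  haveI := h.nR
  by_contra hc
  let f : ℕ → Subgroup A := fun k => (fun H : Subgroup A => ⁅H, Y⁆)^[k] (R ⊓ centralizer (h.fixed Y : Set A))
  have fs : ∀ k, f (k + 1) = ⁅f k, Y⁆ := fun k => Function.iterate_succ_apply' _ k _
  have hf : ∀ k, (f k).Normal ∧ f k ≤ R ⊓ centralizer (h.fixed Y : Set A) ∧
      f k ≤ Y.lowerCentralSeries k := fun k => by
    induction k with
    | zero =>
      exact ⟨inferInstanceAs (R ⊓ centralizer (h.fixed Y : Set A)).Normal, le_rfl, inf_le_left.trans hY⟩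
    | succ k ih =>
      haveI := ih.1
      rw [fs]
      exact ⟨inferInstance, (commutator_le_left _ _).trans ih.2.1, commutator_mono ih.2.2 le_rfl⟩
  obtain ⟨n, hn⟩ := (isNilpotent_iff_lowerCentralSeries Y).1 ‹Group.IsNilpotent Y›
  obtain ⟨k, h1, h2⟩ := exists_last f U hc ((hf n).2.2.trans (hn.le.trans bot_le))
  refine h1 fun d hd => h.center_le (h.fixed_normal Y) (fun _ hb => hb.1) ⟨((hf k).2.1 hd).1, fun y hy =>
    h2 (fs k ▸ commutator_mem_commutator hd hy)⟩ ((hf k).2.1 hd).2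

end UR

end Cfsg.Lib.SL
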