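import Cfsg.Agent.Lib.SL.Perm
import Cfsg.Agent.Lib.SL.Dich

/-!
Bases for irreducible solvable linear groups: reduction of the imprimitive case.
-/

set_option autoImplicit false
set_option linter.style.haveILetI false

namespace Cfsg.Lib.SL

open Subgroup MulAction
open scoped Pointwise

universe u

/-- only the kernel of the action fixes all the vectors -/
def IsBase (A : Type*) {V ι : Type*} [Group A] [MulAction A V] (t : ι → V) : Prop :=
  ∀ a : A, (∀ i, a • t i = t i) → ∀ v : V, a • v = v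

/-- action on an invariant subgroup -/
@[reducible] def invAct (A : Type*) {V : Type*} [Group A] [AddCommGroup V] [DistribMulAction A V]
    (W : AddSubgroup V) (h : ∀ a : A, ∀ v ∈ W, a • v ∈ W) : DistribMulAction A W where
  smul a w := ⟨a • (w : V), h a w w.2⟩
  one_smul w := Subtype.ext (one_smul A (w : V))
  mul_smul a b w := Subtype.ext (mul_smul a b (w : V))
  smul_zero a := Subtype.ext (smul_zero a)
  smul_add a v w := Subtype.ext (smul_add a (v : V) w)

section

variable {A V : Type*} [Group A] [AddCommGroup V] [DistribMulAction A V] {W : AddSubgroup V}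

theorem orbit_mem (a : A) (j : orbit A W) (v : V) :
    a • v ∈ ((a • j : orbit A W) : AddSubgroup V) ↔ v ∈ (j : AddSubgroup V) :=
  AddSubgroup.smul_mem_pointwise_smul_iff

theorem orbit_tr (i j : orbit A W) : ∃ a : A, a • j = i := exists_smul_eq A j i

variable [Fintype (orbit A W)]

theorem exists_sum (irr : Irr A V) (j : orbit A W) {W' : AddSubgroup V} (h0 : W' ≠ ⊥)
    (inv : ∀ a : A, a • j = j → ∀ v ∈ W', a • v ∈ W') (v : V) :
    ∃ s : orbit A W → V, (∀ i (a : A), a • j = i → a⁻¹ • s i ∈ W') ∧ ∑ i, s i = v := by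
  classical
  let M : AddSubgroup V :=
    { carrier := {v | ∃ s : orbit A W → V, (∀ i (a : A), a • j = i → a⁻¹ • s i ∈ W') ∧ ∑ i, s i = v}
      zero_mem' := ⟨0, fun i a _ => by simp, by simp⟩
      add_mem' := by
        rintro _ _ ⟨s, hs, rfl⟩ ⟨s', hs', rfl⟩
        exact ⟨s + s', fun i a e => by
          rw [Pi.add_apply, smul_add]; exact add_mem (hs i a e) (hs' i a e), Finset.sum_add_distrib⟩
      neg_mem' := by
        rintro _ ⟨s, hs, rfl⟩
        exact ⟨-s, fun i a e => by rw [Pi.neg_apply, smul_neg]; exact neg_mem (hs i a e), by simp⟩ }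
  have h1 : M = ⊤ := (irr M (by
    rintro b _ ⟨s, hs, rfl⟩
    refine ⟨fun i => b • s (b⁻¹ • i), fun i a e => ?_, ?_⟩
    · have := hs (b⁻¹ • i) (b⁻¹ * a) (by rw [mul_smul, e])
      rwa [mul_inv_rev, inv_inv, mul_smul] at this
    · rw [Finset.smul_sum]
      exact Equiv.sum_comp (toPerm b⁻¹) fun i => b • s i)).resolve_left fun e => h0 (eq_bot_iff.2
        fun w hw => e.le ⟨Pi.single j w, fun i a e => by
          by_cases h : i = j
          · subst h
            rw [Pi.single_eq_same]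
            exact inv _ (inv_smul_eq_iff.2 e.symm) w hw
          · rw [Pi.single_eq_of_ne h, smul_zero]; exact zero_mem _, by simp⟩)
  exact (h1 ▸ AddSubgroup.mem_top v : v ∈ M)

theorem Indep.eq (h : Indep A W) {s s' : orbit A W → V} (hs : ∀ j : orbit A W, s j ∈ (j : AddSubgroup V))
    (hs' : ∀ j : orbit A W, s' j ∈ (j : AddSubgroup V)) (e : ∑ j, s j = ∑ j, s' j) (j : orbit A W) : s j = s' j :=
  sub_eq_zero.1 (h Finset.univ (fun j => s j - s' j) (fun j _ => sub_mem (hs j) (hs' j))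
    (by rw [Finset.sum_sub_distrib, e, sub_self]) j (Finset.mem_univ j))

theorem Indep.le (h : Indep A W) (irr : Irr A V) (j : orbit A W) {W' : AddSubgroup V} (h0 : W' ≠ ⊥)
    (hle : W' ≤ j) (inv : ∀ a : A, a • j = j → ∀ v ∈ W', a • v ∈ W') : (j : AddSubgroup V) ≤ W' := by
  classical
  intro v hv
  obtain ⟨s, hs, e⟩ := exists_sum irr j h0 inv v
  have := h.eq (s := s) (s' := Pi.single j v) (fun i : orbit A W => by
    obtain ⟨a, rfl⟩ := orbit_tr i j
    rw [← smul_inv_smul a (s _), orbit_mem]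
    exact hle (hs _ a rfl)) (fun i => by
      by_cases h : i = j
      · subst h; rwa [Pi.single_eq_same]
      · rw [Pi.single_eq_of_ne h]; exact zero_mem _) (by simpa using e) j
  simpa [this] using hs j 1 (one_smul _ _)

end

/-- the primitive case -/
def BasePrim (ι : Type) (P Q : ℕ → Prop) : Prop :=
  ∀ (A V : Type u) [Group A] [Finite A] [Group.IsSolvable A] [AddCommGroup V] [Finite V] [Nontrivial V]
    [DistribMulAction A V] [FaithfulSMul A V], P (Nat.card A) → Q (Nat.card V) →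
    (∃ W : AddSubgroup V, W ≠ ⊥ ∧ W ≠ ⊤ ∧ Indep A W) ∨ ∃ t : ι → V, IsBase A t

/-- several inequivalent bases from one -/
def BaseMult (ι C : Type) (P Q : ℕ → Prop) : Prop :=
  ∀ (A V : Type u) [Group A] [Finite A] [Group.IsSolvable A] [AddCommGroup V] [Finite V] [Nontrivial V]
    [DistribMulAction A V], P (Nat.card A) → Q (Nat.card V) → Irr A V → ∀ t : ι → V, IsBase A t →
    ∃ g : C → ι → V, (∀ c, IsBase A (g c)) ∧ ∀ c c' (a : A), (∀ i, a • g c i = g c' i) → c = c'

/-- existence of bases -/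
def BaseEx (ι : Type) (P Q : ℕ → Prop) (m : ℕ) : Prop :=
  ∀ (A V : Type u) [Group A] [Finite A] [Group.IsSolvable A] [AddCommGroup V] [Finite V]
    [DistribMulAction A V], Nat.card V ≤ m → P (Nat.card A) → Q (Nat.card V) → Irr A V →
    ∃ t : ι → V, IsBase A t

theorem imprim {ι C : Type} {P Q : ℕ → Prop} (hP : ∀ a b, a ∣ b → P b → P a) (hQ : ∀ a b, a ∣ b → Q b → Q a)
    (mult : BaseMult.{u} ι C P Q) {m : ℕ} (ih : BaseEx.{u} ι P Q m) (col : ColEx.{u} C P m) {A V : Type u}
    [Group A] [Finite A] [Group.IsSolvable A] [AddCommGroup V] [Finite V] [DistribMulAction A V]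
    (hm : Nat.card V ≤ m + 1) (hA : P (Nat.card A)) (hV : Q (Nat.card V)) (irr : Irr A V) {W : AddSubgroup V}
    (h0 : W ≠ ⊥) (h1 : W ≠ ⊤) (hW : Indep A W) : ∃ t : ι → V, IsBase A t := by
  classical
  haveI := Fintype.ofFinite (orbit A W)
  have j0 : ∀ j : orbit A W, ∃ v ∈ (j : AddSubgroup V), v ≠ 0 := fun j => by
    obtain ⟨a, rfl⟩ := orbit_tr j ⟨W, mem_orbit_self W⟩
    obtain ⟨⟨v, hv⟩, v0⟩ := AddSubgroup.ne_bot_iff_exists_ne_zero.1 h0
    exact ⟨a • v, (orbit_mem a _ v).2 hv, fun e => v0 (Subtype.ext ((smul_eq_zero_iff_eq a).1 e))⟩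
  have j1 : ∀ j : orbit A W, Nat.card (j : AddSubgroup V) ≤ m := fun j => by
    obtain ⟨a, rfl⟩ := orbit_tr j ⟨W, mem_orbit_self W⟩
    obtain ⟨v, hv⟩ : ∃ v, v ∉ W := by simpa [eq_top_iff, SetLike.le_def] using h1
    have := Finite.card_subtype_lt (p := (· ∈ ((a • ⟨W, mem_orbit_self W⟩ : orbit A W) : AddSubgroup V)))
      (x := a • v) fun e => hv ((orbit_mem a _ v).1 e)
    exact Nat.lt_succ_iff.1 (this.trans_le hm)
  have j2 : Nat.card (orbit A W) ≤ m := by
    choose v hv v0 using j0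
    have h2 := Nat.card_le_card_of_injective (fun j => (⟨v j, v0 j⟩ : {v : V // v ≠ 0})) fun i j e => by
      by_contra hij
      have e' : v i = v j := congrArg Subtype.val e
      refine v0 i (hW {i, j} (fun k => if k = i then v i else -v j) (fun k hk => ?_)
        (by simp [Finset.sum_pair hij, Ne.symm hij, e']) i (by simp) |>.symm.trans (if_pos rfl) |>.symm)
      split_ifs with h
      · exact h ▸ hv i
      · obtain rfl : k = j := by simpa [h] using hk
        exact neg_mem (hv k)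
    have := Finite.card_subtype_lt (p := fun v : V => v ≠ 0) (x := 0) (by simp)
    omega
  obtain ⟨c, hc⟩ := col A (orbit A W) j2 hA
  obtain ⟨σ, h2, h3⟩ := transport (X := A) (E := orbit A W × (ι → V)) Prod.fst (fun _ _ => rfl)
    (fun e => (∀ i, e.2 i ∈ (e.1 : AddSubgroup V)) ∧
      ∀ a : A, a • e = e → ∀ v ∈ (e.1 : AddSubgroup V), a • v = v) (by
      rintro a ⟨j, F⟩ ⟨e1, e2⟩
      refine ⟨fun i => (orbit_mem a j _).2 (e1 i), fun b hb v hv => ?_⟩
      obtain ⟨v, rfl⟩ := MulAction.surjective a v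
      have := e2 (a⁻¹ * b * a) (by rw [mul_smul, mul_smul, hb, inv_smul_smul]) v ((orbit_mem a j v).1 hv)
      rwa [mul_smul, mul_smul, inv_smul_eq_iff] at this) (fun j => by
      letI := invAct (stabilizer A j) (j : AddSubgroup V) fun a v hv => by
        have := (orbit_mem (a : A) j v).2 hv
        rwa [a.2] at this
      have hP' := hP _ _ (card_subgroup_dvd_card (stabilizer A j)) hA
      have hQ' := hQ _ _ (AddSubgroup.card_addSubgroup_dvd_card (j : AddSubgroup V)) hV
      have irr' : Irr (stabilizer A j) (j : AddSubgroup V) := fun W' h => or_iff_not_imp_left.2 fun e =>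
        eq_top_iff.2 fun v _ => by
          obtain ⟨w, hw, e⟩ := hW.le irr j (W' := W'.map (AddSubgroup.subtype _)) (by
            rwa [Ne, AddSubgroup.map_eq_bot_iff_of_injective _ Subtype.val_injective])
            (AddSubgroup.map_subtype_le _) (by
              rintro a ha _ ⟨w, hw, rfl⟩
              exact ⟨_, h ⟨a, ha⟩ w hw, rfl⟩) v.2
          exact (Subtype.ext e : w = v) ▸ hw
      obtain ⟨t, ht⟩ := ih (stabilizer A j) (j : AddSubgroup V) (j1 j) hP' hQ' irr'
      haveI : Nontrivial (j : AddSubgroup V) := by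
        obtain ⟨v, hv, v0⟩ := j0 j
        exact ⟨⟨⟨v, hv⟩, 0, fun e => v0 (congrArg Subtype.val e)⟩⟩
      obtain ⟨g, g1, g2⟩ := mult _ _ hP' hQ' irr' t ht
      exact ⟨fun c => (j, fun i => g c i), fun c => ⟨rfl, fun i => (g c i).2, fun a e v hv =>
        congrArg Subtype.val (g1 c ⟨a, congrArg Prod.fst e⟩
          (fun i => Subtype.ext (congrFun (congrArg Prod.snd e) i)) ⟨v, hv⟩)⟩,
        fun c c' a e => g2 c c' ⟨a, congrArg Prod.fst e⟩
          fun i => Subtype.ext (congrFun (congrArg Prod.snd e) i)⟩) c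
  have h4 : ∀ (j : orbit A W) i, (σ j).2 i ∈ (j : AddSubgroup V) := fun j i => by
    have := (h2 j).2.1 i
    rwa [(h2 j).1] at this
  refine ⟨fun i => ∑ j, (σ j).2 i, fun a ha v => ?_⟩
  have h5 : ∀ j, a • σ j = σ (a • j) := fun j => Prod.ext (by rw [Prod.smul_fst, (h2 _).1, (h2 _).1])
    (funext fun i => by
      have := hW.eq (s := fun j => a • (σ (a⁻¹ • j)).2 i) (s' := fun j => (σ j).2 i)
        (fun j => by simpa using (orbit_mem a (a⁻¹ • j) _).2 (h4 _ i)) (fun j => h4 j i) (by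
          refine Eq.trans ?_ (ha i)
          rw [Finset.smul_sum]
          exact Equiv.sum_comp (toPerm a⁻¹) fun j => a • (σ j).2 i) (a • j)
      simpa using this)
  have h6 : ∀ j : orbit A W, ∀ v ∈ (j : AddSubgroup V), a • v = v := fun j v hv =>
    (h2 j).2.2 a (by rw [h5, hc a fun j => h3 a j (h5 j)]) v (by rwa [(h2 j).1])
  obtain ⟨s, hs, rfl⟩ := exists_sum irr ⟨W, mem_orbit_self W⟩ h0
    (fun a e v hv => by
      have := (orbit_mem a ⟨W, mem_orbit_self W⟩ v).2 hv
      rwa [e] at this) v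
  rw [Finset.smul_sum]
  refine Finset.sum_congr rfl fun j _ => h6 j _ ?_
  obtain ⟨b, rfl⟩ := orbit_tr j ⟨W, mem_orbit_self W⟩
  rw [← smul_inv_smul b (s _), orbit_mem]
  exact hs _ b rfl

theorem baseEx {ι C : Type} {P Q : ℕ → Prop} (hP : ∀ a b, a ∣ b → P b → P a) (hQ : ∀ a b, a ∣ b → Q b → Q a)
    (prim : BasePrim.{u} ι P Q) (mult : BaseMult.{u} ι C P Q)
    (col : ∀ m, BaseEx.{u} ι P Q m → ColEx.{u} C P m) (m : ℕ) : BaseEx.{u} ι P Q m := by
  induction m with
  | zero => intro A V _ _ _ _ _ _ hm; exact (Nat.card_pos.not_ge hm).elim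
  | succ m ih =>
  intro A₀ V _ _ _ _ _ _ hm hA₀ hV irr₀
  rcases subsingleton_or_nontrivial V with hs | hs
  · exact ⟨0, fun _ _ _ => Subsingleton.elim _ _⟩
  let A := (emb A₀ V).range
  haveI : Group.IsSolvable A := Group.isSolvable_of_surjective (emb A₀ V).rangeRestrict_surjective
  have hA : P (Nat.card A) := hP _ _ (card_range_dvd _) hA₀
  have irr : Irr A V := fun W h => irr₀ W fun a => h ((emb A₀ V).rangeRestrict a)
  suffices h : ∃ t : ι → V, IsBase A t from h.imp fun t ht a => ht ((emb A₀ V).rangeRestrict a)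
  exact (prim A V hA hV).elim (fun ⟨W, h0, h1, hW⟩ => imprim hP hQ mult ih (col m ih) hm hA hV irr h0 h1 hW) id

end Cfsg.Lib.SL
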