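import Mathlib

/-!
A finite check: the product of two involutions of small rank has order dividing twelve.
-/

set_option autoImplicit false

namespace Cfsg.Lib.SL

/-- first map on states -/
def stF (p q r s u v : Bool) (x : Bool × Bool × Bool × Bool × Bool) : Bool × Bool × Bool × Bool × Bool :=
  cond x.1 (cond x.2.1 (true, true, (x.2.2.1 ^^ (p ^^ r)), x.2.2.2.1 ^^ (q ^^ s), x.2.2.2.2 ^^ (u ^^ v))
    (true, false, x.2.2.1 ^^ r, x.2.2.2.1 ^^ s, x.2.2.2.2 ^^ v))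
    (cond x.2.1 (false, true, x.2.2.1 ^^ p, x.2.2.2.1 ^^ q, x.2.2.2.2 ^^ u) x)

/-- second map on states -/
def stG (p q r s u v : Bool) (x : Bool × Bool × Bool × Bool × Bool) : Bool × Bool × Bool × Bool × Bool :=
  cond x.2.2.1 (cond x.2.2.2.1 (x.1 ^^ (p ^^ q), x.2.1 ^^ (r ^^ s), true, true, x.2.2.2.2 ^^ (u ^^ v))
    (x.1 ^^ q, x.2.1 ^^ s, true, false, x.2.2.2.2 ^^ v))
    (cond x.2.2.2.1 (x.1 ^^ p, x.2.1 ^^ r, false, true, x.2.2.2.2 ^^ u) x)

theorem stF_eq (p q r s u v a b c d e : Bool) : stF p q r s u v (a, b, c, d, e) =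
    (a, b, (c ^^ (b && p)) ^^ (a && r), (d ^^ (b && q)) ^^ (a && s), (e ^^ (b && u)) ^^ (a && v)) := by
  cases a <;> cases b <;> simp [stF]

theorem stG_eq (p q r s u v a b c d e : Bool) : stG p q r s u v (a, b, c, d, e) =
    ((a ^^ (d && p)) ^^ (c && q), (b ^^ (d && r)) ^^ (c && s), c, d, (e ^^ (d && u)) ^^ (c && v)) := by
  cases c <;> cases d <;> simp [stG]

theorem st_twelve : ∀ p q r s u v u' v' a b c d e : Bool,
    ((stF p q r s u v ∘ stG p q r s u' v')^[12] (a, b, c, d, e)).2.2.2.2 = e := by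
  decide +kernel

end Cfsg.Lib.SL
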