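import Cfsg.Agent.Lib.SL.Bot
import Cfsg.Agent.Lib.SL.St12

/-!
Automorphisms acting trivially modulo the scalars are inner; products of two involutions of small rank.
-/

set_option autoImplicit false
set_option linter.style.haveILetI false

namespace Cfsg.Lib.SL

open Subgroup

namespace Sy

variable {K V Γ : Type*} [Field K] [AddCommGroup V] [Module K V] [Group Γ] [DistribMulAction Γ V]
  {S : Sy K V Γ}

theorem C_bot : S.C ⊥ = S.R := le_antisymm (C_le _) fun c hc => (mem_C bot_le).2 ⟨hc, fun a ha => by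
  rw [mem_bot.1 ha, β_one_left hc]⟩

theorem D_bot : S.D ⊥ = S.s.range := bot_sup_eq _

theorem exists_inner [Finite Γ] {g : Γ} (hl : S.Lin g)
    (h : ∀ c ∈ S.R, c⁻¹ * (g * c * g⁻¹) ∈ S.s.range) : ∃ r ∈ S.R, ∀ c ∈ S.R, g * c * g⁻¹ = r * c * r⁻¹ := by
  have hS : S.s.range ≤ S.R := by rintro _ ⟨c, rfl⟩; exact S.sR c
  haveI := normal_subgroupOf hS (fun c => ⟨c, rfl⟩) le_rfl
  choose χ hχ using h
  have e1 : ∀ c hc, g * c * g⁻¹ = S.s (χ c hc) * c := fun c hc => by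
    rw [← S.s_comm hc, hχ, mul_inv_cancel_left]
  let χ' : S.R →* Kˣ := MonoidHom.mk' (fun c => χ c c.2) fun a b => S.s_inj (mul_right_cancel (b := (a * b : Γ)) (by
    change S.s (χ _ (a * b).2) * ((a * b : S.R) : Γ) = S.s (χ a a.2 * χ b b.2) * (a * b)
    rw [← e1, map_mul, coe_mul, ← conj_mul, e1 a a.2, e1 b b.2, mul_assoc, ← mul_assoc (a : Γ),
      S.s_comm a.2]
    simp only [mul_assoc]))
  let f : S.R → (S.R →* Kˣ) := fun x => MonoidHom.mk' (fun y => S.β x y)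
    fun a b => β_mul_right x.2 a.2 b.2
  let φ : S.R →* (S.R ⧸ S.s.range.subgroupOf S.R →* Kˣ) := MonoidHom.mk'
    (fun x => QuotientGroup.lift _ (f x) fun y ⟨c, hc⟩ => by
      change S.β x y = 1
      rw [show (y : Γ) = S.s c from hc.symm, β_s_right x.2]) fun a b => by
      ext y
      exact congrArg Units.val (β_mul_left a.2 b.2 y.2)
  have hk : φ.ker ≤ S.s.range.subgroupOf S.R := fun x e => by
    obtain ⟨c, hc⟩ := S.nondeg x x.2 fun y hy => (β_eq_one_iff x.2 hy).1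
      (DFunLike.congr_fun e (QuotientGroup.mk (⟨y, hy⟩ : S.R)) :)
    exact ⟨c, hc.symm⟩
  obtain ⟨hf, hc⟩ := card_hom_le (S.R ⧸ S.s.range.subgroupOf S.R) K
  have ht : φ.range = ⊤ := eq_top_of_le_card _ (by
    rw [← index_ker]
    exact hc.trans (Nat.le_of_dvd (Nat.pos_of_ne_zero index_ne_zero_of_finite) (index_dvd_of_le hk)))
  obtain ⟨r, hr⟩ : QuotientGroup.lift (S.s.range.subgroupOf S.R) χ' (fun y ⟨c, hc⟩ => S.s_inj
     (mul_right_cancel (b := (y : Γ)) (by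
    change S.s (χ y y.2) * y = _
    rw [← e1, map_one, one_mul, show (y : Γ) = S.s c from hc.symm, hl.conj]))) ∈ φ.range := ht ▸ mem_top _
  refine ⟨r, r.2, fun c hc => ?_⟩
  rw [e1 c hc, conj_eq r.2 hc]
  exact congrArg (S.s · * c) (DFunLike.congr_fun hr (QuotientGroup.mk (⟨c, hc⟩ : S.R)) :).symm

open Classical in
variable (S) in
/-- the pairing as a bit -/
noncomputable def ω (a b : Γ) : Bool := decide (S.β a b ≠ 1)

variable (S) in
/-- `g` acts modulo the scalars like the involution attached to `a`, `b` -/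
structure Tv (g a b : Γ) : Prop where
  hg : g ∈ normalizer (S.R : Set Γ)
  ha : a ∈ S.R
  hb : b ∈ S.R
  hab : S.ω a b = false
  act : ∀ c ∈ S.R, ∀ t ∈ S.R,
    S.ω (g * c * g⁻¹) t = ((S.ω c t ^^ (S.ω c b && S.ω a t)) ^^ (S.ω c a && S.ω b t))

theorem ω_false {a b : Γ} : S.ω a b = false ↔ S.β a b = 1 := by simp [ω]

theorem ω_self {a : Γ} (ha : a ∈ S.R) : S.ω a a = false := ω_false.2 (β_self ha)

theorem ω_swap {a b : Γ} (ha : a ∈ S.R) (hb : b ∈ S.R) : S.ω b a = S.ω a b := by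
  simp [ω, β_swap ha hb]

theorem ω_conj {g a b : Γ} (hg : g ∈ normalizer (S.R : Set Γ)) (hl : S.Lin g) (ha : a ∈ S.R) (hb : b ∈ S.R) :
    S.ω (g * a * g⁻¹) (g * b * g⁻¹) = S.ω a b := by
  rw [ω, β_conj hg hl ha hb, ω]

theorem Tv.conj {g a b k : Γ} (h : S.Tv g a b) (hk : k ∈ normalizer (S.R : Set Γ)) (hl : S.Lin k) :
    S.Tv (k * g * k⁻¹) (k * a * k⁻¹) (k * b * k⁻¹) := by
  refine ⟨mul_mem (mul_mem hk h.hg) (inv_mem hk), conj_mem hk h.ha, conj_mem hk h.hb,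
    (ω_conj hk hl h.ha h.hb).trans h.hab, fun c hc t ht => ?_⟩
  replace hc : ∃ c' ∈ S.R, c = k * c' * k⁻¹ := ⟨_, conj_mem (inv_mem hk) hc, by group⟩
  replace ht : ∃ t' ∈ S.R, t = k * t' * k⁻¹ := ⟨_, conj_mem (inv_mem hk) ht, by group⟩
  obtain ⟨c, hc, rfl⟩ := hc
  obtain ⟨t, ht, rfl⟩ := ht
  rw [show k * g * k⁻¹ * (k * c * k⁻¹) * (k * g * k⁻¹)⁻¹ = k * (g * c * g⁻¹) * k⁻¹ by group,
    ω_conj hk hl (conj_mem h.hg hc) ht, ω_conj hk hl hc ht, ω_conj hk hl hc h.hb, ω_conj hk hl h.ha ht,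
    ω_conj hk hl hc h.ha, ω_conj hk hl h.hb ht, h.act c hc t ht]

theorem Tv.sq {g a b : Γ} (h : S.Tv g a b) {c t : Γ} (hc : c ∈ S.R) (ht : t ∈ S.R) :
    S.ω (g * g * c * (g * g)⁻¹) t = S.ω c t := by
  rw [show g * g * c * (g * g)⁻¹ = g * (g * c * g⁻¹) * g⁻¹ by group, h.act _ (conj_mem h.hg hc) t ht,
    h.act c hc t ht, h.act c hc b h.hb, h.act c hc a h.ha, h.hab, ω_swap h.ha h.hb, h.hab, ω_self h.ha,
    ω_self h.hb]
  cases S.ω c t <;> cases S.ω c b <;> cases S.ω c a <;> cases S.ω a t <;> cases S.ω b t <;> rfl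

theorem Tv.twelve {g a b g' a' b' : Γ} (h : S.Tv g a b) (h' : S.Tv g' a' b') {c t : Γ} (hc : c ∈ S.R)
    (ht : t ∈ S.R) : S.ω ((g * g') ^ 12 * c * ((g * g') ^ 12)⁻¹) t = S.ω c t := by
  let st : Γ → Bool × Bool × Bool × Bool × Bool := fun c => (S.ω c a, S.ω c b, S.ω c a', S.ω c b', S.ω c t)
  have e1 : ∀ c ∈ S.R, st (g * c * g⁻¹) =
      stF (S.ω a a') (S.ω a b') (S.ω b a') (S.ω b b') (S.ω a t) (S.ω b t) (st c) := fun c hc => by
    simp only [st, stF_eq, h.act c hc _ h.ha, h.act c hc _ h.hb, h.act c hc _ h'.ha, h.act c hc _ h'.hb,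
      h.act c hc _ ht, h.hab, ω_swap h.ha h.hb, ω_self h.ha, ω_self h.hb, Bool.and_false, Bool.xor_false]
  have e2 : ∀ c ∈ S.R, st (g' * c * g'⁻¹) =
      stG (S.ω a a') (S.ω a b') (S.ω b a') (S.ω b b') (S.ω a' t) (S.ω b' t) (st c) := fun c hc => by
    simp only [st, stG_eq, h'.act c hc _ h.ha, h'.act c hc _ h.hb, h'.act c hc _ h'.ha, h'.act c hc _ h'.hb,
      h'.act c hc _ ht, h'.hab, ω_swap h'.ha h'.hb, ω_self h'.ha, ω_self h'.hb, Bool.and_false,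
      Bool.xor_false, ω_swap h.ha h'.ha, ω_swap h.ha h'.hb, ω_swap h.hb h'.ha, ω_swap h.hb h'.hb]
  have e3 : ∀ k : ℕ, st ((g * g') ^ k * c * ((g * g') ^ k)⁻¹) =
      (stF (S.ω a a') (S.ω a b') (S.ω b a') (S.ω b b') (S.ω a t) (S.ω b t) ∘
        stG (S.ω a a') (S.ω a b') (S.ω b a') (S.ω b b') (S.ω a' t) (S.ω b' t))^[k] (st c) := fun k => by
    induction k with
    | zero => simp
    | succ k ih =>
      have hm := conj_mem (pow_mem (mul_mem h.hg h'.hg) k) hc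
      rw [Function.iterate_succ_apply', ← ih, Function.comp_apply, ← e2 _ hm, ← e1 _ (conj_mem h'.hg hm),
        pow_succ']
      simp only [mul_inv_rev, mul_assoc]
  exact (congrArg (·.2.2.2.2) (e3 12)).trans (st_twelve ..)

variable (h2 : ∀ c : Kˣ, c ^ 2 = 1)
include h2

theorem ω_mul {a b t : Γ} (ha : a ∈ S.R) (hb : b ∈ S.R) (ht : t ∈ S.R) :
    S.ω (a * b) t = (S.ω a t ^^ S.ω b t) := by
  unfold ω
  rw [β_mul_left ha hb ht]
  by_cases e : (-1 : Kˣ) = 1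
  · have : ∀ c : Kˣ, c = 1 := fun c => (units_sq_one c (h2 c)).elim id fun h => h.trans e
    simp [this (S.β a t), this (S.β b t)]
  rcases units_sq_one _ (h2 (S.β a t)) with e1 | e1 <;> rcases units_sq_one _ (h2 (S.β b t)) with e2 | e2 <;>
    simp [e1, e2, e]

theorem range_of_ω {c c' : Γ} (hc : c ∈ S.R) (hc' : c' ∈ S.R) (h : ∀ t ∈ S.R, S.ω c' t = S.ω c t) :
    c⁻¹ * c' ∈ S.s.range := by
  have hm := mul_mem (inv_mem hc) hc'
  obtain ⟨u, hu⟩ := S.nondeg _ hm fun t ht => (β_eq_one_iff hm ht).1 (ω_false.1 (by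
    have := ω_mul h2 hc hm ht
    rw [mul_inv_cancel_left, h t ht] at this
    revert this
    cases S.ω c t <;> simp))
  exact ⟨u, hu.symm⟩

theorem Con.tv {g a b : Γ} (h : S.Con ⊥ g a b) (hg : g ∈ normalizer (S.R : Set Γ)) : S.Tv g a b := by
  have ha : a ∈ S.R := h.ha.1
  have hb : b ∈ S.R := h.hb.1
  refine ⟨hg, ha, hb, ω_false.2 h.hab, fun c hc t ht => ?_⟩
  obtain ⟨u, hu⟩ := D_bot (S := S) ▸ h.con c (C_bot (S := S) ▸ hc)
  rw [eq_inv_mul_iff_mul_eq.1 hu |>.symm, ω_mul h2 (τ_mem ha hb hc) (S.sR u) ht,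
    ω_false.2 (β_s_left ht u), Bool.xor_false]
  unfold τ
  have w : ∀ {x}, S.β c x ≠ 1 → S.ω c x = true := fun e => by simp [ω, e]
  by_cases e1 : S.β c b = 1 <;> by_cases e2 : S.β c a = 1
  · simp [e1, e2, ω_false.2 e1, ω_false.2 e2]
  · simp [e1, e2, ω_false.2 e1, w e2, ω_mul h2 hc hb ht]
  · simp [e1, e2, w e1, ω_false.2 e2, ω_mul h2 hc ha ht]
  · simp [e1, e2, w e1, w e2, ω_mul h2 (mul_mem hc ha) hb ht, ω_mul h2 hc ha ht]

end Sy

end Cfsg.Lib.SL
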