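import Cfsg.Agent.Lib.SL.Base

/-!
Bases for completely reducible and for coprime irreducible modules.
-/

set_option autoImplicit false
set_option linter.style.haveILetI false

namespace Cfsg.Lib.SL

open Subgroup MulAction

universe v

theorem BaseEx.irr {ι : Type} {P Q : ℕ → Prop} (hP : ∀ a b, a ∣ b → P b → P a)
    (h : ∀ m, BaseEx.{v} ι P Q m) {A : Type*} {V : Type v} [Group A] [Finite A] [Group.IsSolvable A]
    [AddCommGroup V] [Finite V] [DistribMulAction A V] (hA : P (Nat.card A)) (hV : Q (Nat.card V))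
    (irr : Irr A V) : ∃ t : ι → V, IsBase A t := by
  haveI : Group.IsSolvable (emb A V).range :=
    Group.isSolvable_of_surjective (emb A V).rangeRestrict_surjective
  exact (h _ (emb A V).range V le_rfl (hP _ _ (card_range_dvd _) hA) hV
    fun W h => irr W fun a => h ((emb A V).rangeRestrict a)).imp
    fun t ht a => ht ((emb A V).rangeRestrict a)

theorem base_cr {ι A : Type*} {V : Type v} [Group A] [AddCommGroup V] [Finite V] [DistribMulAction A V]
    (hirr : ∀ (W : Type v) [AddCommGroup W] [Finite W] [DistribMulAction A W], Irr A W →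
      ∃ t : ι → W, IsBase A t)
    (hcr : ∀ U : AddSubgroup V, (∀ a : A, ∀ v ∈ U, a • v ∈ U) →
      ∃ W : AddSubgroup V, (∀ a : A, ∀ w ∈ W, a • w ∈ W) ∧ U ⊓ W = ⊥ ∧ U ⊔ W = ⊤) :
    ∃ t : ι → V, IsBase A t := by
  suffices h : ∀ M : AddSubgroup V, (∀ a : A, ∀ v ∈ M, a • v ∈ M) → ∃ t : ι → V, (∀ i, t i ∈ M) ∧
      ∀ a : A, (∀ i, a • t i = t i) → ∀ v ∈ M, a • v = v by
    obtain ⟨t, -, ht⟩ := h ⊤ fun _ _ _ => trivial
    exact ⟨t, fun a e v => ht a e v trivial⟩
  intro M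
  induction M using WellFoundedLT.induction with
  | ind M ih =>
  intro hM
  by_cases h : ∃ U : AddSubgroup V, (∀ a : A, ∀ v ∈ U, a • v ∈ U) ∧ U ≠ ⊥ ∧ U < M
  · obtain ⟨U, hU, h0, h1⟩ := h
    obtain ⟨W, hW, h2, h3⟩ := hcr U hU
    have h4 : U ⊔ W ⊓ M = M := by rw [← sup_inf_assoc_of_le _ h1.le, h3, top_inf_eq]
    obtain ⟨s, hs, hs'⟩ := ih U h1 hU
    obtain ⟨t, ht, ht'⟩ := ih (W ⊓ M) (lt_of_le_of_ne inf_le_right fun e => h0 (by
      rw [← h2, eq_comm, inf_eq_left]; exact h1.le.trans (e.ge.trans inf_le_left)))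
      fun a v hv => ⟨hW a v hv.1, hM a v hv.2⟩
    refine ⟨s + t, fun i => add_mem (h1.le (hs i)) (ht i).2, fun a e v hv => ?_⟩
    have h5 : ∀ i, a • s i = s i := fun i => sub_eq_zero.1 (AddSubgroup.mem_bot.1 (h2 ▸
      AddSubgroup.mem_inf.2 ⟨sub_mem (hU a _ (hs i)) (hs i), by
        have := e i
        rw [Pi.add_apply, smul_add, ← sub_eq_iff_eq_add', add_sub_right_comm, ← eq_sub_iff_add_eq] at this
        exact this ▸ W.sub_mem (ht i).1 (hW a _ (ht i).1)⟩))
    obtain ⟨u, hu, w, hw, rfl⟩ := AddSubgroup.mem_sup.1 (h4.ge hv)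
    rw [smul_add, hs' a h5 u hu, ht' a (fun i => by simpa [h5 i] using e i) w hw]
  · letI := invAct A M hM
    obtain ⟨t, ht⟩ := hirr M fun U hU => by
      by_contra! hc
      refine h ⟨U.map M.subtype, ?_, ?_, lt_of_le_of_ne (AddSubgroup.map_subtype_le _) fun e => hc.2 ?_⟩
      · rintro a _ ⟨w, hw, rfl⟩
        exact ⟨_, hU a w hw, rfl⟩
      · rw [Ne, AddSubgroup.map_eq_bot_iff_of_injective _ Subtype.val_injective]; exact hc.1
      · refine eq_top_iff.2 fun v _ => ?_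
        obtain ⟨w, hw, e⟩ := e.ge v.2
        exact (Subtype.ext e : w = v) ▸ hw
    exact ⟨fun i => t i, fun i => (t i).2, fun a e v hv =>
      congrArg Subtype.val (ht a (fun i => Subtype.ext (e i)) ⟨v, hv⟩)⟩

variable {A : Type*} {V : Type v} [Group A] [Finite A] [Group.IsSolvable A] [AddCommGroup V] [Finite V]
  [DistribMulAction A V]

theorem base_three (irr : Irr A V) : ∃ t : Fin 3 → V, IsBase A t :=
  BaseEx.irr (fun _ _ _ h => h) baseEx_three trivial trivial irr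

theorem base_odd (hA : ¬ 2 ∣ Nat.card A) (irr : Irr A V) : ∃ t : Fin 2 → V, IsBase A t :=
  BaseEx.irr (fun _ _ e h e' => h (e'.trans e)) baseEx_odd hA trivial irr

theorem base_coprime (hc : (Nat.card A).Coprime (Nat.card V)) (irr : Irr A V) :
    ∃ t : Fin 2 → V, IsBase A t := by
  rcases subsingleton_or_nontrivial V with hs | hs
  · exact ⟨0, fun _ _ _ => Subsingleton.elim _ _⟩
  obtain ⟨p, hp, hd⟩ := Nat.exists_prime_and_dvd (Finite.one_lt_card (α := V)).ne'
  haveI := Fact.mk hp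
  have hA : ¬ p ∣ Nat.card A := hp.coprime_iff_not_dvd.1 (hc.coprime_dvd_right hd).symm
  by_cases h2 : p = 2
  · exact base_odd (h2 ▸ hA) irr
  by_cases h3 : p = 3
  · exact BaseEx.irr (fun _ _ e h e' => h (e'.trans e)) baseEx_not_three (h3 ▸ hA) trivial irr
  refine BaseEx.irr (fun _ _ e h e' => h (e'.trans e)) (baseEx_prime hp (hp.five_le_of_ne_two_of_ne_three h2 h3))
    hA ?_ irr
  exact (IsPGroup.iff_card (G := Multiplicative V)).1 fun v => ⟨1, by
    rw [pow_one]; exact irr.nsmul hp hd v.toAdd⟩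

end Cfsg.Lib.SL
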