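import Cfsg.Agent.Lib.SL.Eng

/-!
Construction of the small models.
-/

set_option autoImplicit false
set_option linter.style.haveILetI false

namespace Cfsg.Lib.SL

open Subgroup T8

theorem code_eq_iff {p : ℕ} (hp : p = 3 ∨ p = 5) (δ : Bool) (u v : T8) : code p δ u = code p δ v ↔
    (u.a0 % p = v.a0 % p ∧ (δ = true → u.a1 % p = v.a1 % p)) ∧
    (u.a2 % p = v.a2 % p ∧ (δ = true → u.a3 % p = v.a3 % p)) ∧
    (u.a4 % p = v.a4 % p ∧ (δ = true → u.a5 % p = v.a5 % p)) ∧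
    (u.a6 % p = v.a6 % p ∧ (δ = true → u.a7 % p = v.a7 % p)) := by
  have key : ∀ a b s t : ℕ, a % p + p * s = b % p + p * t ↔ a % p = b % p ∧ s = t := fun a b s t => by
    rcases hp with rfl | rfl <;> omega
  cases δ <;> simp [code, key, and_assoc]

theorem exists_word (b0 b1 b2 b3 b4 b5 : Bool) (n : ℕ) : ∃ m : ℕ, m / 64 = n ∧ m.testBit 0 = b0 ∧
    m.testBit 1 = b1 ∧ m.testBit 2 = b2 ∧ m.testBit 3 = b3 ∧ m.testBit 4 = b4 ∧ m.testBit 5 = b5 := by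
  refine ⟨64 * n + (b0.toNat + 2 * b1.toNat + 4 * b2.toNat + 8 * b3.toNat + 16 * b4.toNat + 32 * b5.toNat), ?_⟩
  simp only [Nat.testBit_eq_decide_div_mod_eq]
  cases b0 <;> cases b1 <;> cases b2 <;> cases b3 <;> cases b4 <;> cases b5 <;> simp <;> omega

namespace Sy

variable {K V Γ : Type*} [Field K] [AddCommGroup V] [Module K V] [Group Γ] [DistribMulAction Γ V]

/-- the bottom of a small model -/
structure Bs (S : Sy K V Γ) (A : Subgroup Γ) (p : ℕ) (δ : Bool) (v v' : V) (i j : Γ) : Prop where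
  le : A ≤ S.R
  v0 : v ≠ 0
  hv : Fx A v
  hv' : Fx A v'
  hi : i ∈ S.C A
  hj : j ∈ S.C A
  ij : S.β i j ≠ 1 ∨ (i = 1 ∧ j = 1)
  indep : ∀ a b a' b' : ℕ, (a : K) • v + (b : K) • v' = (a' : K) • v + (b' : K) • v' ↔
    a % p = a' % p ∧ (δ = true → b % p = b' % p)
  hI : δ = true → i • v = v' ∧ i • v' = -v
  hJ : δ = true → j • v = v + v' ∧ j • v' = v - v'
  cov : ∀ c ∈ S.C A, ∃ e e' : Bool, (δ = true ∨ (e = false ∧ e' = false)) ∧
    (cond e i 1 * cond e' j 1)⁻¹ * c ∈ S.D A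

/-- two hyperbolic pairs -/
structure Fr (S : Sy K V Γ) (A : Subgroup Γ) (i j y₁ y₂ d₁ d₂ : Γ) : Prop where
  h1 : y₁ ∈ S.R
  h2 : y₂ ∈ S.R
  k1 : d₁ ∈ A
  k2 : d₂ ∈ A
  q1 : y₁ * y₁ = 1
  q2 : y₂ * y₂ = 1
  yy : S.β y₂ y₁ = 1
  i1 : S.β i y₁ = 1
  i2 : S.β i y₂ = 1
  j1 : S.β j y₁ = 1
  j2 : S.β j y₂ = 1
  b11 : S.β d₁ y₁ = -1
  b12 : S.β d₁ y₂ = 1
  b21 : S.β d₂ y₁ = 1
  b22 : S.β d₂ y₂ = -1

variable {S : Sy K V Γ} {A : Subgroup Γ}

section sq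

variable (hsq : ∀ r ∈ S.R, ∃ c, r * r = S.s (c ^ 2) ∨ r * r = S.s (-c ^ 2))
include hsq

theorem β_pm {a b : Γ} (ha : a ∈ S.R) (hb : b ∈ S.R) (h : S.β a b ≠ 1) : S.β a b = -1 := by
  refine (units_sq_one _ ?_).resolve_left h
  obtain ⟨c, e | e⟩ := hsq a ha <;> rw [← β_pow_left ha hb, sq, e, β_s_left hb]

theorem exists_comm {a b c : Γ} (ha : a ∈ S.R) (hb : b ∈ S.R) (hc : c ∈ S.R)
    (h : S.β a b ≠ 1 ∨ (a = 1 ∧ b = 1)) : ∃ c' ∈ S.R, S.β a c' = 1 ∧ S.β b c' = 1 ∧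
      ∀ t ∈ S.R, S.β t a = 1 → S.β t b = 1 → S.β t c' = S.β t c := by
  rcases h with h | ⟨rfl, rfl⟩
  swap
  · exact ⟨c, hc, β_one_left hc, β_one_left hc, fun _ _ _ _ => rfl⟩
  have h1 := β_pm hsq ha hb h
  have h2 : S.β b a = -1 := by rw [β_swap ha hb, h1]; simp
  by_cases e1 : S.β a c = 1 <;> by_cases e2 : S.β b c = 1
  · exact ⟨c, hc, e1, e2, fun _ _ _ _ => rfl⟩
  · refine ⟨c * a, mul_mem hc ha, ?_, ?_, fun t ht e e' => ?_⟩
    · rw [β_mul_right ha hc ha, e1, β_self ha, one_mul]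
    · rw [β_mul_right hb hc ha, β_pm hsq hb hc e2, h2]; simp
    · rw [β_mul_right ht hc ha, e, mul_one]
  · refine ⟨c * b, mul_mem hc hb, ?_, ?_, fun t ht e e' => ?_⟩
    · rw [β_mul_right ha hc hb, β_pm hsq ha hc e1, h1]; simp
    · rw [β_mul_right hb hc hb, e2, β_self hb, one_mul]
    · rw [β_mul_right ht hc hb, e', mul_one]
  · have hca := mul_mem hc ha
    refine ⟨c * a * b, mul_mem hca hb, ?_, ?_, fun t ht e e' => ?_⟩
    · rw [β_mul_right ha hca hb, β_mul_right ha hc ha, β_pm hsq ha hc e1, h1, β_self ha]; simp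
    · rw [β_mul_right hb hca hb, β_mul_right hb hc ha, β_pm hsq hb hc e2, h2, β_self hb]; simp
    · rw [β_mul_right ht hca hb, β_mul_right ht hc ha, e, e', mul_one, mul_one]

theorem exists_invol {y d : Γ} (hy : y ∈ S.R) (hd : d ∈ S.R) (dd : d * d = 1) (h : S.β d y = -1) :
    ∃ y' ∈ S.R, y' * y' = 1 ∧ ∀ t ∈ S.R, S.β t d = 1 → S.β t y' = S.β t y := by
  have key : ∀ {r : Γ} {c : Kˣ}, r ∈ S.R → r * r = S.s (c ^ 2) → S.s c⁻¹ * r * (S.s c⁻¹ * r) = 1 :=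
    fun {r c} hr e => by
      rw [← sq, Commute.mul_pow (S.s_comm hr _).symm, sq r, e, ← map_pow, ← map_mul]; simp
  obtain ⟨c, e | e⟩ := hsq y hy
  · exact ⟨_, mul_mem (S.sR _) hy, key hy e, fun t ht _ => by
      rw [β_mul_right ht (S.sR _) hy, β_s_right ht, one_mul]⟩
  · have hyd := mul_mem hy hd
    refine ⟨_, mul_mem (S.sR _) hyd, key (c := c) hyd ?_, fun t ht e' => by
      rw [β_mul_right ht (S.sR _) hyd, β_s_right ht, one_mul, β_mul_right ht hy hd, e', mul_one]⟩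
    rw [← sq, mul_pow_eq hy hd, h, sq, sq, e, dd, mul_one, ← map_mul]
    simp

theorem Bs.exists_Fr {p : ℕ} {δ : Bool} {v v' : V} {i j : Γ} (b : S.Bs A p δ v v' i j) {y₁ y₂ d₁ d₂ : Γ}
    (h1 : y₁ ∈ S.R) (h2 : y₂ ∈ S.R) (k1 : d₁ ∈ A) (k2 : d₂ ∈ A) (b11 : S.β d₁ y₁ ≠ 1)
    (b12 : S.β d₁ y₂ = 1) (b22 : S.β d₂ y₂ ≠ 1) : ∃ y₁ y₂, S.Fr A i j y₁ y₂ d₁ d₂ := by
  have hi := b.hi.1
  have hj := b.hj.1
  have r1 := b.le k1
  have r2 := b.le k2
  have cA : ∀ {c a}, c ∈ S.C A → a ∈ A → S.β a c = 1 := fun hc ha => ((mem_C b.le).1 hc).2 _ ha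
  have cA' : ∀ {c a}, c ∈ S.C A → a ∈ A → S.β c a = 1 := fun hc ha => β_D b.le hc (le_D A ha)
  have ab := b.hv.le_C b.le b.v0
  have dd : ∀ d ∈ A, d * d = 1 := fun d hd => by
    have := b.hv _ (mul_mem hd hd)
    obtain ⟨c, e | e⟩ := hsq d (b.le hd) <;> rw [e] at this ⊢ <;> rw [S.s_eq_one b.v0 this, map_one]
  obtain ⟨y₂, h2, i2, j2, e2⟩ := exists_comm hsq hi hj h2 b.ij
  rw [← e2 _ r1 (cA b.hi k1) (cA b.hj k1)] at b12
  rw [← e2 _ r2 (cA b.hi k2) (cA b.hj k2)] at b22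
  obtain ⟨y₁, h1, i1, j1, e1⟩ := exists_comm hsq hi hj h1 b.ij
  rw [← e1 _ r1 (cA b.hi k1) (cA b.hj k1)] at b11
  obtain ⟨y₁, h1', b21, yy, e1⟩ := exists_comm hsq r2 h2 h1 (Or.inl b22)
  rw [← e1 _ r1 (cA (ab k2) k1) b12] at b11
  rw [← e1 _ hi (cA' b.hi k2) i2] at i1
  rw [← e1 _ hj (cA' b.hj k2) j2] at j1
  replace b11 := β_pm hsq r1 h1' b11
  replace b22 := β_pm hsq r2 h2 b22
  obtain ⟨y₂, h2', q2, e2⟩ := exists_invol hsq h2 r2 (dd _ k2) b22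
  have sw : ∀ {a c}, a ∈ S.R → c ∈ S.R → S.β a c = 1 → S.β c a = 1 := fun ha hc e => by
    rw [β_swap ha hc, e, inv_one]
  rw [← e2 _ r1 (cA (ab k2) k1)] at b12
  rw [← e2 _ r2 (β_self r2)] at b22
  rw [← e2 _ hi (cA' b.hi k2)] at i2
  rw [← e2 _ hj (cA' b.hj k2)] at j2
  replace yy := sw h1' h2' ((e2 _ h1' (sw r2 h1' b21)).trans (sw h2 h1' yy))
  obtain ⟨y₁, h1, q1, e1⟩ := exists_invol hsq h1' r1 (dd _ k1) b11
  exact ⟨y₁, y₂, h1, h2', k1, k2, q1, q2, (e1 _ h2' (sw r1 h2' b12)).trans yy,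
    (e1 _ hi (cA' b.hi k1)).trans i1, i2, (e1 _ hj (cA' b.hj k1)).trans j1, j2,
    (e1 _ r1 (β_self r1)).trans b11, b12, (e1 _ r2 (cA (ab k1) k2)).trans b21, b22⟩

end sq

theorem four_eq (two : (2 : K) ≠ 0) {a b c d a' b' c' d' : V} (e : a + b + c + d = a' + b' + c' + d')
    (e1 : a + -b + c + -d = a' + -b' + c' + -d') (e2 : a + b + -c + -d = a' + b' + -c' + -d')
    (e3 : a + -b + -c + d = a' + -b' + -c' + d') : a = a' ∧ b = b' ∧ c = c' ∧ d = d' := by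
  have h4 : ∀ {a c : V}, (2 : K) • (2 : K) • a = (2 : K) • (2 : K) • c → a = c := fun h =>
    smul_right_injective V two (smul_right_injective V two h)
  exact ⟨h4 (by linear_combination (norm := module) e + e1 + e2 + e3),
    h4 (by linear_combination (norm := module) e - e1 + e2 - e3),
    h4 (by linear_combination (norm := module) e + e1 - e2 - e3),
    h4 (by linear_combination (norm := module) e - e1 - e2 + e3)⟩

open Classical in
/-- a natural number as a unit -/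
noncomputable def sc (K : Type*) [Field K] (n : ℕ) : Kˣ := if h : (n : K) = 0 then 1 else Units.mk0 _ h

theorem sc_val {n : ℕ} (h : (n : K) ≠ 0) : (sc K n : K) = n := by simp [sc, h]

theorem Bs.mod [Finite K] {D : Dat} {v v' : V} {i j y₁ y₂ d₁ d₂ : Γ} (b : S.Bs A D.p D.δ v v' i j)
    (f : S.Fr A i j y₁ y₂ d₁ d₂) (hp : D.p = 3 ∨ D.p = 5) (hK : Nat.card K = D.p) :
    Nonempty (S.Mod (sub (sub A y₂) y₁) D) := by
  have hpp : D.p.Prime := by rcases hp with e | e <;> rw [e] <;> norm_num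
  obtain ⟨p0, hnat⟩ := exists_nat_of_prime hpp hK
  have hm1 : ((D.p - 1 : ℕ) : K) = -1 := by rw [Nat.cast_sub hpp.one_le, p0]; simp
  have two : (2 : K) ≠ 0 := fun e => by
    rcases hp with h | h <;> rw [h] at p0 <;> push_cast at p0
    · exact one_ne_zero (α := K) (by linear_combination p0 - e)
    · exact one_ne_zero (α := K) (by linear_combination p0 - 2 * e)
  have ne : (-1 : Kˣ) ≠ 1 := fun e => two (by
    have := congrArg Units.val e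
    simp only [Units.val_neg, Units.val_one] at this
    linear_combination -this)
  have r1 := b.le f.k1
  have r2 := b.le f.k2
  have ab := b.hv.le_C b.le b.v0
  have t2 : S.St A y₂ d₂ 2 1 :=
    ⟨b.le, ab, f.h2, Nat.prime_two, by rw [sq, f.q2, map_one], f.k2, by rw [f.b22]; exact ne⟩
  have t1 : S.St (sub A y₂) y₁ d₁ 2 1 :=
    ⟨t2.sub_le_R, (sub_le _ _).trans (ab.trans (C_mono (sub_le _ _))), f.h1, Nat.prime_two,
      by rw [sq, f.q1, map_one], t2.mem_sub.2 ⟨f.k1, f.b12⟩, by rw [f.b11]; exact ne⟩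
  have s1 := sub_le (sub A y₂) y₁
  have s2 := sub_le A y₂
  let ψ : ℕ → ℕ → V := fun a b => (a : K) • v + (b : K) • v'
  have hψ : ∀ a a', Fx A (ψ a a') := fun a a' => (b.hv.smul b.le _).add (b.hv'.smul b.le _)
  let φ : T8 → V := fun u => ψ u.a0 u.a1 + y₁ • ψ u.a2 u.a3 + y₂ • ψ u.a4 u.a5 + y₁ • y₂ • ψ u.a6 u.a7
  have c1 : y₁ ∈ S.C (sub (sub A y₂) y₁) := t1.y_mem
  have c2 : y₂ ∈ S.C (sub (sub A y₂) y₁) := C_mono s1 t2.y_mem
  have cC : S.C A ≤ S.C (sub (sub A y₂) y₁) := C_mono (s1.trans s2)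
  have cm : ∀ {a c : Γ}, a ∈ S.R → c ∈ S.R → S.β a c = 1 → ∀ u : V, a • c • u = c • a • u :=
    fun ha hc e u => by rw [smul_smul_β ha hc, e, Units.val_one, one_smul]
  have am : ∀ {a c : Γ}, a ∈ S.R → c ∈ S.R → S.β a c = -1 → ∀ u : V, a • c • u = -(c • a • u) :=
    fun ha hc e u => by rw [smul_smul_β ha hc, e]; simp
  have y11 : ∀ u : V, y₁ • y₁ • u = u := fun u => by rw [← mul_smul, f.q1, one_smul]
  have y22 : ∀ u : V, y₂ • y₂ • u = u := fun u => by rw [← mul_smul, f.q2, one_smul]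
  have ψn : ∀ a a', ψ ((D.p - 1) * a) ((D.p - 1) * a') = -ψ a a' := fun a a' => by
    simp only [ψ, Nat.cast_mul, hm1]; module
  have aX1 : ∀ u, y₁ • φ u = φ (X1 u) := fun u => by
    simp only [φ, X1, smul_add, y11]; abel
  have aX2 : ∀ u, y₂ • φ u = φ (X2 u) := fun u => by
    simp only [φ, X2, smul_add, cm f.h2 f.h1 f.yy, y22]; abel
  have aZ1 : ∀ u, d₁ • φ u = φ (Z1 (D.p - 1) u) := fun u => by
    simp only [φ, Z1, smul_add, am r1 f.h1 f.b11, cm r1 f.h2 f.b12, hψ _ _ _ f.k1, ψn, smul_neg]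
  have aZ2 : ∀ u, d₂ • φ u = φ (Z2 (D.p - 1) u) := fun u => by
    simp only [φ, Z2, smul_add, am r2 f.h2 f.b22, cm r2 f.h1 f.b21, hψ _ _ _ f.k2, ψn, smul_neg]
  have aI : D.δ = true → ∀ u, i • φ u = φ (I (D.p - 1) u) := fun h u => by
    have : ∀ a a', i • ψ a a' = ψ ((D.p - 1) * a') a := fun a a' => by
      simp only [ψ, smul_add, S.lin i b.hi.1, b.hI h, Nat.cast_mul, hm1]; module
    simp only [φ, I, smul_add, cm b.hi.1 f.h1 f.i1, cm b.hi.1 f.h2 f.i2, this]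
  have aJ : D.δ = true → ∀ u, j • φ u = φ (J (D.p - 1) u) := fun h u => by
    have : ∀ a a', j • ψ a a' = ψ (a + a') (a + (D.p - 1) * a') := fun a a' => by
      simp only [ψ, smul_add, S.lin j b.hj.1, b.hJ h, Nat.cast_mul, Nat.cast_add, hm1]; module
    simp only [φ, J, smul_add, cm b.hj.1 f.h1 f.j1, cm b.hj.1 f.h2 f.j2, this]
  have hsm : ∀ (c : ℕ) u, φ (T8.smul c u) = (c : K) • φ u := fun c u => by
    have : ∀ a a', ψ (c * a) (c * a') = (c : K) • ψ a a' := fun a a' => by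
      simp only [ψ, Nat.cast_mul, smul_add, mul_smul]
    simp only [φ, T8.smul, this, smul_add, S.lin _ f.h1, S.lin _ f.h2]
  have hop : ∀ {e : Bool} {g : Γ} {F : T8 → T8}, (e = true → ∀ u, g • φ u = φ (F u)) →
      ∀ u, cond e g 1 • φ u = φ (opt e F u) := fun {e g F} h u => by
    cases e
    exacts [one_smul _ _, h rfl u]
  have hcd : ∀ {B : Subgroup Γ} (e : Bool) {g : Γ}, g ∈ B → cond e g 1 ∈ B := fun e g h => by
    cases e
    exacts [one_mem _, h]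
  have pw : ∀ k < 2, ∃ e : Bool, ∀ g : Γ, g ^ k = cond e g 1 := fun k hk => by
    interval_cases k
    exacts [⟨false, pow_zero⟩, ⟨true, pow_one⟩]
  refine ⟨⟨φ, fun m => cond (m.testBit 0) y₁ 1 * (cond (m.testBit 1) y₂ 1 * (cond (m.testBit 2) i 1 *
    (cond (m.testBit 3) j 1 * (S.s (sc K (m / 64 + 1)) * (cond (m.testBit 4) d₂ 1 *
      cond (m.testBit 5) d₁ 1))))), fun u u' => ?_, hsm, fun u u' => ?_, fun u => ?_, fun m _ => ?_,
      fun m hm hw u => ?_, fun c hc => ?_, by simp [sc]⟩⟩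
  · have : ∀ a a' c c', ψ (a + c) (a' + c') = ψ a a' + ψ c c' := fun a a' c c' => by
      simp only [ψ, Nat.cast_add]; module
    simp only [φ, T8.add, this, smul_add]; abel
  · rw [Dat.c, Dat.c, code_eq_iff hp]
    simp only [← b.indep]
    refine ⟨fun e => ?_, fun e => by simp only [φ, ψ, e]⟩
    have e1 := congrArg (d₁ • ·) e
    have e2 := congrArg (d₂ • ·) e
    have e3 := congrArg (d₂ • ·) e1
    simp only [aZ1, aZ2] at e1 e2 e3
    simp only [φ, Z1, Z2, ψn, smul_neg, neg_neg] at e e1 e2 e3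
    obtain ⟨k0, k1, k2, k3⟩ := four_eq two e e1 e2 e3
    simp only [smul_left_cancel_iff] at k1 k2 k3
    exact ⟨k0, k1, k2, k3⟩
  · exact ((((hψ _ _).mono (s1.trans s2)).add (((hψ _ _).mono (s1.trans s2)).smul_C c1)).add
      (((hψ _ _).mono (s1.trans s2)).smul_C c2)).add ((((hψ _ _).mono (s1.trans s2)).smul_C c2).smul_C c1)
  · exact mul_mem (hcd _ c1) (mul_mem (hcd _ c2) (mul_mem (hcd _ (cC b.hi)) (mul_mem (hcd _ (cC b.hj))
      (mul_mem (s_mem_C t1.sub_le_R _) (mul_mem (hcd _ (cC (ab f.k2))) (hcd _ (cC (ab f.k1))))))))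
  · have h0 : ((m / 64 + 1 : ℕ) : K) ≠ 0 := fun e => by
      haveI := Fintype.ofFinite K
      haveI := Fact.mk hpp
      haveI := charP_of_card_eq_prime (Nat.card_eq_fintype_card (α := K) ▸ hK)
      have := Nat.le_of_dvd (by omega) ((CharP.cast_eq_zero_iff K D.p _).1 e)
      unfold Dat.N at hm
      omega
    simp only [mul_smul, M]
    rw [hop fun _ => aZ1, hop fun _ => aZ2, S.hs, sc_val h0, ← hsm,
      hop fun e => aJ (hw.resolve_right (by simp [e])), hop fun e => aI (hw.resolve_right (by simp [e])),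
      hop fun _ => aX2, hop fun _ => aX1]
  obtain ⟨k1, hk1, h1⟩ := t1.cov hc
  obtain ⟨k2, hk2, h2⟩ := t2.cov h1
  obtain ⟨e2, e3, he, h3⟩ := b.cov _ h2
  obtain ⟨t, a, ha, h4⟩ := (mem_D b.le).1 h3
  obtain ⟨k4, hk4, h5⟩ := t2.dec ha
  obtain ⟨k5, hk5, h6⟩ := t1.dec h5
  obtain ⟨e0, p0⟩ := pw k1 hk1
  obtain ⟨e1, p1⟩ := pw k2 hk2
  obtain ⟨e4, p4⟩ := pw k4 hk4
  obtain ⟨e5, p5⟩ := pw k5 hk5
  obtain ⟨n, hn, ht⟩ := hnat t
  have n0 : n ≠ 0 := by rintro rfl; simp at ht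
  obtain ⟨m, m6, m0, m1, m2, m3, m4, m5⟩ := exists_word e0 e1 e2 e3 e4 e5 (n - 1)
  have ht' : sc K (m / 64 + 1) = t := by
    rw [m6, Nat.sub_add_cancel (Nat.pos_of_ne_zero n0)]
    exact Units.ext (by rw [sc_val (ht ▸ t.ne_zero), ht])
  refine ⟨m, by unfold Dat.N; omega, by rwa [Wd, m2, m3], ?_⟩
  simp only [m0, m1, m2, m3, m4, m5, ht', ← p0, ← p1, ← p4, ← p5]
  convert h6 using 1
  rw [eq_inv_mul_iff_mul_eq.2 h4.symm]
  group

end Sy

end Cfsg.Lib.SL
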