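import Cfsg.Agent.Lib.SL.Wr
import Cfsg.Agent.Lib.SL.Grp

/-!
Colourings with trivial stabiliser for solvable permutation groups: reduction to affine groups.
-/

set_option autoImplicit false
set_option linter.style.haveILetI false

namespace Cfsg.Lib.SL

open Subgroup MulAction

universe u

/-- irreducible action -/
def Irr (A V : Type*) [Group A] [AddCommGroup V] [DistribMulAction A V] : Prop :=
  ∀ W : AddSubgroup V, (∀ a : A, ∀ v ∈ W, a • v ∈ W) → W = ⊥ ∨ W = ⊤

/-- only the kernel of the action preserves the colouring -/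
def RegCol (X : Type*) {I C : Type*} [Group X] [MulAction X I] (f : I → C) : Prop :=
  ∀ a : X, (∀ i, f (a • i) = f i) → ∀ i : I, a • i = i

/-- colourings -/
def Col (I C : Type*) := I → C

instance colAct (X I C : Type*) [Group X] [MulAction X I] : MulAction X (Col I C) := arrowAction

theorem col_smul {X I C : Type*} [Group X] [MulAction X I] (a : X) (f : Col I C) (i : I) :
    (a • f) i = f (a⁻¹ • i) := rfl

theorem exists_affine {X I : Type u} [Group X] [Finite X] [Group.IsSolvable X] [Finite I] [MulAction X I]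
    (prim : ∀ s : Setoid I, (∀ (a : X) i j, s i j → s (a • i) (a • j)) → (∀ i j, s i j → i = j) ∨ ∀ i j, s i j)
    (hne : ∃ (a : X) (i : I), a • i ≠ i) :
    ∃ (H V : Type u) (_ : Group H) (_ : Finite H) (_ : Group.IsSolvable H) (_ : AddCommGroup V)
      (_ : DistribMulAction H V) (e : V ≃ I), Nat.card H ∣ Nat.card X ∧ Nat.card V ∣ Nat.card X ∧ Irr H V ∧
      ∀ a : X, ∃ (t : V) (h : H), ∀ v, a • e v = e (t + h • v) := by
  let G := (toPermHom X I).range
  haveI : Group.IsSolvable G := Group.isSolvable_of_surjective (toPermHom X I).rangeRestrict_surjective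
  have hG : Nat.card G ∣ Nat.card X := card_range_dvd _
  obtain ⟨U, R, h⟩ := exists_UR (A := G)
  haveI := h.nU
  have hU : ∀ u ∈ U, ∀ u' ∈ U, u * u' = u' * u := fun u hu u' hu' => h.cU u hu u' (h.le hu')
  obtain ⟨a₀, i₀, h₀⟩ := hne
  have faith : ∀ g : G, (∀ i : I, g • i = i) → g = 1 := fun g e => Subtype.ext (Equiv.ext e)
  have tr : ∀ M : Subgroup G, M.Normal → (∀ m ∈ M, m = 1) ∨ ∀ i : I, ∃ m ∈ M, m • i₀ = i := fun M nM => by
    refine (prim (orbitRel M I) ?_).imp (fun e m hm => faith m fun i => e _ _ ⟨⟨m, hm⟩, rfl⟩) fun e i => ?_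
    · rintro a _ j ⟨m, rfl⟩
      let g : G := (toPermHom X I).rangeRestrict a
      refine ⟨⟨g * m * g⁻¹, nM.conj_mem _ m.2 g⟩, ?_⟩
      change (g * m * g⁻¹) • g • j = g • (m : G) • j
      rw [mul_smul, mul_smul, inv_smul_smul]
    · obtain ⟨m, hm⟩ := e i i₀
      exact ⟨m, m.2, hm⟩
  have trU := (tr U h.nU).resolve_left fun e =>
    h₀ (DFunLike.congr_fun (congrArg Subtype.val (h.triv e ((toPermHom X I).rangeRestrict a₀))) i₀)
  have inj : ∀ u ∈ U, ∀ u' ∈ U, u • i₀ = u' • i₀ → u = u' := fun u hu u' hu' e =>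
    (inv_mul_eq_one.1 (faith _ fun i => by
      obtain ⟨m, hm, rfl⟩ := trU i
      rw [← mul_smul, hU _ (mul_mem (inv_mem hu) hu') m hm, mul_smul, mul_smul, ← e, inv_smul_smul]))
  letI : CommGroup U := { (inferInstance : Group U) with mul_comm := fun a b => Subtype.ext (hU _ a.2 _ b.2) }
  letI : DistribMulAction (stabilizer G i₀) (Additive U) :=
    { smul := fun g u => Additive.ofMul (MulAut.conjNormal (g : G) u.toMul)
      one_smul := fun u => by change Additive.ofMul (MulAut.conjNormal (1 : G) u.toMul) = _; simp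
      mul_smul := fun g g' u => by
        change Additive.ofMul (MulAut.conjNormal ((g : G) * g') u.toMul) = _; rw [map_mul]; rfl
      smul_zero := fun g => congrArg Additive.ofMul (map_one _)
      smul_add := fun g u u' => congrArg Additive.ofMul (map_mul _ _ _) }
  have dec : ∀ g : G, ∃ t : U, (t : G)⁻¹ * g ∈ stabilizer G i₀ := fun g => by
    obtain ⟨t, ht, e⟩ := trU (g • i₀)
    exact ⟨⟨t, ht⟩, by rw [mem_stabilizer_iff, mul_smul, ← e, inv_smul_smul]⟩
  refine ⟨stabilizer G i₀, Additive U, inferInstance, inferInstance, inferInstance, inferInstance,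
    inferInstance, Equiv.ofBijective (fun u => (u.toMul : G) • i₀) ⟨fun u u' e => Subtype.ext
      (inj _ u.toMul.2 _ u'.toMul.2 e), fun i => ?_⟩, (card_subgroup_dvd_card _).trans hG,
    (card_subgroup_dvd_card U).trans hG, fun W hW => ?_, fun a => ?_⟩
  · obtain ⟨m, hm, e⟩ := trU i
    exact ⟨Additive.ofMul ⟨m, hm⟩, e⟩
  · refine (tr (W.toSubgroup'.map U.subtype) ⟨?_⟩).imp (fun e => eq_bot_iff.2 fun w hw =>
      Subtype.ext (e _ ⟨w, hw, rfl⟩)) fun e => eq_top_iff.2 fun u _ => ?_
    · rintro _ ⟨w, hw, rfl⟩ g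
      obtain ⟨t, ht⟩ := dec g
      refine ⟨_, hW ⟨_, ht⟩ (Additive.ofMul w) hw, ?_⟩
      have := hU _ t.2 _ (h.nU.conj_mem _ w.2 g)
      change (t : G)⁻¹ * g * w * ((t : G)⁻¹ * g)⁻¹ = g * w * g⁻¹
      rw [← mul_right_inj (t : G), this]; group
    · obtain ⟨_, ⟨w, hw, rfl⟩, e⟩ := e ((u.toMul : G) • i₀)
      obtain rfl : w = u.toMul := Subtype.ext (inj _ w.2 _ u.toMul.2 e)
      exact hw
  · obtain ⟨t, ht⟩ := dec ((toPermHom X I).rangeRestrict a)
    refine ⟨Additive.ofMul t, ⟨_, ht⟩, fun v => ?_⟩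
    change (toPermHom X I).rangeRestrict a • (v.toMul : G) • i₀ = ((t : G) * ((t : G)⁻¹ *
      (toPermHom X I).rangeRestrict a * v.toMul * ((t : G)⁻¹ * (toPermHom X I).rangeRestrict a)⁻¹)) • i₀
    rw [mul_smul, mul_smul, inv_smul_eq_iff.2 ht.symm, mul_smul, mul_smul, smul_inv_smul]

/-- several inequivalent regular colourings from one -/
def ColMult (C : Type*) (P : ℕ → Prop) : Prop :=
  ∀ (X I : Type u) [Group X] [Finite X] [Group.IsSolvable X] [Finite I] [Nonempty I] [MulAction X I],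
    P (Nat.card X) → ∀ f : I → C, RegCol X f → ∃ g : C → I → C, (∀ c, RegCol X (g c)) ∧
      ∀ c c' (a : X), (∀ i, g c' (a • i) = g c i) → c = c'

/-- regular colourings for affine groups -/
def ColAff (C : Type*) (P : ℕ → Prop) (m : ℕ) : Prop :=
  ∀ (H V : Type u) [Group H] [Finite H] [Group.IsSolvable H] [AddCommGroup V] [Finite V]
    [DistribMulAction H V], Nat.card V ≤ m → P (Nat.card H) → P (Nat.card V) → Irr H V →
    ∃ f : V → C, ∀ (t : V) (h : H), (∀ v, f (t + h • v) = f v) → t = 0 ∧ ∀ v : V, h • v = v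

/-- existence of regular colourings -/
def ColEx (C : Type*) (P : ℕ → Prop) (m : ℕ) : Prop :=
  ∀ (X I : Type u) [Group X] [Finite X] [Group.IsSolvable X] [Finite I] [MulAction X I],
    Nat.card I ≤ m → P (Nat.card X) → ∃ f : I → C, RegCol X f

theorem colEx {C : Type*} [Nonempty C] {P : ℕ → Prop} (hP : ∀ a b, a ∣ b → P b → P a) {m : ℕ}
    (mult : ColMult.{u} C P) (aff : ColAff.{u} C P m) : ColEx.{u} C P m := by
  classical
  intro X I _ _ _ _ _ hm hX
  obtain ⟨c₀⟩ := ‹Nonempty C›
  induction hn : Nat.card I using Nat.strong_induction_on generalizing X I with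
  | _ n ih =>
  by_cases prim : ∀ s : Setoid I, (∀ (a : X) i j, s i j → s (a • i) (a • j)) →
    (∀ i j, s i j → i = j) ∨ ∀ i j, s i j
  · by_cases hne : ∃ (a : X) (i : I), a • i ≠ i
    swap
    · push Not at hne
      exact ⟨fun _ => c₀, fun a _ => hne a⟩
    obtain ⟨H, V, _, _, _, _, _, e, h1, h2, h3, h4⟩ := exists_affine prim hne
    haveI := Finite.of_equiv _ e.symm
    obtain ⟨f, hf⟩ := aff H V (Nat.card_congr e ▸ hm) (hP _ _ h1 hX) (hP _ _ h2 hX) h3
    refine ⟨f ∘ e.symm, fun a ha i => ?_⟩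
    obtain ⟨t, h, hth⟩ := h4 a
    obtain ⟨rfl, h5⟩ := hf t h fun v => by simpa [hth] using ha (e v)
    obtain ⟨v, rfl⟩ := e.surjective i
    rw [hth, h5, zero_add]
  push Not at prim
  obtain ⟨s, hs, ⟨i₁, i₂, h12, n12⟩, i₃, i₄, n34⟩ := prim
  letI : MulAction X (Quotient s) :=
    { smul := fun a => Quotient.map (a • ·) (hs a)
      one_smul := fun j => j.inductionOn fun i => congrArg (Quotient.mk s) (one_smul X i)
      mul_smul := fun a b j => j.inductionOn fun i => congrArg (Quotient.mk s) (mul_smul a b i) }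
  have mk : ∀ (a : X) i, Quotient.mk s (a • i) = a • Quotient.mk s i := fun _ _ => rfl
  have lt1 : Nat.card (Quotient s) < n := by
    haveI := Fintype.ofFinite I
    haveI := Fintype.ofFinite (Quotient s)
    rw [← hn, Nat.card_eq_fintype_card, Nat.card_eq_fintype_card]
    exact Fintype.card_lt_of_surjective_not_injective _ Quotient.mk_surjective
      fun e => n12 (e (Quotient.sound h12))
  obtain ⟨col, hcol⟩ := ih _ lt1 X (Quotient s) (by omega) hX rfl
  obtain ⟨σ, h1, h2⟩ := transport (X := X) (E := Quotient s × Col I C) Prod.fst (fun _ _ => rfl)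
    (fun e => (∀ i, Quotient.mk s i ≠ e.1 → e.2 i = c₀) ∧
      ∀ a : X, a • e = e → ∀ i, Quotient.mk s i = e.1 → a • i = i) (by
      rintro a ⟨j, F⟩ ⟨e1, e2⟩
      refine ⟨fun i hi => e1 _ fun e => hi ?_, fun b hb i hi => ?_⟩
      · rw [mk, inv_smul_eq_iff] at e; exact e
      · have := e2 (a⁻¹ * b * a) (by rw [mul_smul, mul_smul, hb, inv_smul_smul]) (a⁻¹ • i)
          (by rw [mk, hi]; exact inv_smul_smul a j)
        rwa [mul_smul, mul_smul, smul_inv_smul, smul_left_cancel_iff] at this) (fun j => by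
      let B : SubMulAction (stabilizer X j) I :=
        ⟨{i | Quotient.mk s i = j}, fun a i hi => (mk a i).trans (by rw [hi]; exact a.2)⟩
      have lt2 : Nat.card B < n := hn ▸ Finite.card_subtype_lt (p := (· ∈ B))
        (x := if i₃ ∈ B then i₄ else i₃) (by
          split_ifs with h
          exacts [fun e => n34 (Quotient.exact (h.trans e.symm)), h])
      have hP' := hP _ _ (card_subgroup_dvd_card (stabilizer X j)) hX
      obtain ⟨f, hf⟩ := ih _ lt2 (stabilizer X j) B (by omega) hP' rfl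
      haveI : Nonempty B := ⟨⟨j.out, j.out_eq⟩⟩
      obtain ⟨g, g1, g2⟩ := mult _ _ hP' f hf
      have key : ∀ c c' (a : X), a • ((j, fun i => if h : i ∈ B then g c ⟨i, h⟩ else c₀) :
          Quotient s × Col I C) = (j, fun i => if h : i ∈ B then g c' ⟨i, h⟩ else c₀) →
          ∃ a' : stabilizer X j, a' = a ∧ ∀ i, g c' (a' • i) = g c i := fun c c' a e => by
        refine ⟨⟨a, congrArg Prod.fst e⟩, rfl, fun i => ?_⟩
        have : (fun i => if h : i ∈ B then g c ⟨i, h⟩ else c₀) (a⁻¹ • a • (i : I)) =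
          if h : a • (i : I) ∈ B then g c' ⟨_, h⟩ else c₀ := congrFun (congrArg Prod.snd e) (a • i)
        simp only [inv_smul_smul, dif_pos i.2] at this
        rw [dif_pos (show a • (i : I) ∈ B from B.smul_mem ⟨a, congrArg Prod.fst e⟩ i.2)] at this
        exact this.symm
      refine ⟨fun c => (j, fun i => if h : i ∈ B then g c ⟨i, h⟩ else c₀), fun c => ⟨rfl,
        fun i hi => dif_neg hi, fun a e i hi => ?_⟩, fun c c' a e => ?_⟩
      · obtain ⟨a, rfl, ha⟩ := key c c a e
        exact congrArg Subtype.val (g1 c a ha ⟨i, hi⟩)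
      · obtain ⟨a, -, ha⟩ := key c c' a e
        exact g2 c c' a ha) col
  refine ⟨fun i => (σ (Quotient.mk s i)).2 i, fun a ha i => ?_⟩
  have h3 : ∀ j, a • σ j = σ (a • j) := fun j => Prod.ext (by rw [Prod.smul_fst, (h1 _).1, (h1 _).1])
    (funext fun i => by
      obtain ⟨i, rfl⟩ := MulAction.surjective a i
      rw [Prod.smul_snd, col_smul, inv_smul_smul]
      by_cases e : Quotient.mk s i = j
      · subst e; exact (ha i).symm
      · rw [(h1 j).2.1 i (by rwa [(h1 j).1]), (h1 _).2.1 _ (by rwa [(h1 _).1, mk, Ne, smul_left_cancel_iff])])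
  exact (h1 _).2.2 a (by rw [h3, hcol a fun j => h2 a j (h3 j)]) i (h1 _).1.symm

end Cfsg.Lib.SL
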