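import Cfsg.Agent.Lib.SL.Chain
import Cfsg.Agent.Lib.SL.Inner
import Cfsg.Agent.Lib.SL.Grp
import Cfsg.Agent.Lib.Inv.SylowTwo
import Cfsg.Agent.Lib.Core.PCore

/-!
Small bases for solvable semilinear groups whose maximal abelian normal subgroup consists of scalars.
-/

set_option autoImplicit false
set_option linter.style.haveILetI false

namespace Cfsg.Lib.SL

open Subgroup
open scoped commutatorElement

variable {A V K : Type*} [Group A] [AddCommGroup V] [DistribMulAction A V] [Field K] [Module K V]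

instance finiteEnd [Finite V] : Finite (Module.End ℤ V) := Finite.of_injective _ DFunLike.coe_injective

variable (A V) in
/-- the action as a homomorphism -/
noncomputable def emb : A →* (Module.End ℤ V)ˣ := (DistribMulAction.toModuleEnd ℤ V : A →* _).toHomUnits

theorem emb_smul (a : A) (v : V) : emb A V a • v = a • v := rfl

theorem units_faith (g : (Module.End ℤ V)ˣ) (h : ∀ v : V, g • v = v) : g = 1 :=
  Units.ext (LinearMap.ext h)

theorem emb_inj [FaithfulSMul A V] : Function.Injective (emb A V) := fun a b h =>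
  eq_of_smul_eq_smul fun v : V => by rw [← emb_smul, h, emb_smul]

variable (K V) in
/-- the setting of the primitive case -/
structure Pr (U R : Subgroup A) : Prop where
  ur : UR U R
  sc : ∀ u ∈ U, ∃ c : K, ∀ v : V, u • v = c • v
  lin : ∀ a : A, (∀ u ∈ U, u * a = a * u) → ∀ (c : K) (v : V), a • c • v = c • a • v
  semi : ∀ a : A, ∃ σ : K →+* K, ∀ (c : K) (v : V), a • c • v = σ c • a • v

namespace Pr

variable {U R : Subgroup A} (h : Pr V K U R) [Nontrivial V]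
include h

theorem sc' {u : A} (hu : u ∈ U) : ∃ c, emb A V u = emb Kˣ V c := by
  obtain ⟨c, hc⟩ := h.sc u hu
  obtain ⟨v, hv⟩ := exists_ne (0 : V)
  have c0 : c ≠ 0 := fun e => hv ((smul_eq_zero_iff_eq u).1 (by rw [hc, e, zero_smul]))
  exact ⟨Units.mk0 c c0, Units.ext (LinearMap.ext hc)⟩

omit [Nontrivial V] in
theorem cm {r : A} (hr : r ∈ R) (c : Kˣ) : emb A V r * emb Kˣ V c = emb Kˣ V c * emb A V r :=
  Units.ext (LinearMap.ext fun v => h.lin r (fun u hu => h.ur.cU u hu r hr) c v)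

omit [Nontrivial V] in
/-- `R` times the scalars -/
def grp : Subgroup (Module.End ℤ V)ˣ where
  carrier := {g | ∃ c, ∃ r ∈ R, g = emb Kˣ V c * emb A V r}
  one_mem' := ⟨1, 1, one_mem _, by simp⟩
  mul_mem' := by
    rintro _ _ ⟨c, r, hr, rfl⟩ ⟨c', r', hr', rfl⟩
    refine ⟨c * c', r * r', mul_mem hr hr', ?_⟩
    rw [map_mul, map_mul, mul_assoc, ← mul_assoc (emb A V r), h.cm hr]; simp only [mul_assoc]
  inv_mem' := by
    rintro _ ⟨c, r, hr, rfl⟩
    exact ⟨c⁻¹, r⁻¹, inv_mem hr, by rw [mul_inv_rev, ← map_inv, ← map_inv, h.cm (inv_mem hr)]⟩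

variable [FaithfulSMul A V] [Finite A]

/-- the group of symplectic type -/
noncomputable def sy : Sy K V (Module.End ℤ V)ˣ where
  s := emb Kˣ V
  hs _ _ := rfl
  R := h.grp
  sR c := ⟨c, 1, one_mem _, by simp⟩
  lin := by
    rintro _ ⟨c, r, hr, rfl⟩ t v
    simp only [mul_smul, emb_smul, h.lin r (fun u hu => h.ur.cU u hu r hr)]
    exact smul_comm _ _ _
  comm := by
    rintro _ ⟨c, r, hr, rfl⟩ _ ⟨c', r', hr', rfl⟩
    obtain ⟨t, ht⟩ := h.sc' (h.ur.comm r hr r' hr')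
    refine ⟨t, ?_⟩
    have e : ∀ {r} (c c' : Kˣ) (r' : A), r ∈ R → emb Kˣ V c * emb A V r * (emb Kˣ V c' * emb A V r') =
        emb Kˣ V (c * c') * emb A V (r * r') := fun {r} c c' r' hr => by
      rw [map_mul, map_mul, mul_assoc, ← mul_assoc (emb A V r), h.cm hr]; simp only [mul_assoc]
    rw [e _ _ _ hr, e _ _ _ hr', ← mul_assoc, ← map_mul, mul_comm t, mul_comm c', map_mul _ _ t, ← ht,
      mul_assoc, ← map_mul, commutatorElement_def]
    congr 2; group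
  nondeg := by
    rintro _ ⟨c, r, hr, rfl⟩ e
    obtain ⟨t, ht⟩ := h.sc' (h.ur.center_le h.ur.nR le_rfl hr fun b hb => emb_inj (V := V) (by
      have := e _ ⟨1, b, hb, rfl⟩
      rw [map_one, one_mul, ← mul_assoc, h.cm hb, mul_assoc, mul_assoc, mul_right_inj] at this
      rw [map_mul, map_mul, this]))
    exact ⟨c * t, by rw [ht, map_mul]⟩
  n := h.ur.exists_sqf.choose
  sqf := h.ur.exists_sqf.choose_spec.1
  pow := by
    rintro _ ⟨c, r, hr, rfl⟩
    obtain ⟨t, ht⟩ := h.sc' (h.ur.exists_sqf.choose_spec.2 r hr)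
    exact ⟨c ^ _ * t, by rw [Commute.mul_pow (h.cm hr c).symm, ← map_pow, ← map_pow, ht, map_mul]⟩
  faith := units_faith
  ntriv := inferInstance

theorem mem_R {r : A} (hr : r ∈ R) : emb A V r ∈ h.sy.R := ⟨1, r, hr, by simp⟩

theorem conj_s (a : A) (c : Kˣ) : ∃ c', emb A V a * h.sy.s c * (emb A V a)⁻¹ = h.sy.s c' := by
  obtain ⟨σ, hσ⟩ := h.semi a
  refine ⟨Units.map σ c, h.sy.ext' fun v => ?_⟩
  rw [mul_smul, mul_smul, h.sy.hs, emb_smul, hσ, ← emb_smul, smul_inv_smul]; rfl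

theorem norm [Finite V] (a : A) : emb A V a ∈ normalizer (h.sy.R : Set (Module.End ℤ V)ˣ) := by
  refine mem_normalizer_fintype ?_
  rintro _ ⟨c, r, hr, rfl⟩
  obtain ⟨c', hc'⟩ := h.conj_s a c
  refine ⟨c', a * r * a⁻¹, h.ur.nR.conj_mem r hr a, ?_⟩
  rw [map_mul, map_mul, map_inv]
  change _ = h.sy.s c' * _
  rw [← hc']; change emb A V a * (h.sy.s c * _) * _ = _; group

theorem mem_U {a : A} (ha : emb A V a ∈ h.sy.s.range) : a ∈ U := by
  refine h.ur.mx {a | emb A V a ∈ h.sy.s.range} ?_ ?_ ?_ ha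
  · rintro g t ⟨c, hc⟩
    obtain ⟨c', hc'⟩ := h.conj_s g c
    exact ⟨c', by rw [← hc', hc, map_mul, map_mul, map_inv]⟩
  · rintro a ⟨c, hc⟩ b ⟨c', hc'⟩
    exact emb_inj (V := V) (by rw [map_mul, map_mul, ← hc, ← hc', ← map_mul, ← map_mul, mul_comm])
  · rintro u hu b ⟨c', hc'⟩
    obtain ⟨c, hc⟩ := h.sc' hu
    refine emb_inj (V := V) ?_
    rw [map_mul, map_mul, ← hc', hc]
    exact (h.sy.s_comm (h.sy.sR c) c')

variable [Finite V]

theorem mem_of {a : A} (hl : h.sy.Lin (emb A V a))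
    (e : ∀ c ∈ h.sy.R, c⁻¹ * (emb A V a * c * (emb A V a)⁻¹) ∈ h.sy.s.range) : a ∈ R := by
  obtain ⟨_, ⟨c, r, hr, rfl⟩, hc⟩ := Sy.exists_inner hl e
  refine (mul_mem_cancel_left (inv_mem hr)).1 (h.ur.le (h.ur.cR _ fun t ht => emb_inj (V := V) ?_))
  have := hc _ (h.mem_R ht)
  rw [← h.cm hr, mul_assoc (emb A V r), ← h.cm ht] at this
  simp only [map_mul, map_inv]
  calc _ = (emb A V r)⁻¹ * (emb A V r * (emb A V t * emb Kˣ V c) * (emb A V r * emb Kˣ V c)⁻¹) *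
      emb A V a := by group
    _ = _ := by rw [← this]; group

/-- a subgroup of `R` with small centraliser is everything -/
theorem eq_of_cent {B : Subgroup A} (hB : B ≤ R) (hU : U ≤ B) (e : R ⊓ centralizer (B : Set A) ≤ U) :
    R ≤ B := by
  have h1 : B.map (emb A V) ≤ h.sy.R := by rintro _ ⟨b, hb, rfl⟩; exact h.mem_R (hB hb)
  have h2 : h.sy.C (B.map (emb A V)) ≤ h.sy.s.range := by
    rintro _ ⟨⟨c, r, hr, rfl⟩, hc⟩
    obtain ⟨t, ht⟩ := h.sc' (e ⟨hr, fun b hb => emb_inj (V := V) (by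
      have := hc _ ⟨b, hb, rfl⟩
      rw [← mul_assoc, h.cm (hB hb), mul_assoc, mul_assoc, mul_right_inj] at this
      rw [map_mul, map_mul, this])⟩)
    exact ⟨c * t, by rw [ht, map_mul]; rfl⟩
  intro r hr
  have h3 : emb A V r ∈ h.sy.D (B.map (emb A V)) := by
    rw [← Sy.C_C_eq_D h1]
    refine (Sy.mem_C (Sy.C_le _)).2 ⟨h.mem_R hr, fun a ha => ?_⟩
    obtain ⟨c, rfl⟩ := h2 ha
    exact Sy.β_s_left (h.mem_R hr) c
  obtain ⟨c, _, ⟨b, hb, rfl⟩, hc⟩ := (Sy.mem_D h1).1 h3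
  exact (mul_mem_cancel_right (inv_mem hb)).1
    (hU (h.mem_U ⟨c, by rw [map_mul, map_inv, hc, mul_inv_cancel_right]⟩))

theorem sq5 [Finite K] (h5 : Nat.card K = 5) : ∀ r ∈ h.sy.R, ∃ c, r * r = h.sy.s (c ^ 2) := by
  have b2 : ∀ a ∈ h.sy.R, ∀ b ∈ h.sy.R, h.sy.β a b ^ 2 = 1 := fun a ha b hb => by
    obtain ⟨c, hc⟩ := h.sy.pow a ha
    have e1 : h.sy.β a b ^ h.sy.n = 1 := by rw [← Sy.β_pow_left ha hb, hc, Sy.β_s_left hb]
    have e2 : h.sy.β a b ^ 2 ^ 2 = 1 := by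
      have := pow_card_eq_one' (x := h.sy.β a b)
      rwa [Nat.card_units, h5] at this
    have e3 := Nat.dvd_gcd (orderOf_dvd_of_pow_eq_one e1) (orderOf_dvd_of_pow_eq_one e2)
    exact orderOf_dvd_iff_pow_eq_one.1 (e3.trans (((h.sy.sqf.squarefree_of_dvd
      (Nat.gcd_dvd_left _ _)).dvd_pow_iff_dvd two_ne_zero).1 (Nat.gcd_dvd_right _ _)))
  have sc : ∀ a ∈ h.sy.R, ∃ l, a * a = h.sy.s l := fun a ha => h.sy.nondeg _ (mul_mem ha ha) fun t ht =>
    (Sy.β_eq_one_iff (mul_mem ha ha) ht).1 (by rw [Sy.β_mul_left ha ha ht, ← sq, b2 a ha t ht])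
  obtain ⟨i, hi⟩ : ∃ i : Kˣ, -1 = i ^ 2 := by
    haveI := Fintype.ofFinite K
    obtain ⟨t, ht⟩ := (FiniteField.isSquare_neg_one_iff (F := K)).2
      (by rw [← Nat.card_eq_fintype_card, h5]; norm_num)
    have t0 : t ≠ 0 := by rintro rfl; simp at ht
    exact ⟨Units.mk0 t t0, Units.ext (by simp [sq, ← ht])⟩
  have ml : ∀ {a b l l'}, a ∈ h.sy.R → b ∈ h.sy.R → a * a = h.sy.s l → b * b = h.sy.s l' →
      ∃ c, a * b * (a * b) = h.sy.s (c ^ 2 * (l * l')) := fun {a b l l'} ha hb e e' => by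
    rw [← sq, Sy.mul_pow_eq ha hb, sq, sq, e, e', ← map_mul, ← map_mul]
    rcases units_sq_one _ (b2 b hb a ha) with e | e <;> rw [e]
    exacts [⟨1, by simp⟩, ⟨i, by simp [hi]⟩]
  let B : Subgroup A :=
    { carrier := {r | r ∈ R ∧ ∃ c, emb A V r * emb A V r = h.sy.s (c ^ 2)}
      one_mem' := ⟨one_mem _, 1, by simp⟩
      mul_mem' := fun {a b} ⟨ha, c, hc⟩ ⟨hb, c', hc'⟩ => ⟨mul_mem ha hb, by
        obtain ⟨t, ht⟩ := ml (h.mem_R ha) (h.mem_R hb) hc hc'
        exact ⟨t * (c * c'), by rw [map_mul, ht, mul_pow, mul_pow]⟩⟩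
      inv_mem' := fun {a} ⟨ha, c, hc⟩ => ⟨inv_mem ha, c⁻¹, by
        rw [map_inv, ← mul_inv_rev, hc, inv_pow, map_inv]⟩ }
  haveI nB : B.Normal := ⟨fun r ⟨hr, c, hc⟩ g => ⟨h.ur.nR.conj_mem r hr g, by
    obtain ⟨c', hc'⟩ := h.conj_s g c
    exact ⟨c', by rw [map_mul, map_mul, map_inv, conj_mul, hc, map_pow, map_pow, ← hc', conj_pow]⟩⟩⟩
  haveI := h.ur.nR
  have two : ∀ a ∈ R, ∀ b ∈ R, a ∉ B → b ∉ B → a * b ∈ B := fun a ha b hb na nb => by
    obtain ⟨l, hl⟩ := sc _ (h.mem_R ha)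
    obtain ⟨l', hl'⟩ := sc _ (h.mem_R hb)
    obtain ⟨t, ht⟩ := ml (h.mem_R ha) (h.mem_R hb) hl hl'
    obtain ⟨j, μ, hj⟩ := cyc_pow Nat.prime_two (l := l) (fun μ e => na ⟨ha, μ, e ▸ hl⟩) l'
    rcases Nat.even_or_odd' j with ⟨k, rfl | rfl⟩
    · exact (nb ⟨hb, l ^ k * μ, by rw [hl', hj, mul_pow, ← pow_mul, mul_comm k]⟩).elim
    · refine ⟨mul_mem ha hb, t * (l ^ (k + 1) * μ), ?_⟩
      rw [map_mul, ht, hj, mul_pow, mul_pow, ← pow_mul, ← mul_assoc l, ← pow_succ']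
      congr 4; ring
  have hRB := h.eq_of_cent (B := B) (fun _ hr => hr.1) (fun u hu => ⟨h.ur.le hu, by
    obtain ⟨c, hc⟩ := h.sc' hu
    exact ⟨c, by rw [hc, map_pow, sq]; rfl⟩⟩) (h.ur.mx (R ⊓ centralizer (B : Set A) : Subgroup A)
    (fun g t ht => (inferInstance : (R ⊓ centralizer (B : Set A)).Normal).conj_mem t ht g)
    (fun a ha b hb => by
      by_cases na : a ∈ B
      · exact hb.2 a na
      by_cases nb : b ∈ B
      · exact (ha.2 b nb).symm
      have := ha.2 _ (two a ha.1 b hb.1 na nb)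
      rw [mul_assoc, mul_right_inj] at this
      exact this.symm) fun u hu t ht => h.ur.cU u hu t ht.1)
  rintro _ ⟨c, r, hr, rfl⟩
  obtain ⟨-, c', hc'⟩ := hRB hr
  refine ⟨c * c', ?_⟩
  rw [← sq, Commute.mul_pow (h.cm hr c).symm, sq (emb A V r), hc', mul_pow, map_mul, ← map_pow]; rfl

omit [Finite A] [Finite V] in
theorem triv (hc : (Nat.card K - 1).Coprime (Nat.card A)) (a : A) : a = 1 := by
  refine h.ur.triv (fun u hu => ?_) a
  obtain ⟨c, e⟩ := h.sc' hu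
  refine (pow_eq_one_iff_of_coprime hc).1 ⟨emb_inj (V := V) ?_, pow_card_eq_one'⟩
  rw [map_pow, e, ← map_pow, ← Nat.card_units, pow_card_eq_one', map_one, map_one]

variable [Finite K]

omit [Finite V] [Finite K] in
theorem pow_four (h3 : Nat.card K = 3) {r : A} (hr : r ∈ R) : r ^ 4 = 1 := by
  have h1 : ∀ c : Kˣ, c ^ 2 = 1 := fun c => by
    have := pow_card_eq_one' (x := c)
    rwa [Nat.card_units, h3] at this
  refine emb_inj (V := V) ?_
  obtain ⟨c, e | e⟩ := Sy.sq_three h3 _ (h.mem_R hr) <;>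
    rw [map_pow, show 4 = 2 * 2 from rfl, pow_mul, sq (emb A V r), e, ← map_pow, h1, map_one, map_one]

theorem two_core (h3 : Nat.card K = 3) {a : A} (ha : a ∈ pCore 2 A) : a ∈ R := by
  haveI := Fact.mk Nat.prime_two
  haveI := (Core.pCore_isPGroup 2 A).isNilpotent
  have h1 : R ≤ pCore 2 A := Core.le_pCore h.ur.nR fun r => ⟨2, Subtype.ext (h.pow_four h3 r.2)⟩
  have h2 := h.eq_of_cent (B := h.ur.fixed (pCore 2 A)) (fun _ hr => hr.1) (fun u hu => ⟨h.ur.le hu,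
    fun y _ => by
      have := mul_mem hu (h.ur.nU.conj_mem _ (inv_mem hu) y)
      simpa only [commutatorElement_def, mul_assoc] using this⟩) (h.ur.cent_fixed _ h1)
  have hl := Sy.lin_of_prime (S := h.sy) (g := emb A V a) Nat.prime_three h3 (h.semi a)
  refine h.mem_of hl ?_
  rintro _ ⟨c, r, hr, rfl⟩
  obtain ⟨t, ht⟩ := h.sc' ((h2 (inv_mem hr)).2 a ha)
  refine ⟨t, ?_⟩
  have := hl.comm c
  change emb A V a * emb Kˣ V c = emb Kˣ V c * emb A V a at this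
  change emb Kˣ V t = _
  rw [← ht, ← mul_assoc (emb A V a), this]
  simp only [commutatorElement_def, map_mul, map_inv]
  group

theorem base : ∃ x z w : V, ∀ a : A, a • x = x → a • z = z →
    (a • w = w ∨ ¬ 2 ∣ Nat.card A ∨ ¬ 3 ∣ Nat.card A ∨ (¬ 2 ∣ Nat.card V ∧ ¬ 3 ∣ Nat.card V)) → a = 1 := by
  obtain ⟨x, z, w, h1, h2⟩ := Sy.top (S := h.sy) h.sq5
  have fin : ∀ a ∈ R, a • x = x → a • z = z → a = 1 := fun a ha e e' =>
    emb_inj (V := V) (by rw [h1 _ (h.mem_R ha) e e', map_one])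
  have hq : Nat.card K ∣ Nat.card V := by
    haveI := Module.Finite.of_finite (R := K) (M := V)
    rw [Module.natCard_eq_pow_finrank (K := K) (V := V)]
    exact dvd_pow_self _ Module.finrank_pos.ne'
  refine ⟨x, z, w, fun a hx hz side => ?_⟩
  by_cases hc : (Nat.card K - 1).Coprime (Nat.card A)
  · exact h.triv hc a
  have q1 := Finite.one_lt_card (α := K)
  have c2 := fun e : ¬ 2 ∣ Nat.card A => (Nat.prime_two.coprime_iff_not_dvd.2 e)
  have c3 := fun e : ¬ 3 ∣ Nat.card A => (Nat.prime_three.coprime_iff_not_dvd.2 e)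
  have ord : (Nat.card A).Coprime (Nat.card K) → Ord K (emb A V a) := fun e =>
    ⟨_, by rw [← map_pow, pow_card_eq_one', map_one], e⟩
  obtain ⟨hl, a', b', hcon, hab⟩ := h2 (emb A V a) (h.norm a) (h.semi a) hx hz (by
    by_cases h5 : 5 ≤ Nat.card K
    · exact Or.inr (Or.inr h5)
    refine side.imp_right fun side => Or.inl (ord ?_)
    obtain e | e | e : Nat.card K = 2 ∨ Nat.card K = 3 ∨ Nat.card K = 4 := by omega
    · simp [e] at hc
    · rw [e] at hc hq ⊢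
      exact (side.elim (fun e => (hc (c2 e)).elim) fun s => s.elim c3 fun s => (s.2 hq).elim).symm
    · rw [e] at hc hq ⊢
      exact side.elim (fun e => (c2 e).symm.pow_right 2) fun s => s.elim (fun e => (hc (c3 e)).elim)
        fun s => (s.1 ((by norm_num : 2 ∣ 4).trans hq)).elim)
  by_cases h0 : Nat.card K ≠ 3 ∨ a • w = w
  · obtain ⟨rfl, rfl⟩ := hab h0
    refine fin a (h.mem_of hl fun c hc => ?_) hx hz
    have := hcon.con c (Sy.C_bot (S := h.sy) ▸ hc)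
    rwa [Sy.τ_one, Sy.D_bot] at this
  push Not at h0
  obtain ⟨h3, hw⟩ := h0
  have n3 : ¬ 3 ∣ Nat.card A := by
    rw [h3] at hc hq
    rcases side with e | e | e | e
    exacts [(hw e).elim, (hc (c2 e)).elim, e, (e.2 hq).elim]
  have u2 : ∀ c : Kˣ, c ^ 2 = 1 := fun c => by
    have := pow_card_eq_one' (x := c)
    rwa [Nat.card_units, h3] at this
  have lin : ∀ g : A, h.sy.Lin (emb A V g) := fun g => Sy.lin_of_prime Nat.prime_three h3 (h.semi g)
  have tv := hcon.tv u2 (h.norm a)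
  have inR : ∀ g : A, (∀ c ∈ h.sy.R, ∀ t ∈ h.sy.R,
      h.sy.ω (emb A V g * c * (emb A V g)⁻¹) t = h.sy.ω c t) → g ∈ R := fun g e =>
    h.mem_of (lin g) fun c hc => Sy.range_of_ω u2 hc (Sy.conj_mem (h.norm g) hc) (e c hc)
  have a2 : a * a = 1 := fin _ (inR _ fun c hc t ht => by rw [map_mul]; exact tv.sq hc ht)
    (by rw [mul_smul, hx, hx]) (by rw [mul_smul, hz, hz])
  refine fin a (h.two_core h3 ?_) hx hz
  by_contra hn
  obtain ⟨y, y1, ⟨k, hk⟩, hy⟩ := Inv.exists_odd_inverted_of_not_mem_pCore a2 hn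
  have ai : a⁻¹ = a := inv_eq_of_mul_eq_one_right a2
  have e1 : a * (y ^ k * a * (y ^ k)⁻¹) = y := by
    have e2 : a * y ^ k * a⁻¹ = (y ^ k)⁻¹ := by rw [← conj_pow, hy, inv_pow]
    have e3 : y ^ (2 * k + 1) = 1 := by rw [← hk, pow_orderOf_eq_one]
    rw [ai] at e2
    rw [← mul_assoc, ← mul_assoc, e2, ← mul_inv_rev, ← pow_add, ← two_mul, inv_eq_iff_mul_eq_one,
      ← pow_succ, e3]
  have e4 := h.pow_four h3 (inR (y ^ 12) fun c hc t ht => by
    have := tv.twelve (tv.conj (h.norm (y ^ k)) (lin _)) hc ht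
    rwa [← map_inv, ← map_mul, ← map_mul, ← map_mul, e1, ← map_pow] at this)
  rw [← pow_mul] at e4
  have e5 : Nat.Coprime (12 * 4) (orderOf y) := by
    rw [show 12 * 4 = 2 ^ 4 * 3 from rfl]
    exact Nat.Coprime.mul_left (Nat.Coprime.pow_left 4 (by rw [hk]; simp))
      ((c3 n3).coprime_dvd_right (orderOf_dvd_natCard y))
  exact y1 ((pow_eq_one_iff_of_coprime e5).1 ⟨e4, pow_orderOf_eq_one y⟩)

end Pr

end Cfsg.Lib.SL
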