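import Cfsg.Agent.Lib.SL.Sy

/-!
Descending one step in a chain of vector stabilisers.
-/

set_option autoImplicit false
set_option linter.style.haveILetI false

namespace Cfsg.Lib.SL

open Subgroup

/-- `g` has order prime to the characteristic -/
def Ord (K : Type*) {Γ : Type*} [Group Γ] (g : Γ) : Prop := ∃ n : ℕ, g ^ n = 1 ∧ n.Coprime (Nat.card K)

namespace Sy

variable {K V Γ : Type*} [Field K] [AddCommGroup V] [Module K V] [Group Γ] [DistribMulAction Γ V]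
  (S : Sy K V Γ)

open Classical in
/-- the involution attached to a pair -/
noncomputable def τ (a b c : Γ) : Γ :=
  c * (if S.β c b = 1 then 1 else a) * (if S.β c a = 1 then 1 else b)

/-- `g` acts on `C A / D A` like `τ a b` -/
structure Con (A : Subgroup Γ) (g a b : Γ) : Prop where
  ha : a ∈ S.C A
  hb : b ∈ S.C A
  hab : S.β a b = 1
  con : ∀ c ∈ S.C A, (S.τ a b c)⁻¹ * (g * c * g⁻¹) ∈ S.D A

/-- the vectors pin down the normalising elements -/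
def Good (A : Subgroup Γ) (x z w : V) : Prop :=
  ∀ g ∈ normalizer (S.R : Set Γ), S.Semi g → g • x = x → g • z = z →
    (g • w = w ∨ Ord K g ∨ 5 ≤ Nat.card K) →
    S.Lin g ∧ ∃ a b, S.Con A g a b ∧ ((Nat.card K ≠ 3 ∨ g • w = w) → a = 1 ∧ b = 1)

/-- a level of the chain -/
structure Lv (A : Subgroup Γ) (x z w : V) : Prop where
  le : A ≤ S.R
  x0 : x ≠ 0
  free : ∀ r ∈ S.R, r • x = x → r ∈ A
  hx : Fx A x
  hz : Fx A z
  hw : Fx A w
  good : S.Good A x z w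

/-- data of a step -/
structure St (A : Subgroup Γ) (y d : Γ) (r : ℕ) (u : Kˣ) : Prop where
  le : A ≤ S.R
  ab : A ≤ S.C A
  hy : y ∈ S.R
  pr : r.Prime
  ypow : y ^ r = S.s u
  hd : d ∈ A
  ne : S.β d y ≠ 1

/-- the next subgroup of the chain -/
def sub (A : Subgroup Γ) (y : Γ) : Subgroup Γ := A ⊓ centralizer {y}

variable {S}

theorem τ_one {c : Γ} : S.τ 1 1 c = c := by simp [τ]

theorem τ_mem {B : Subgroup Γ} {a b c : Γ} (ha : a ∈ B) (hb : b ∈ B) (hc : c ∈ B) : S.τ a b c ∈ B := by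
  unfold τ
  refine mul_mem (mul_mem hc ?_) ?_ <;> split_ifs <;> first | exact one_mem _ | assumption

theorem sub_le (A : Subgroup Γ) (y : Γ) : sub A y ≤ A := inf_le_left

namespace St

variable {A : Subgroup Γ} {y d : Γ} {r : ℕ} {u : Kˣ} (h : S.St A y d r u)
include h

theorem mem_sub {a : Γ} : a ∈ sub A y ↔ a ∈ A ∧ S.β a y = 1 :=
  and_congr_right fun ha => by
    rw [β_eq_one_iff (h.le ha) h.hy]; exact mem_centralizer_singleton_iff

theorem sub_le_R : sub A y ≤ S.R := (sub_le A y).trans h.le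

theorem β_pow {a : Γ} (ha : a ∈ S.R) : S.β a y ^ r = 1 := by
  rw [← β_pow_right ha h.hy, h.ypow, β_s_right ha]

theorem prim : IsPrimitiveRoot (S.β d y) r := by
  haveI := Fact.mk h.pr
  have := orderOf_eq_prime (h.β_pow (h.le h.hd)) h.ne
  exact this ▸ IsPrimitiveRoot.orderOf _

theorem root {c : Kˣ} (hc : c ^ r = 1) : ∃ j < r, S.β d y ^ j = c := by
  haveI : NeZero r := ⟨h.pr.ne_zero⟩
  exact h.prim.eq_pow_of_mem_rootsOfUnity ((mem_rootsOfUnity _ _).2 hc)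

theorem y_mem : y ∈ S.C (sub A y) :=
  (mem_C h.sub_le_R).2 ⟨h.hy, fun _ ha => (h.mem_sub.1 ha).2⟩

theorem y_not : y ∉ S.C A := fun e => h.ne (((mem_C h.le).1 e).2 d h.hd)

theorem dec {a : Γ} (ha : a ∈ A) : ∃ j < r, (d ^ j)⁻¹ * a ∈ sub A y := by
  obtain ⟨j, hj, e⟩ := h.root (h.β_pow (h.le ha))
  have hd := h.le h.hd
  refine ⟨j, hj, h.mem_sub.2 ⟨mul_mem (inv_mem (pow_mem h.hd j)) ha, ?_⟩⟩
  rw [β_mul_left (inv_mem (pow_mem hd j)) (h.le ha) h.hy, β_inv_left (pow_mem hd j) h.hy,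
    β_pow_left hd h.hy, e, inv_mul_cancel]

theorem cov {c : Γ} (hc : c ∈ S.C (sub A y)) : ∃ j < r, (y ^ j)⁻¹ * c ∈ S.C A := by
  have hd := h.le h.hd
  have hcs := ((mem_C h.sub_le_R).1 hc).2
  have h1 : S.β d c ^ r = 1 := by
    rw [← β_pow_left hd hc.1]
    exact hcs _ (h.mem_sub.2 ⟨pow_mem h.hd r, by rw [β_pow_left hd h.hy, h.β_pow hd]⟩)
  obtain ⟨j, hj, e⟩ := h.root h1
  have hyj := inv_mem (pow_mem h.hy j)
  have hm := mul_mem hyj hc.1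
  refine ⟨j, hj, (mem_C h.le).2 ⟨hm, fun a ha => ?_⟩⟩
  obtain ⟨i, -, hi⟩ := h.dec ha
  have hi' := h.sub_le_R hi
  have e2 : a = d ^ i * ((d ^ i)⁻¹ * a) := by group
  rw [e2, β_mul_left (pow_mem hd i) hi' hm, β_pow_left hd hm, β_mul_right hd hyj hc.1,
    β_mul_right hi' hyj hc.1, β_inv_right hd (pow_mem h.hy j), β_inv_right hi' (pow_mem h.hy j),
    β_pow_right hd h.hy, β_pow_right hi' h.hy, e, hcs _ hi, (h.mem_sub.1 hi).2]
  simp

theorem lt : sub A y < A := lt_of_le_of_ne (sub_le A y) fun e => h.ne (h.mem_sub.1 (e.symm ▸ h.hd)).2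

theorem adj {a : Γ} (ha : a ∈ S.R) : ∃ e ∈ A, S.β (a * e) y = 1 ∧ (a = 1 → e = 1) := by
  by_cases h1 : a = 1
  · exact ⟨1, one_mem _, by rw [h1, mul_one, β_one_left h.hy], fun _ => rfl⟩
  obtain ⟨j, -, e⟩ := h.root (h.β_pow ha)
  have hd := h.le h.hd
  refine ⟨(d ^ j)⁻¹, inv_mem (pow_mem h.hd j), ?_, fun e => (h1 e).elim⟩
  rw [β_mul_left ha (inv_mem (pow_mem hd j)) h.hy, β_inv_left (pow_mem hd j) h.hy, β_pow_left hd h.hy, e,
    mul_inv_cancel]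

/-- lifting the action on `C A / D A` one step -/
theorem lift {g a b a₁ : Γ} (hg : g ∈ normalizer (S.R : Set Γ)) (hl : S.Lin g) (h₁ : a₁ ∈ sub A y)
    (hy : g * y * g⁻¹ = y * a₁) (hc : S.Con A g a b) :
    ∃ a' b', S.Con (sub A y) g a' b' ∧ (a = 1 ∧ b = 1 → a' = 1 ∧ b' = 1) := by
  classical
  obtain ⟨e, he, hae, hae1⟩ := h.adj hc.ha.1
  obtain ⟨f, hf, hbf, hbf1⟩ := h.adj hc.hb.1
  have haR := hc.ha.1
  have hbR := hc.hb.1
  have heR := h.le he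
  have hfR := h.le hf
  have hCC : S.C A ≤ S.C (sub A y) := C_mono (sub_le A y)
  have hz : ∀ c ∈ S.C A, ∀ t ∈ A, S.β c t = 1 := fun c hc t ht => by
    rw [β_swap (h.le ht) hc.1, ((mem_C h.le).1 hc).2 t ht, inv_one]
  have hae' : a * e ∈ S.C A := mul_mem hc.ha (h.ab he)
  have hbf' : b * f ∈ S.C A := mul_mem hc.hb (h.ab hf)
  have hDR : S.D A ≤ S.R := D_le h.le S.sR
  have hDR' : S.D (sub A y) ≤ S.R := D_le h.sub_le_R S.sR
  refine ⟨a * e, b * f, ⟨hCC hae', hCC hbf', ?_, fun c hcc => ?_⟩, fun e => by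
    rw [hae1 e.1, hbf1 e.2, e.1, e.2, mul_one]; exact ⟨rfl, rfl⟩⟩
  · rw [β_mul_right hae'.1 hbR hfR, hz _ hae' f hf, β_mul_left haR heR hbR, hc.hab,
      ((mem_C h.le).1 hc.hb).2 e he, one_mul, one_mul]
  obtain ⟨j, -, hj⟩ := h.cov hcc
  obtain ⟨c₀, hc₀, rfl⟩ : ∃ c₀, c₀ ∈ S.C A ∧ c = y ^ j * c₀ := ⟨_, hj, by group⟩
  have hyj := pow_mem h.hy j
  have e1 : ∀ t ∈ S.C A, ∀ k ∈ A, S.β (t * k) y = 1 → S.β (y ^ j * c₀) (t * k) = S.β c₀ t := by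
    intro t ht k hk e
    have hm := mul_mem ht.1 (h.le hk)
    rw [β_mul_left hyj hc₀.1 hm, β_pow_left h.hy hm, β_swap hm h.hy, e, β_mul_right hc₀.1 ht.1 (h.le hk),
      hz _ hc₀ k hk]
    simp
  set p : Γ := if S.β c₀ b = 1 then 1 else a * e with hp
  set q : Γ := if S.β c₀ a = 1 then 1 else b * f with hq
  have hτ : S.τ (a * e) (b * f) (y ^ j * c₀) = y ^ j * (c₀ * p * q) := by
    unfold τ
    rw [e1 a hc.ha e he hae, e1 b hc.hb f hf hbf]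
    simp only [mul_assoc, hp, hq]
  have hpC : p ∈ S.C A := by rw [hp]; split_ifs; exacts [one_mem _, hae']
  have hqC : q ∈ S.C A := by rw [hq]; split_ifs; exacts [one_mem _, hbf']
  have hpy : S.β p y = 1 := by rw [hp]; split_ifs; exacts [β_one_left h.hy, hae]
  have hqy : S.β q y = 1 := by rw [hq]; split_ifs; exacts [β_one_left h.hy, hbf]
  have hm : c₀ * p * q ∈ S.C A := mul_mem (mul_mem hc₀ hpC) hqC
  have h2 : (c₀ * p * q)⁻¹ * S.τ a b c₀ ∈ S.D A := by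
    unfold τ
    rw [hp, hq]
    split_ifs
    · simp
    · simpa using inv_mem (le_D A hf)
    · simpa using inv_mem (le_D A he)
    · have : (c₀ * (a * e) * (b * f))⁻¹ * (c₀ * a * b) = f⁻¹ * (b⁻¹ * e⁻¹ * b⁻¹⁻¹) := by group
      rw [this]
      exact mul_mem (inv_mem (le_D A hf))
        (conj_mem_of hDR (s_mem_D A) (inv_mem hbR) (inv_mem (le_D A he)))
  have h3 : (c₀ * p * q)⁻¹ * (g * c₀ * g⁻¹) ∈ S.D A := by
    have := mul_mem h2 (hc.con c₀ hc₀)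
    rwa [mul_assoc, mul_inv_cancel_left] at this
  obtain ⟨t, α, hα, hδ⟩ := (mem_D h.le).1 h3
  have h4 : g * c₀ * g⁻¹ = c₀ * p * q * (S.s t * α) := by rw [← hδ]; group
  have hαR := h.le hα
  have hsα := mul_mem (S.sR t) hαR
  have h5 : S.β α y = 1 := by
    have e2 := β_conj hg hl hc₀.1 h.hy
    have hm2 : c₀ * p * q * (S.s t * α) ∈ S.C A := mul_mem hm (mul_mem (s_mem_C h.le t) (h.ab hα))
    rw [h4, hy, β_mul_right hm2.1 h.hy (h.sub_le_R h₁), hz _ hm2 a₁ (sub_le A y h₁),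
      β_mul_left hm.1 hsα h.hy, β_mul_left (mul_mem hc₀.1 hpC.1) hqC.1 h.hy, β_mul_left hc₀.1 hpC.1 h.hy,
      hpy, hqy, β_mul_left (S.sR t) hαR h.hy, β_s_left h.hy] at e2
    simpa using e2
  have h6 : (g * y ^ j * g⁻¹) = y ^ j * a₁ ^ j := by
    rw [← conj_pow, hy]
    exact Commute.mul_pow (mem_centralizer_singleton_iff.1 h₁.2).symm j
  have h7 : (y ^ j * (c₀ * p * q))⁻¹ * (g * (y ^ j * c₀) * g⁻¹) =
      ((c₀ * p * q)⁻¹ * a₁ ^ j * (c₀ * p * q)⁻¹⁻¹) * (S.s t * α) := by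
    calc _ = (y ^ j * (c₀ * p * q))⁻¹ * ((g * y ^ j * g⁻¹) * (g * c₀ * g⁻¹)) := by group
      _ = _ := by rw [h6, h4]; group
  rw [hτ, h7]
  exact mul_mem (conj_mem_of hDR' (s_mem_D _) (inv_mem hm.1) (le_D _ (pow_mem h₁ j)))
    (mul_mem (s_mem_D _ t) (le_D _ (h.mem_sub.2 ⟨hα, h5⟩)))

end St

namespace Lv

variable {A : Subgroup Γ} {x z w : V} (h : S.Lv A x z w)
include h

theorem ab : A ≤ S.C A := h.hx.le_C h.le h.x0

theorem conj_A {g : Γ} (hg : g ∈ normalizer (S.R : Set Γ)) (hx : g • x = x) {a : Γ} (ha : a ∈ A) :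
    g * a * g⁻¹ ∈ A := by
  refine h.free _ (conj_mem hg (h.le ha)) ?_
  rw [mul_smul, mul_smul, inv_smul_eq_iff.2 hx.symm, h.hx a ha, hx]

theorem conj_C {g : Γ} (hg : g ∈ normalizer (S.R : Set Γ)) (hx : g • x = x) {c : Γ} (hc : c ∈ S.C A) :
    g * c * g⁻¹ ∈ S.C A := by
  refine ⟨conj_mem hg hc.1, fun a ha => ?_⟩
  have := hc.2 _ (h.conj_A (inv_mem hg) (inv_smul_eq_iff.2 hx.symm) ha)
  calc a * (g * c * g⁻¹) = g * (g⁻¹ * a * g⁻¹⁻¹ * c) * g⁻¹ := by group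
    _ = _ := by rw [this]; group

theorem conj_C' {g : Γ} (hg : g ∈ normalizer (S.R : Set Γ)) (hx : g • x = x) {c : Γ}
    (hc : g * c * g⁻¹ ∈ S.C A) : c ∈ S.C A := by
  have := h.conj_C (inv_mem hg) (inv_smul_eq_iff.2 hx.symm) hc
  simpa [mul_assoc] using this

theorem fx_g {g : Γ} (hg : g ∈ normalizer (S.R : Set Γ)) (hx : g • x = x) {v : V} (hv : Fx A v) :
    Fx A (g • v) := fun a ha => by
  have := hv _ (h.conj_A (inv_mem hg) (inv_smul_eq_iff.2 hx.symm) ha)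
  rw [inv_inv, mul_smul, mul_smul, inv_smul_eq_iff] at this
  exact this

theorem free_D {r : Γ} (hr : r ∈ S.R) {c : Kˣ} (e : r • x = S.s c • x) : (S.s c)⁻¹ * r ∈ A :=
  h.free _ (mul_mem (inv_mem (S.sR c)) hr) (by rw [mul_smul, e, inv_smul_smul])

end Lv

theorem conj_smul {g y : Γ} {x : V} (hx : g • x = x) : g • y • x = (g * y * g⁻¹) • x := by
  rw [mul_smul, mul_smul, inv_smul_eq_iff.2 hx.symm]

theorem exists_St {A : Subgroup Γ} {x : V} (hA : A ≤ S.R) (hx : Fx A x) (x0 : x ≠ 0) (hne : A ≠ ⊥) :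
    ∃ y d r u, S.St A y d r u := by
  obtain ⟨⟨d, hd⟩, hd1⟩ := ne_bot_iff_exists_ne_one.1 hne
  have h1 : ¬ S.R ≤ S.C A := fun e => by
    obtain ⟨c, hc⟩ := S.nondeg d (hA hd) fun r hr => (e hr).2 d hd
    have : c = 1 := S.s_eq_one x0 (hc ▸ hx d hd)
    exact hd1 (Subtype.ext (hc.trans (by rw [this, map_one]; rfl)))
  obtain ⟨y₀, hy₀, hy₀'⟩ := SetLike.not_le_iff_exists.1 h1
  obtain ⟨r, k, hr, hk, hy⟩ := exists_prime_part (C_le A) (s_mem_C hA) hy₀ hy₀'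
  obtain ⟨u, hu⟩ := S.pow y₀ hy₀
  have hyR := pow_mem hy₀ k
  obtain ⟨e, he, hne⟩ : ∃ e ∈ A, S.β e (y₀ ^ k) ≠ 1 := by
    by_contra! hc
    exact hy ((mem_C hA).2 ⟨hyR, hc⟩)
  exact ⟨y₀ ^ k, e, r, u, hA, hx.le_C hA x0, hyR, hr, by rw [← pow_mul, mul_comm, hk, hu], he, hne⟩

theorem St.scale {A : Subgroup Γ} {y d : Γ} {r : ℕ} {u : Kˣ} (h : S.St A y d r u) (γ : Kˣ) :
    S.St A (S.s γ * y) d r (γ ^ r * u) := by
  refine ⟨h.le, h.ab, mul_mem (S.sR γ) h.hy, h.pr, ?_, h.hd, ?_⟩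
  · rw [Commute.mul_pow (S.s_comm h.hy γ).symm, h.ypow, map_mul, map_pow]
  · rw [β_mul_right (h.le h.hd) (S.sR γ) h.hy, β_s_right (h.le h.hd), one_mul]; exact h.ne

end Sy

end Cfsg.Lib.SL
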