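import Mathlib

/-!
Groups of symplectic type acting on a vector space over a finite field: the basic calculus.
-/

set_option autoImplicit false
set_option linter.style.haveILetI false

namespace Cfsg.Lib.SL

open Subgroup

/-- A group `R` of linear maps containing the scalars, abelian of squarefree exponent and
nondegenerate modulo the scalars. -/
structure Sy (K V Γ : Type*) [Field K] [AddCommGroup V] [Module K V] [Group Γ]
    [DistribMulAction Γ V] where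
  s : Kˣ →* Γ
  hs : ∀ c (v : V), s c • v = (c : K) • v
  R : Subgroup Γ
  sR : ∀ c, s c ∈ R
  lin : ∀ r ∈ R, ∀ (c : K) (v : V), r • c • v = c • r • v
  comm : ∀ r ∈ R, ∀ r' ∈ R, ∃ c, r * r' = s c * (r' * r)
  nondeg : ∀ r ∈ R, (∀ r' ∈ R, r * r' = r' * r) → ∃ c, r = s c
  n : ℕ
  sqf : Squarefree n
  pow : ∀ r ∈ R, ∃ c, r ^ n = s c
  faith : ∀ g : Γ, (∀ v : V, g • v = v) → g = 1
  ntriv : Nontrivial V

theorem card_hom_le (X K : Type*) [Group X] [Finite X] [Field K] :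
    Finite (X →* Kˣ) ∧ Nat.card (X →* Kˣ) ≤ Nat.card X := by
  classical
  haveI := Fintype.ofFinite X
  have h := (linearIndependent_monoidHom X K).comp (fun f : X →* Kˣ => (Units.coeHom K).comp f)
    (fun f g h => MonoidHom.ext fun x => Units.ext (DFunLike.congr_fun h x))
  haveI hf : Finite (X →* Kˣ) := h.finite
  haveI := Fintype.ofFinite (X →* Kˣ)
  refine ⟨hf, ?_⟩
  have := h.fintype_card_le_finrank
  rw [Module.finrank_fintype_fun_eq_card] at this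
  rwa [Nat.card_eq_fintype_card, Nat.card_eq_fintype_card]

namespace Sy

variable {K V Γ : Type*} [Field K] [AddCommGroup V] [Module K V] [Group Γ] [DistribMulAction Γ V]
  (S : Sy K V Γ)

include S in
theorem ext' {g h : Γ} (e : ∀ v : V, g • v = h • v) : g = h := by
  have := S.faith (h⁻¹ * g) fun v => by rw [mul_smul, e, inv_smul_smul]
  rw [← mul_right_inj h⁻¹, this, inv_mul_cancel]

theorem s_eq_one {c : Kˣ} {v : V} (hv : v ≠ 0) (h : S.s c • v = v) : c = 1 := by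
  rw [S.hs] at h
  have : ((c : K) - 1) • v = 0 := by rw [sub_smul, h, one_smul, sub_self]
  exact Units.ext (sub_eq_zero.1 ((smul_eq_zero.1 this).resolve_right hv))

theorem s_inj : Function.Injective S.s := by
  haveI := S.ntriv
  obtain ⟨v, hv⟩ := exists_ne (0 : V)
  rw [injective_iff_map_eq_one]
  exact fun c h => S.s_eq_one hv (by rw [h, one_smul])

/-- `g` is linear -/
def Lin (_S : Sy K V Γ) (g : Γ) : Prop := ∀ (c : K) (v : V), g • c • v = c • g • v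

/-- `g` is semilinear -/
def Semi (_S : Sy K V Γ) (g : Γ) : Prop := ∃ σ : K →+* K, ∀ (c : K) (v : V), g • c • v = σ c • g • v

theorem Lin.comm {S : Sy K V Γ} {g : Γ} (h : S.Lin g) (c : Kˣ) : g * S.s c = S.s c * g :=
  S.ext' fun v => by rw [mul_smul, mul_smul, S.hs, S.hs, h]

theorem Lin.conj {S : Sy K V Γ} {g : Γ} (h : S.Lin g) (c : Kˣ) : g * S.s c * g⁻¹ = S.s c := by
  rw [h.comm, mul_inv_cancel_right]

theorem s_comm {r : Γ} (hr : r ∈ S.R) (c : Kˣ) : r * S.s c = S.s c * r := Lin.comm (S.lin r hr) c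

open Classical in
/-- the commutator pairing -/
noncomputable def β (r r' : Γ) : Kˣ :=
  if h : r ∈ S.R ∧ r' ∈ S.R then (S.comm r h.1 r' h.2).choose else 1

variable {S}

theorem β_spec {r r' : Γ} (h : r ∈ S.R) (h' : r' ∈ S.R) : r * r' = S.s (S.β r r') * (r' * r) := by
  unfold β
  rw [dif_pos ⟨h, h'⟩]
  exact (S.comm r h r' h').choose_spec

theorem β_eq {r r' : Γ} (h : r ∈ S.R) (h' : r' ∈ S.R) {c : Kˣ} (e : r * r' = S.s c * (r' * r)) :
    S.β r r' = c :=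
  S.s_inj (mul_right_cancel ((β_spec h h').symm.trans e))

theorem β_eq_one_iff {r r' : Γ} (h : r ∈ S.R) (h' : r' ∈ S.R) : S.β r r' = 1 ↔ r * r' = r' * r :=
  ⟨fun e => by rw [β_spec h h', e, map_one, one_mul], fun e => β_eq h h' (by rw [map_one, one_mul, e])⟩

theorem β_mul_left {a b c : Γ} (ha : a ∈ S.R) (hb : b ∈ S.R) (hc : c ∈ S.R) :
    S.β (a * b) c = S.β a c * S.β b c := by
  apply β_eq (mul_mem ha hb) hc
  rw [mul_assoc, β_spec hb hc, ← mul_assoc, S.s_comm ha, mul_assoc, ← mul_assoc a, β_spec ha hc,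
    mul_comm (S.β a c), map_mul]
  simp only [mul_assoc]

theorem β_swap {a b : Γ} (ha : a ∈ S.R) (hb : b ∈ S.R) : S.β b a = (S.β a b)⁻¹ := by
  apply β_eq hb ha
  rw [β_spec ha hb, map_inv, inv_mul_cancel_left]

theorem β_mul_right {a b c : Γ} (ha : a ∈ S.R) (hb : b ∈ S.R) (hc : c ∈ S.R) :
    S.β a (b * c) = S.β a b * S.β a c := by
  rw [β_swap (mul_mem hb hc) ha, β_mul_left hb hc ha, β_swap hb ha, β_swap hc ha, mul_inv]

theorem β_self {a : Γ} (ha : a ∈ S.R) : S.β a a = 1 := (β_eq_one_iff ha ha).2 rfl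

theorem β_s_right {a : Γ} (ha : a ∈ S.R) (c : Kˣ) : S.β a (S.s c) = 1 :=
  (β_eq_one_iff ha (S.sR c)).2 (S.s_comm ha c)

theorem β_s_left {a : Γ} (ha : a ∈ S.R) (c : Kˣ) : S.β (S.s c) a = 1 :=
  (β_eq_one_iff (S.sR c) ha).2 (S.s_comm ha c).symm

theorem β_one_right {a : Γ} (ha : a ∈ S.R) : S.β a 1 = 1 := by simpa using β_s_right ha 1

theorem β_one_left {a : Γ} (ha : a ∈ S.R) : S.β 1 a = 1 := by simpa using β_s_left ha 1

theorem β_pow_left {a b : Γ} (ha : a ∈ S.R) (hb : b ∈ S.R) (k : ℕ) : S.β (a ^ k) b = S.β a b ^ k := by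
  induction k with
  | zero => rw [pow_zero, pow_zero, β_one_left hb]
  | succ k ih => rw [pow_succ, β_mul_left (pow_mem ha k) ha hb, ih, pow_succ]

theorem β_pow_right {a b : Γ} (ha : a ∈ S.R) (hb : b ∈ S.R) (k : ℕ) : S.β a (b ^ k) = S.β a b ^ k := by
  rw [β_swap (pow_mem hb k) ha, β_pow_left hb ha, β_swap hb ha, inv_pow]

theorem β_inv_left {a b : Γ} (ha : a ∈ S.R) (hb : b ∈ S.R) : S.β a⁻¹ b = (S.β a b)⁻¹ := by
  rw [eq_inv_iff_mul_eq_one, ← β_mul_left (inv_mem ha) ha hb, inv_mul_cancel, β_one_left hb]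

theorem β_inv_right {a b : Γ} (ha : a ∈ S.R) (hb : b ∈ S.R) : S.β a b⁻¹ = (S.β a b)⁻¹ := by
  rw [eq_inv_iff_mul_eq_one, ← β_mul_right ha (inv_mem hb) hb, inv_mul_cancel, β_one_right ha]

theorem conj_mem {g r : Γ} (hg : g ∈ normalizer (S.R : Set Γ)) (hr : r ∈ S.R) : g * r * g⁻¹ ∈ S.R :=
  (mem_normalizer_iff.1 hg r).1 hr

theorem β_conj {g a b : Γ} (hg : g ∈ normalizer (S.R : Set Γ)) (hl : S.Lin g) (ha : a ∈ S.R)
    (hb : b ∈ S.R) : S.β (g * a * g⁻¹) (g * b * g⁻¹) = S.β a b := by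
  apply β_eq (conj_mem hg ha) (conj_mem hg hb)
  calc g * a * g⁻¹ * (g * b * g⁻¹) = g * (a * b) * g⁻¹ := by group
    _ = (g * S.s (S.β a b) * g⁻¹) * (g * b * g⁻¹ * (g * a * g⁻¹)) := by rw [β_spec ha hb]; group
    _ = _ := by rw [hl.conj]

theorem smul_smul_β {a b : Γ} (ha : a ∈ S.R) (hb : b ∈ S.R) (v : V) :
    a • b • v = (S.β a b : K) • b • a • v := by
  rw [← mul_smul, β_spec ha hb, mul_smul, S.hs, mul_smul]

theorem conj_eq {a b : Γ} (ha : a ∈ S.R) (hb : b ∈ S.R) : a * b * a⁻¹ = S.s (S.β a b) * b := by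
  rw [β_spec ha hb]; group

theorem mul_pow_eq {a b : Γ} (ha : a ∈ S.R) (hb : b ∈ S.R) (k : ℕ) :
    (a * b) ^ k = S.s (S.β b a ^ (k.choose 2)) * (a ^ k * b ^ k) := by
  induction k with
  | zero => simp
  | succ k ih =>
    have h1 : b ^ k * a = S.s (S.β b a ^ k) * (a * b ^ k) := by
      rw [β_spec (pow_mem hb k) ha, β_pow_left hb ha]
    rw [pow_succ, ih, Nat.choose_succ_succ' k 1, Nat.choose_one_right, add_comm k, pow_add, map_mul]
    calc S.s (S.β b a ^ k.choose 2) * (a ^ k * b ^ k) * (a * b)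
        = S.s (S.β b a ^ k.choose 2) * (a ^ k * (b ^ k * a) * b) := by group
      _ = S.s (S.β b a ^ k.choose 2) * (a ^ k * S.s (S.β b a ^ k) * (a * b ^ k * b)) := by
        rw [h1]; group
      _ = _ := by rw [S.s_comm (pow_mem ha k)]; group

variable (S) in
/-- centraliser in `R` -/
def C (A : Subgroup Γ) : Subgroup Γ := S.R ⊓ centralizer (A : Set Γ)

variable (S) in
/-- `A` times the scalars -/
def D (A : Subgroup Γ) : Subgroup Γ := A ⊔ S.s.range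

theorem mem_C {A : Subgroup Γ} (hA : A ≤ S.R) {c : Γ} :
    c ∈ S.C A ↔ c ∈ S.R ∧ ∀ a ∈ A, S.β a c = 1 :=
  and_congr_right fun hc => forall₂_congr fun _ ha => (β_eq_one_iff (hA ha) hc).symm

theorem C_le (A : Subgroup Γ) : S.C A ≤ S.R := inf_le_left

theorem C_mono {A B : Subgroup Γ} (h : A ≤ B) : S.C B ≤ S.C A :=
  inf_le_inf_left _ (centralizer_le h)

theorem s_mem_C {A : Subgroup Γ} (hA : A ≤ S.R) (c : Kˣ) : S.s c ∈ S.C A :=
  (mem_C hA).2 ⟨S.sR c, fun _ ha => β_s_right (hA ha) c⟩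

theorem s_mem_D (A : Subgroup Γ) (c : Kˣ) : S.s c ∈ S.D A := mem_sup_right ⟨c, rfl⟩

theorem le_D (A : Subgroup Γ) : A ≤ S.D A := le_sup_left

theorem D_le {A B : Subgroup Γ} (h : A ≤ B) (hs : ∀ c, S.s c ∈ B) : S.D A ≤ B :=
  sup_le h (by rintro _ ⟨c, rfl⟩; exact hs c)

theorem D_mono {A B : Subgroup Γ} (h : A ≤ B) : S.D A ≤ S.D B := sup_le_sup_right h _

theorem mem_D {A : Subgroup Γ} (hA : A ≤ S.R) {r : Γ} :
    r ∈ S.D A ↔ ∃ c, ∃ a ∈ A, r = S.s c * a := by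
  constructor
  · intro h
    let B : Subgroup Γ :=
      { carrier := {r | ∃ c, ∃ a ∈ A, r = S.s c * a}
        one_mem' := ⟨1, 1, one_mem _, by simp⟩
        mul_mem' := by
          rintro _ _ ⟨c, a, ha, rfl⟩ ⟨c', a', ha', rfl⟩
          refine ⟨c * c', a * a', mul_mem ha ha', ?_⟩
          rw [map_mul, mul_assoc, ← mul_assoc a, S.s_comm (hA ha)]; group
        inv_mem' := by
          rintro _ ⟨c, a, ha, rfl⟩
          refine ⟨c⁻¹, a⁻¹, inv_mem ha, ?_⟩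
          rw [mul_inv_rev, ← map_inv, S.s_comm (inv_mem (hA ha))] }
    exact D_le (B := B) (fun a ha => ⟨1, a, ha, by simp⟩) (fun c => ⟨c, 1, one_mem _, by simp⟩) h
  · rintro ⟨c, a, ha, rfl⟩
    exact mul_mem (s_mem_D A c) (le_D A ha)

/-- subgroups of `R` containing the scalars are normal in `R` -/
theorem conj_mem_of {B : Subgroup Γ} (hB : B ≤ S.R) (hs : ∀ c, S.s c ∈ B) {r b : Γ} (hr : r ∈ S.R)
    (hb : b ∈ B) : r * b * r⁻¹ ∈ B := by
  rw [conj_eq hr (hB hb)]; exact mul_mem (hs _) hb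

theorem normal_subgroupOf {B Y : Subgroup Γ} (hB : B ≤ S.R) (hs : ∀ c, S.s c ∈ B) (hY : Y ≤ S.R) :
    (B.subgroupOf Y).Normal :=
  ⟨fun _ hb r => conj_mem_of hB hs (hY r.2) hb⟩

/-- counting through the pairing -/
theorem relIndex_le [Finite Γ] {X Y Y₀ : Subgroup Γ} (hX : X ≤ S.R) (hY : Y ≤ S.R) (hY₀ : Y₀ ≤ S.R)
    (hs : ∀ c, S.s c ∈ Y₀) (h : ∀ x ∈ X, ∀ y ∈ Y₀, S.β y x = 1) :
    (S.C Y).relIndex X ≤ Y₀.relIndex Y := by
  haveI := normal_subgroupOf hY₀ hs hY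
  let f : X → (Y →* Kˣ) := fun x => MonoidHom.mk' (fun y => S.β y x)
    fun a b => β_mul_left (hY a.2) (hY b.2) (hX x.2)
  let φ : X →* (Y ⧸ Y₀.subgroupOf Y →* Kˣ) := MonoidHom.mk'
    (fun x => QuotientGroup.lift _ (f x) fun y hy => h x x.2 y hy) fun a b => by
      ext y
      exact congrArg Units.val (β_mul_right (hY y.2) (hX a.2) (hX b.2))
  have hk : φ.ker = (S.C Y).subgroupOf X := by
    ext x
    rw [MonoidHom.mem_ker, mem_subgroupOf, mem_C hY]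
    constructor
    · exact fun e => ⟨hX x.2, fun y hy =>
        (DFunLike.congr_fun e (QuotientGroup.mk (⟨y, hy⟩ : Y)) :)⟩
    · intro e
      ext y
      exact congrArg Units.val (e.2 y y.2)
  obtain ⟨hf, hc⟩ := card_hom_le (Y ⧸ Y₀.subgroupOf Y) K
  rw [relIndex, ← hk, index_ker]
  exact (card_le_card_group _).trans hc

theorem C_R : S.C S.R = S.s.range := by
  apply le_antisymm
  · intro c hc
    obtain ⟨u, hu⟩ := S.nondeg c hc.1 fun r hr => (hc.2 r hr).symm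
    exact ⟨u, hu.symm⟩
  · rintro _ ⟨c, rfl⟩; exact s_mem_C le_rfl c

/-- double centraliser -/
theorem C_C [Finite Γ] {B : Subgroup Γ} (hB : B ≤ S.R) (hs : ∀ c, S.s c ∈ B) : S.C (S.C B) = B := by
  have hle : B ≤ S.C (S.C B) := fun b hb => ⟨hB hb, fun c hc => (hc.2 b hb).symm⟩
  have hS : S.s.range ≤ B := by rintro _ ⟨c, rfl⟩; exact hs c
  have h1 := relIndex_le (S := S) (X := S.R) (Y := B) (Y₀ := S.s.range) le_rfl hB (hS.trans hB)
    (fun c => ⟨c, rfl⟩) (by rintro x hx _ ⟨c, rfl⟩; exact β_s_left hx c)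
  have h2 := relIndex_le (S := S) (X := S.C (S.C B)) (Y := S.R) (Y₀ := S.C B) (C_le _) le_rfl (C_le _)
    (s_mem_C hB) (fun x hx y hy => ((mem_C (C_le B)).1 hx).2 y hy)
  rw [C_R] at h2
  have h3 := relIndex_mul_relIndex _ _ _ hS hle
  have h4 : S.s.range.relIndex B ≠ 0 := index_ne_zero_of_finite
  have h5 : B.relIndex (S.C (S.C B)) ≠ 0 := index_ne_zero_of_finite
  have h6 : B.relIndex (S.C (S.C B)) = 1 := by
    have : S.s.range.relIndex B * B.relIndex (S.C (S.C B)) ≤ S.s.range.relIndex B * 1 := by omega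
    have := Nat.le_of_mul_le_mul_left this (Nat.pos_of_ne_zero h4)
    omega
  exact le_antisymm (relIndex_eq_one.1 h6) hle

theorem C_D {A : Subgroup Γ} (hA : A ≤ S.R) : S.C (S.D A) = S.C A := by
  refine le_antisymm (C_mono (le_D A)) fun c hc => (mem_C (D_le hA S.sR)).2 ⟨hc.1, fun d hd => ?_⟩
  obtain ⟨u, a, ha, rfl⟩ := (mem_D hA).1 hd
  rw [β_mul_left (S.sR u) (hA ha) hc.1, β_s_left hc.1, ((mem_C hA).1 hc).2 a ha, one_mul]

theorem C_C_eq_D [Finite Γ] {A : Subgroup Γ} (hA : A ≤ S.R) : S.C (S.C A) = S.D A := by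
  rw [← C_D hA, C_C (D_le hA S.sR) (s_mem_D A)]

/-- prime parts -/
theorem exists_prime_part {B : Subgroup Γ} (hB : B ≤ S.R) (hs : ∀ c, S.s c ∈ B) {c : Γ} (hc : c ∈ S.R)
    (hcB : c ∉ B) : ∃ r k : ℕ, r.Prime ∧ r * k = S.n ∧ c ^ k ∉ B := by
  haveI := normal_subgroupOf hB hs le_rfl
  let x : S.R ⧸ B.subgroupOf S.R := QuotientGroup.mk ⟨c, hc⟩
  have key : ∀ k, x ^ k = 1 ↔ c ^ k ∈ B := fun k => by
    rw [← QuotientGroup.mk_pow, QuotientGroup.eq_one_iff, mem_subgroupOf]; rfl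
  have h1 : orderOf x ∣ S.n := by
    obtain ⟨u, hu⟩ := S.pow c hc
    exact orderOf_dvd_of_pow_eq_one ((key _).2 (hu ▸ hs u))
  have h2 : orderOf x ≠ 1 := fun h => hcB (by simpa using (key 1).1 (by simpa using h))
  obtain ⟨r, hr, hrd⟩ := Nat.exists_prime_and_dvd h2
  obtain ⟨k, hk⟩ := hrd.trans h1
  refine ⟨r, k, hr, hk.symm, fun h => ?_⟩
  have h3 := hrd.trans (orderOf_dvd_of_pow_eq_one ((key k).2 h))
  exact hr.not_isUnit (S.sqf r (hk ▸ Nat.mul_dvd_mul_left r h3))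

/-- `v` is fixed by `A` -/
def Fx (A : Subgroup Γ) (v : V) : Prop := ∀ a ∈ A, a • v = v

theorem Fx.smul_C {A : Subgroup Γ} {v : V} (h : Fx A v) {c : Γ} (hc : c ∈ S.C A) : Fx A (c • v) :=
  fun a ha => by rw [← mul_smul, hc.2 a ha, mul_smul, h a ha]

theorem Fx.add {A : Subgroup Γ} {v w : V} (h : Fx A v) (h' : Fx A w) : Fx A (v + w) :=
  fun a ha => by rw [smul_add, h a ha, h' a ha]

theorem Fx.neg {A : Subgroup Γ} {v : V} (h : Fx A v) : Fx A (-v) :=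
  fun a ha => by rw [smul_neg, h a ha]

theorem Fx.smul {A : Subgroup Γ} (hA : A ≤ S.R) {v : V} (h : Fx A v) (c : K) : Fx A (c • v) :=
  fun a ha => by rw [S.lin a (hA ha), h a ha]

theorem Fx.mono {A B : Subgroup Γ} (hAB : A ≤ B) {v : V} (h : Fx B v) : Fx A v :=
  fun a ha => h a (hAB ha)

theorem Fx.le_C {A : Subgroup Γ} (hA : A ≤ S.R) {v : V} (h : Fx A v) (hv : v ≠ 0) : A ≤ S.C A := by
  refine fun b hb => (mem_C hA).2 ⟨hA hb, fun a ha => S.s_eq_one hv ?_⟩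
  have := smul_smul_β (hA ha) (hA hb) v
  rw [h b hb, h a ha, h b hb] at this
  rw [S.hs, ← this]

theorem Fx.mem_C {A : Subgroup Γ} (hA : A ≤ S.R) {v : V} (h : Fx A v) (hv : v ≠ 0) {r : Γ}
    (hr : r ∈ S.R) (h' : Fx A (r • v)) : r ∈ S.C A := by
  refine (Sy.mem_C hA).2 ⟨hr, fun a ha => S.s_eq_one (v := r • v) (by rwa [Ne, smul_eq_zero_iff_eq]) ?_⟩
  have := smul_smul_β (hA ha) hr v
  rw [h' a ha, h a ha] at this
  rw [S.hs, ← this]

theorem Fx.card_ne_zero [Finite Γ] {A : Subgroup Γ} (hA : A ≤ S.R) {v : V} (h : Fx A v) (hv : v ≠ 0) :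
    (Nat.card A : K) ≠ 0 := by
  intro h0
  obtain ⟨p, hp⟩ := CharP.exists K
  have hd : p ∣ Nat.card A := (CharP.cast_eq_zero_iff K p _).1 h0
  rcases CharP.char_is_prime_or_zero K p with hpp | rfl
  · haveI := Fact.mk hpp
    obtain ⟨a, ha⟩ := exists_prime_orderOf_dvd_card' p hd
    have h1 : (a : Γ) ^ p = 1 := by rw [← coe_pow, ← ha, pow_orderOf_eq_one, coe_one]
    obtain ⟨c, hc⟩ := S.nondeg a (hA a.2) fun r hr => (β_eq_one_iff (hA a.2) hr).1 (by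
      have h2 : S.β a r ^ p = 1 := by rw [← β_pow_left (hA a.2) hr, h1, β_one_left hr]
      have h3 : ((S.β a r : K) - 1) ^ p = 0 := by
        rw [sub_pow_char, one_pow, ← Units.val_pow_eq_pow_val, h2, Units.val_one, sub_self]
      exact Units.ext (sub_eq_zero.1 (pow_eq_zero_iff hpp.ne_zero |>.1 h3)))
    have h4 : c = 1 := S.s_eq_one hv (hc ▸ h a a.2)
    have h5 : a = 1 := Subtype.ext (by rw [hc, h4, map_one]; rfl)
    rw [h5, orderOf_one] at ha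
    exact hpp.one_lt.ne ha
  · exact Nat.card_pos.ne' (Nat.eq_zero_of_zero_dvd hd)

/-- projection onto the component of a coset of `C A` -/
theorem exists_proj [Finite Γ] {A : Subgroup Γ} (hA : A ≤ S.R) {v₀ : V} (h : Fx A v₀) (hv : v₀ ≠ 0)
    {ρ₀ : Γ} (h₀ : ρ₀ ∈ S.R) : ∃ π : V →+ V, ∀ ρ ∈ S.R, ∀ v, Fx A v →
      (ρ₀⁻¹ * ρ ∈ S.C A → π (ρ • v) = ρ • v) ∧ (ρ₀⁻¹ * ρ ∉ S.C A → π (ρ • v) = 0) := by
  classical
  haveI := Fintype.ofFinite A
  have hn := Fx.card_ne_zero hA h hv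
  refine ⟨AddMonoidHom.mk' (fun v => (Nat.card A : K)⁻¹ • ρ₀ • ∑ a : A, (a : Γ) • ρ₀⁻¹ • v)
    (fun v w => by simp only [smul_add, Finset.sum_add_distrib]), fun ρ hρ v hv => ?_⟩
  have hm := mul_mem (inv_mem h₀) hρ
  have key : ∑ a : A, (a : Γ) • ρ₀⁻¹ • ρ • v = (∑ a : A, (S.β a (ρ₀⁻¹ * ρ) : K)) • ρ₀⁻¹ • ρ • v := by
    rw [Finset.sum_smul]
    refine Finset.sum_congr rfl fun a _ => ?_
    rw [← mul_smul ρ₀⁻¹, smul_smul_β (hA a.2) hm, hv a a.2]
  simp only [AddMonoidHom.mk'_apply, key]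
  constructor
  · intro hc
    rw [Finset.sum_congr rfl fun (a : A) _ => congrArg Units.val (((mem_C hA).1 hc).2 a a.2)]
    simp only [Units.val_one, Finset.sum_const, Finset.card_univ, nsmul_eq_mul, mul_one]
    rw [S.lin ρ₀ h₀, smul_inv_smul, ← Nat.card_eq_fintype_card, smul_smul, inv_mul_cancel₀ hn, one_smul]
  · intro hc
    let f : A →* K := (Units.coeHom K).comp (MonoidHom.mk' (fun a : A => S.β a (ρ₀⁻¹ * ρ))
      fun a b => β_mul_left (hA a.2) (hA b.2) hm)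
    have hf : f ≠ 1 := fun e => hc ((mem_C hA).2 ⟨hm, fun a ha =>
      Units.ext (DFunLike.congr_fun e (⟨a, ha⟩ : A) :)⟩)
    have : ∑ a : A, (S.β a (ρ₀⁻¹ * ρ) : K) = 0 := sum_hom_units_eq_zero f hf
    rw [this, zero_smul, smul_zero, smul_zero]

end Sy

end Cfsg.Lib.SL
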