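import Cfsg.Agent.Lib.Char.Burnside

/-!
Transport of local structures along a colouring, and counting of regular orbits.
-/

set_option autoImplicit false
set_option linter.style.haveILetI false

namespace Cfsg.Lib.SL

open Subgroup MulAction

theorem transport {X E J C : Type*} [Group X] [MulAction X E] [MulAction X J] (p : E → J)
    (hp : ∀ (a : X) e, p (a • e) = a • p e) (Good : E → Prop) (hG : ∀ (a : X) e, Good e → Good (a • e))
    (mult : ∀ j, ∃ f : C → E, (∀ c, p (f c) = j ∧ Good (f c)) ∧ ∀ c c' (a : X), a • f c = f c' → c = c')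
    (col : J → C) : ∃ s : J → E, (∀ j, p (s j) = j ∧ Good (s j)) ∧
      ∀ (a : X) j, a • s j = s (a • j) → col (a • j) = col j := by
  choose f hf hf' using mult
  let rep : J → J := fun j => (Quotient.mk (orbitRel X J) j).out
  have h1 : ∀ j, ∃ g : X, g • rep j = j := fun j =>
    (orbitRel X J).symm (Quotient.mk_out (s := orbitRel X J) j)
  have h2 : ∀ (a : X) j, rep (a • j) = rep j := fun a j =>
    congrArg Quotient.out (Quotient.sound (mem_orbit j a))
  choose g hg using h1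
  refine ⟨fun j => g j • f (rep j) (col j), fun j => ⟨by rw [hp, (hf _ _).1, hg], hG _ _ (hf _ _).2⟩,
    fun a j e => (hf' (rep j) _ _ ((g (a • j))⁻¹ * a * g j) ?_).symm⟩
  simp only [h2] at e
  rw [mul_smul, mul_smul, e, inv_smul_smul]

theorem derivedSeries_top {P : Type*} [Group P] (hP : commutator P = ⊤) (n : ℕ) : derivedSeries P n = ⊤ := by
  induction n with
  | zero => rfl
  | succ n ih => rw [derivedSeries_succ, ih]; exact hP

theorem mult_perfect {X P E : Type*} [Group X] [Group.IsSolvable X] [Group P] [Finite P] [MulAction X E]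
    [MulAction P E] (hc : ∀ (a : X) (π : P) (e : E), a • π • e = π • a • e) (hP : commutator P = ⊤) {t : E}
    {π : P} (hπ : π • t ≠ t) : ∃ f : Fin 5 → P, ∀ i j (a : X), a • f i • t = f j • t → i = j := by
  classical
  let T : Subgroup P :=
    { carrier := {π | ∃ a : X, a • π • t = t}
      one_mem' := ⟨1, by simp⟩
      mul_mem' := fun {π ρ} ⟨a, ha⟩ ⟨b, hb⟩ => ⟨a * b, by rw [mul_smul, mul_smul, hc b, hb, ha]⟩
      inv_mem' := fun {π} ⟨a, ha⟩ => ⟨a⁻¹, by rw [inv_smul_eq_iff, inv_smul_eq_iff, ← hc, ha]⟩ }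
  haveI := Fintype.ofFinite (P ⧸ T)
  by_cases h5 : 5 ≤ Fintype.card (P ⧸ T)
  · obtain ⟨φ⟩ := Function.Embedding.nonempty_of_card_le (α := Fin 5) (β := P ⧸ T) (by simpa using h5)
    refine ⟨fun i => (φ i).out, fun i j a e => φ.injective ?_⟩
    rw [← (φ i).out_eq', ← (φ j).out_eq', eq_comm, QuotientGroup.eq]
    exact ⟨a, by rw [mul_smul, hc, e, inv_smul_smul]⟩
  exfalso
  haveI := Char.isSolvable_of_card_dvd_pow_mul_pow (Equiv.Perm (P ⧸ T)) Nat.prime_two Nat.prime_three
    (a := 3) (b := 1) (by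
      rw [Nat.card_eq_fintype_card, Fintype.card_perm]
      exact Nat.factorial_dvd_factorial (n := 4) (by omega))
  have h1 : ∀ ρ, ρ ∈ T := fun ρ => by
    obtain ⟨n, hn⟩ := Group.IsSolvable.solvable (G := Equiv.Perm (P ⧸ T))
    have := map_derivedSeries_le_derivedSeries (toPermHom P (P ⧸ T)) n
      ⟨ρ, derivedSeries_top hP n ▸ mem_top ρ, rfl⟩
    rw [hn, mem_bot] at this
    have h2 : ((ρ * 1 : P) : P ⧸ T) = (1 : P) := DFunLike.congr_fun this ((1 : P) : P ⧸ T)
    simpa using QuotientGroup.eq.1 h2.symm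
  let S : Subgroup (X × P) :=
    { carrier := {σ | σ.1 • σ.2 • t = t}
      one_mem' := by simp
      mul_mem' := fun {σ τ} ha hb => by
        change (σ.1 * τ.1) • (σ.2 * τ.2) • t = t
        rw [mul_smul, mul_smul, hc τ.1, hb, ha]
      inv_mem' := fun {σ} ha => by
        change σ.1⁻¹ • σ.2⁻¹ • t = t
        rw [inv_smul_eq_iff, inv_smul_eq_iff, ← hc, ha] }
  obtain ⟨n, hn⟩ := Group.IsSolvable.solvable (G := X)
  obtain ⟨σ, hσ, rfl⟩ := derivedSeries_le_map_derivedSeries (f := (MonoidHom.snd X P).comp S.subtype)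
    (fun ρ => by obtain ⟨a, ha⟩ := h1 ρ; exact ⟨⟨(a, ρ), ha⟩, rfl⟩) n (derivedSeries_top hP n ▸ mem_top π)
  have h2 := map_derivedSeries_le_derivedSeries ((MonoidHom.fst X P).comp S.subtype) n ⟨σ, hσ, rfl⟩
  rw [hn, mem_bot] at h2
  have h3 : σ.1.1 • σ.1.2 • t = t := σ.2
  rw [show σ.1.1 = 1 from h2, one_smul] at h3
  exact hπ h3

theorem fix_of_pow {X E : Type*} [Group X] [MulAction X E] {a : X} {k : ℕ} (hk : k.Coprime (orderOf a))
    {e : E} (h : a ^ k • e = e) : a • e = e :=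
  zpowers_le.2 (show a ^ k ∈ stabilizer X e from h) (mem_zpowers_pow_iff.2 hk)

theorem mult_prime {X E : Type*} [Group X] [MulAction X E] {p : ℕ} (hp : p.Prime) (hX : ¬ p ∣ Nat.card X)
    (π : Equiv.Perm E) (hπ : π ^ p = 1) (hc : ∀ (a : X) e, π (a • e) = a • π e) {t : E}
    (ht : ∀ a : X, a • t = t → ∀ e : E, a • e = e) (hne : π t ≠ t) {i j : ℕ} (hi : i < p) (hj : j < p)
    (a : X) (e : a • (π ^ i) t = (π ^ j) t) : i = j := by
  have h1 : ∀ (k : ℕ) (a : X) e, (π ^ k) (a • e) = a • (π ^ k) e := fun k a => by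
    induction k with
    | zero => simp
    | succ k ih => intro e; rw [pow_succ, Equiv.Perm.mul_apply, hc, ih, Equiv.Perm.mul_apply]
  have h2 : a • t = (π ^ (p - i + j)) t := by
    rw [pow_add, Equiv.Perm.mul_apply, ← e, h1, ← Equiv.Perm.mul_apply, ← pow_add, Nat.sub_add_cancel hi.le,
      hπ, Equiv.Perm.one_apply]
  have h3 : ∀ n : ℕ, a ^ n • t = ((π ^ (p - i + j)) ^ n) t := fun n => by
    induction n with
    | zero => simp
    | succ n ih => rw [pow_succ, mul_smul, h2, ← h1, ih, pow_succ', Equiv.Perm.mul_apply]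
  have h4 := fix_of_pow ((hp.coprime_iff_not_dvd.2 hX).coprime_dvd_right (orderOf_dvd_natCard a))
    (ht (a ^ p) (by rw [h3, ← pow_mul, mul_comm, pow_mul, hπ, one_pow, Equiv.Perm.one_apply]) t)
  rw [h2] at h4
  by_contra hij
  refine hne (fix_of_pow (a := π) (Nat.Coprime.coprime_dvd_right (orderOf_dvd_of_pow_eq_one hπ)
    (Nat.Coprime.symm (hp.coprime_iff_not_dvd.2 fun ⟨c, hc⟩ => ?_))) h4)
  obtain rfl | rfl | h : c = 0 ∨ c = 1 ∨ 2 ≤ c := by omega
  · omega
  · omega
  · have := Nat.mul_le_mul_left p h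
    omega

end Cfsg.Lib.SL
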